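import Groth.Agent.RelPC.Closed
import Groth.Agent.DerivedCoh.TildeD.Iff
import Groth.Agent.PCohHom.Hom
import Groth.Agent.PropsBasic2.TildePullback
import Groth.Agent.PropsBasic2.TildeExact
import Groth.Agent.DAlg.Classes
import Groth.Prelude.Def_DerSch2

/-!
Charts as closed immersions; affine closed immersions with pseudo-coherent structure module.
-/

universe u

open CategoryTheory CategoryTheory.Limits CategoryTheory.Pretriangulated AlgebraicGeometry TopologicalSpace
open Groth.KTheory.Perf (Rd Rc rdQIso exists_rep)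
open Groth.DerivedCoh.PCoh (Near Below)

namespace Groth.RelPC

attribute [local instance] HasDerivedCategory.standard

section Comp

universe w₁ w₂ w₃ v₁ v₂ v₃ u₁ u₂ u₃

variable {A : Type u₁} [Category.{v₁} A] [Abelian A] [HasDerivedCategory.{w₁} A]
  {B : Type u₂} [Category.{v₂} B] [Abelian B] [HasDerivedCategory.{w₂} B]
  {C : Type u₃} [Category.{v₃} C] [Abelian C] [HasDerivedCategory.{w₃} C]
  (F : A ⥤ B) (G : B ⥤ C) (H : A ⥤ C)
  [F.Additive] [PreservesFiniteLimits F] [PreservesFiniteColimits F]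
  [G.Additive] [PreservesFiniteLimits G] [PreservesFiniteColimits G]
  [H.Additive] [PreservesFiniteLimits H] [PreservesFiniteColimits H]

theorem nonempty_mapDerived_comp (e : F ⋙ G ≅ H) (K : DerivedCategory A) :
    Nonempty (G.mapDerivedCategory.obj (F.mapDerivedCategory.obj K) ≅ H.mapDerivedCategory.obj K) := by
  let M := DerivedCategory.Q.objPreimage K
  let i : DerivedCategory.Q.obj M ≅ K := DerivedCategory.Q.objObjPreimageIso K
  exact ⟨G.mapDerivedCategory.mapIso (F.mapDerivedCategory.mapIso i.symm ≪≫ F.mapDerivedCategoryFactors.app M) ≪≫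
    G.mapDerivedCategoryFactors.app ((F.mapHomologicalComplex (ComplexShape.up ℤ)).obj M) ≪≫
    DerivedCategory.Q.mapIso ((NatIso.mapHomologicalComplex e (ComplexShape.up ℤ)).app M) ≪≫
    (H.mapDerivedCategoryFactors.app M).symm ≪≫ H.mapDerivedCategory.mapIso i⟩

end Comp

variable {X P Q : Scheme.{u}}

theorem nonempty_pdComp (i : X ⟶ P) (j : P ⟶ Q) [IsClosedImmersion i] [IsClosedImmersion j] (K : DCoh.D X) :
    Nonempty ((Pd j).obj ((Pd i).obj K) ≅ (Pd (i ≫ j)).obj K) :=
  nonempty_mapDerived_comp _ _ _ (Scheme.Modules.pushforwardComp i j) K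

/-- Pseudo-coherence of a direct image factored through a pseudo-coherent closed immersion. -/
theorem pcD_pd_comp_iff (i : X ⟶ P) (j : P ⟶ Q) [IsClosedImmersion i] [IsClosedImmersion j] (hj : PCImm j)
    (c : X ⟶ Q) [IsClosedImmersion c] (hc : i ≫ j = c) (m : ℤ) (K : DCoh.D X) :
    DCoh.IsPseudoCoherentD m ((Pd c).obj K) ↔ DCoh.IsPseudoCoherentD m ((Pd i).obj K) := by
  subst hc
  obtain ⟨e⟩ := nonempty_pdComp i j K
  rw [← pcD_push_iff hj]
  exact ⟨Groth.DerivedCoh.PCoh.isPseudoCoherentD_of_iso e.symm, Groth.DerivedCoh.PCoh.isPseudoCoherentD_of_iso e⟩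

theorem isClosedImmersion_chartImm {U : X.Opens} (hU : IsAffineOpen U) {R : Type u} [CommRing R] {n : ℕ}
    (φ : MvPolynomial (Fin n) R →+* Γ(X, U)) (hφ : Function.Surjective φ) :
    IsClosedImmersion (DerSch.chartImm U φ) := by
  haveI : IsIso U.toSpecΓ := hU.isoSpec_hom ▸ inferInstance
  haveI := IsClosedImmersion.spec_of_surjective (CommRingCat.ofHom φ) hφ
  unfold DerSch.chartImm
  infer_instance

theorem chartPC_iff {Y : Scheme.{u}} {U : X.Opens} {V : Y.Opens} (hU : IsAffineOpen U) {n : ℕ}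
    (φ : MvPolynomial (Fin n) Γ(Y, V) →+* Γ(X, U)) [IsClosedImmersion (DerSch.chartImm U φ)] (m : ℤ) (K : DCoh.D X) :
    DerSch.ChartPC m K U V φ ↔
      DCoh.IsPseudoCoherentD m ((Pd (DerSch.chartImm U φ)).obj ((Rd U.ι).obj K)) := by
  have key : ∀ G : CochainComplex X.Modules ℤ, (DCoh.toD X G ≅ K) →
      ((Pd (DerSch.chartImm U φ)).obj ((Rd U.ι).obj K) ≅
        DCoh.toD (Spec (CommRingCat.of (MvPolynomial (Fin n) Γ(Y, V))))
          ((DerSch.pushCx (DerSch.chartImm U φ)).obj ((DCoh.restrictCx U).obj G))) := fun G e =>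
    (Pd (DerSch.chartImm U φ)).mapIso ((Rd U.ι).mapIso e.symm ≪≫ rdQIso U.ι G) ≪≫
      pdQIso (DerSch.chartImm U φ) ((Rc U.ι).obj G)
  constructor
  · intro h
    obtain ⟨G, ⟨e⟩⟩ := exists_rep K
    exact Groth.DerivedCoh.PCoh.isPseudoCoherentD_of_iso (key G e).symm (h G ⟨e⟩)
  · rintro h G ⟨e⟩
    exact Groth.DerivedCoh.PCoh.isPseudoCoherentD_of_iso (key G e) h

section Spec

variable {S T : Type u} [CommRing S] [CommRing T]

theorem nonempty_push_tilde {R R' : CommRingCat.{u}} (φ : R ⟶ R') (M : ModuleCat R') :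
    Nonempty ((Scheme.Modules.pushforward (Spec.map φ)).obj ((tilde.functor R').obj M) ≅
      (tilde.functor R).obj ((ModuleCat.restrictScalars φ.hom).obj M)) := by
  haveI : IsIso ((tilde.functor R').obj M).fromTildeΓ := isIso_fromTildeΓ_iff.mpr ⟨_, ⟨Iso.refl _⟩⟩
  haveI := isIso_fromTildeΓ_pushforward φ ((tilde.functor R').obj M)
  exact ⟨(asIso ((Scheme.Modules.pushforward (Spec.map φ)).obj ((tilde.functor R').obj M)).fromTildeΓ).symm ≪≫
    (tilde.functor R).mapIso ((Groth.PropsBasic2.TildePullback.app φ ((tilde.functor R').obj M)).symm ≪≫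
      (ModuleCat.restrictScalars φ.hom).mapIso ((tilde.toTildeΓNatIso (R := R')).app M).symm)⟩

/-- `T` as an `S`-module along `θ`. -/
noncomputable def restrictSelfIso (θ : S →+* T) :
    letI := θ.toAlgebra
    (ModuleCat.restrictScalars θ).obj (ModuleCat.of T T) ≅ ModuleCat.of S T :=
  letI := θ.toAlgebra
  LinearEquiv.toModuleIso
    { toFun := fun x => x
      invFun := fun x => x
      left_inv := fun _ => rfl
      right_inv := fun _ => rfl
      map_add' := fun _ _ => rfl
      map_smul' := fun _ _ => rfl }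

theorem nonempty_push_structure_iso (θ : S →+* T) :
    letI := θ.toAlgebra
    Nonempty ((Scheme.Modules.pushforward (Spec.map (CommRingCat.ofHom θ))).obj
        (Coh.structureModule (Spec (CommRingCat.of T))) ≅ (tilde.functor (CommRingCat.of S)).obj (ModuleCat.of S T)) := by
  letI := θ.toAlgebra
  obtain ⟨e⟩ := nonempty_push_tilde (CommRingCat.ofHom θ) (ModuleCat.of T T)
  exact ⟨(Scheme.Modules.pushforward _).mapIso (tildeSelf (R := CommRingCat.of T)).symm ≪≫ e ≪≫
    (tilde.functor (CommRingCat.of S)).mapIso (restrictSelfIso θ)⟩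

/-- A surjection with pseudo-coherent target gives a pseudo-coherent closed immersion. -/
theorem pcImm_spec (θ : S →+* T) (hθ : Groth.PCohHom.PCAlong θ) :
    PCImm (Spec.map (CommRingCat.ofHom θ)) := fun m => by
  letI := θ.toAlgebra
  haveI := Groth.PropsBasic2.preservesFiniteLimits_tilde (R := CommRingCat.of S)
  haveI := Groth.DerivedCoh.TildeD.preservesFiniteColimits S
  obtain ⟨e⟩ := nonempty_push_structure_iso θ
  have h : DRing.IsPseudoCoherent S m (Dual.inD S T) := Groth.DAlg.isPseudoCoherent'_iff_forall.1 hθ m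
  refine Groth.DerivedCoh.PCoh.isPseudoCoherentD_of_iso ?_
    ((Groth.DerivedCoh.TildeD.isPseudoCoherentD_tildeD_iff _ m).2 h)
  exact ((tilde.functor (CommRingCat.of S)).mapDerivedCategoryFactors.app _) ≪≫
    DerivedCategory.Q.mapIso ((HomologicalComplex.singleMapHomologicalComplex (tilde.functor (CommRingCat.of S))
      (ComplexShape.up ℤ) 0).app (ModuleCat.of S T) ≪≫
      (HomologicalComplex.single (Spec (CommRingCat.of S)).Modules (ComplexShape.up ℤ) 0).mapIso e.symm)

end Spec

end Groth.RelPC
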