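import Groth.Agent.RelPC.Rel
import Groth.Agent.QCohMod.Category
import Groth.Agent.QCohMod.PullbackQCoh
import Groth.Agent.LocCohBase.HomExtend

/-!
Relatively pseudo-coherent objects have quasi-coherent cohomology in high degrees.
-/

universe u

open CategoryTheory CategoryTheory.Limits AlgebraicGeometry TopologicalSpace
open Groth.KTheory.Perf (Rd rdQIso nonempty_hdRd)

namespace Groth.RelPC

attribute [local instance] HasDerivedCategory.standard

theorem isQCoh_scHomology {X : Scheme.{u}} (S : ShortComplex X.Modules) [S.X₁.IsQuasicoherent]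
    [S.X₂.IsQuasicoherent] [S.X₃.IsQuasicoherent] : S.homology.IsQuasicoherent := by
  haveI : S.cycles.IsQuasicoherent :=
    Groth.QCohMod.isQCoh_of_mono_exact (S := ShortComplex.mk S.iCycles S.g S.iCycles_g)
      (ShortComplex.exact_of_f_is_kernel _ S.cyclesIsKernel)
  exact Groth.QCohMod.isQCoh_of_epi_exact (S := ShortComplex.mk S.toCycles S.homologyπ S.toCycles_comp_homologyπ)
    (ShortComplex.exact_of_g_is_cokernel _ S.homologyIsCokernel)

/-- The cohomology of an `m`-pseudo-coherent object is quasi-coherent above `m`. -/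
theorem isQCoh_hd_of_pcD {X : Scheme.{u}} {m : ℤ} {K : DCoh.D X} (h : DCoh.IsPseudoCoherentD m K) {i : ℤ}
    (hi : m < i) : (DCoh.HD K i).IsQuasicoherent :=
  Groth.QCohMod.isQCoh_of_forall_exists _ fun x => by
    obtain ⟨V, hx, E, α, hE, hα⟩ := (Groth.DerivedCoh.PCoh.isPseudoCoherentD_iff m K).1 h x
    obtain ⟨c⟩ := nonempty_hdRd V.ι K i
    haveI := hα.1 i hi
    haveI := fun k => Groth.LocCohBase.HomExtend.isQCoh_of_isFinLocFree (hE.2 k)
    haveI : (E.sc i).X₁.IsQuasicoherent := Groth.LocCohBase.HomExtend.isQCoh_of_isFinLocFree (hE.2 _)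
    haveI : (E.sc i).X₂.IsQuasicoherent := Groth.LocCohBase.HomExtend.isQCoh_of_isFinLocFree (hE.2 _)
    haveI : (E.sc i).X₃.IsQuasicoherent := Groth.LocCohBase.HomExtend.isQCoh_of_isFinLocFree (hE.2 _)
    exact ⟨V, hx, (Groth.QCohMod.isQCoh_iff_of_iso (((DerivedCategory.homologyFunctorFactors _ i).app E).symm ≪≫
      asIso ((DerivedCategory.homologyFunctor _ i).map α) ≪≫ c)).1 (isQCoh_scHomology (E.sc i))⟩

theorem isQCoh_hd_of_rel {X Y : Scheme.{u}} {f : X ⟶ Y} {m : ℤ} {E : DCoh.D X}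
    (hE : DerSch.IsPseudoCoherentRel f m E) {i : ℤ} (hi : m < i) : (DCoh.HD E i).IsQuasicoherent :=
  Groth.QCohMod.isQCoh_of_forall_exists _ fun x => by
    haveI := hE.1
    obtain ⟨V, hV, hxV, -⟩ := exists_isAffineOpen_mem_and_subset (U := (⊤ : Y.Opens)) (x := f x) trivial
    obtain ⟨U, hU, hxU, hUV⟩ := exists_isAffineOpen_mem_and_subset (U := f ⁻¹ᵁ V) (x := x) hxV
    obtain ⟨n, φ, hφ⟩ := exists_chart (f := f) hUV (f.finiteType_appLE hV hU hUV)
    haveI := isClosedImmersion_chartImm hU φ hφ.1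
    obtain ⟨c⟩ := nonempty_hdRd U.ι E i
    obtain ⟨d⟩ := nonempty_hdPd (DerSch.chartImm U φ) ((Rd U.ι).obj E) i
    haveI : ((Scheme.Modules.pushforward (DerSch.chartImm U φ)).obj
        (DCoh.HD ((Rd U.ι).obj E) i)).IsQuasicoherent :=
      (Groth.QCohMod.isQCoh_iff_of_iso d).1 (isQCoh_hd_of_pcD (pcD_chart_of_rel hE hU hV hφ) hi)
    exact ⟨U, hxU, (Groth.QCohMod.isQCoh_iff_of_iso
      (asIso ((Scheme.Modules.pullbackPushforwardAdjunction (DerSch.chartImm U φ)).counit.app _) ≪≫ c)).1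
        (Groth.QCohMod.isQCoh_pullback_obj _ _)⟩

end Groth.RelPC
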