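import Groth.Agent.RelPC.Rel
import Groth.Agent.RelPC.QCoh
import Groth.Agent.QCohMod.QCQS
import Groth.Agent.PropsBasic.FPSections
import Groth.Agent.RelFP.Scheme

/-!
Relative pseudo-coherence of a module in degrees `0` and `-1`.
-/

universe u

open CategoryTheory CategoryTheory.Limits CategoryTheory.Pretriangulated AlgebraicGeometry TopologicalSpace Opposite
open Groth.KTheory.Perf (Rd)
open Groth.DerivedCoh.PCoh (Near)

namespace Groth.RelPC

attribute [local instance] HasDerivedCategory.standard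

theorem near_inD_of_epi {X : Scheme.{u}} {M N : X.Modules} (π : M ⟶ N) [Epi π] :
    Near 0 ((DerivedCategory.singleFunctor X.Modules 0).map π) :=
  ⟨fun i hi => ⟨⟨0, (Groth.DerivedCoh.PCoh.hd_inD_eq_zero _ hi.ne').eq_of_src _ _,
      (Groth.DerivedCoh.PCoh.hd_inD_eq_zero _ hi.ne').eq_of_src _ _⟩⟩,
    ((MorphismProperty.epimorphisms X.Modules).arrow_mk_iso_iff
      (((Functor.mapArrowFunctor _ _).mapIso
        (DerivedCategory.singleFunctorCompHomologyFunctorIso X.Modules 0)).app (Arrow.mk π))).2 ‹_›⟩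

/-- A direct image along a closed immersion of affine schemes of the structure sheaf is of finite type. -/
theorem pcD_zero_push_structure {S T : Type u} [CommRing S] [CommRing T] (θ : S →+* T) (hθ : Function.Surjective θ) :
    CohB1.IsFT ((Scheme.Modules.pushforward (Spec.map (CommRingCat.ofHom θ))).obj
      (Coh.structureModule (Spec (CommRingCat.of T)))) := by
  letI := θ.toAlgebra
  obtain ⟨e⟩ := nonempty_push_structure_iso θ
  haveI : Module.Finite S T := Module.Finite.of_surjective (Algebra.linearMap S T) hθ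
  exact Groth.QCohMod.isFT_of_iso e.symm
    ((Groth.PropsBasic.FPSections.isFT_tilde_iff (R := CommRingCat.of S) (ModuleCat.of S T)).2 ‹_›)

variable {X Y : Scheme.{u}} {f : X ⟶ Y}

theorem pcD_zero_chart_structure {U : X.Opens} {V : Y.Opens} (hU : IsAffineOpen U) {n : ℕ}
    (φ : MvPolynomial (Fin n) Γ(Y, V) →+* Γ(X, U)) (hφ : Function.Surjective φ)
    [IsClosedImmersion (DerSch.chartImm U φ)] :
    DCoh.IsPseudoCoherentD 0
      ((Pd (DerSch.chartImm U φ)).obj (DCoh.inD (U : Scheme.{u}) (Coh.structureModule (U : Scheme.{u})))) := by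
  haveI := IsClosedImmersion.spec_of_surjective (CommRingCat.ofHom φ) hφ
  haveI : IsIso U.toSpecΓ := hU.isoSpec_hom ▸ inferInstance
  obtain ⟨s⟩ := nonempty_rdPd_square (Spec.map (CommRingCat.ofHom φ)) (DerSch.chartImm U φ) (𝟙 _) U.toSpecΓ
    (by rw [Category.comp_id]; rfl) (fun x _ => ⟨(inv U.toSpecΓ) x, by
      rw [← Scheme.Hom.comp_apply, IsIso.inv_hom_id]; rfl⟩) (DCoh.inD _ (Coh.structureModule (Spec Γ(X, U))))
  refine Groth.DerivedCoh.PCoh.isPseudoCoherentD_of_iso (s ≪≫ (Pd _).mapIso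
    (Groth.DerivedCoh.PCoh.rdInDIso U.toSpecΓ _ ≪≫ (DerivedCategory.singleFunctor _ 0).mapIso
      (Scheme.Modules.restrictUnitIso U.toSpecΓ))) ?_
  exact pcD_rd _ (Groth.DerivedCoh.PCoh.isPseudoCoherentD_of_iso (pdInDIso _ _).symm
    (Groth.DerivedCoh.PCoh.isPseudoCoherentD_of_isFT (pcD_zero_push_structure φ hφ)))

/-- Modules of finite type are `0`-pseudo-coherent relative to the base. -/
theorem rel_zero_of_isFT [LocallyOfFiniteType f] {M : X.Modules} (hM : CohB1.IsFT M) :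
    DerSch.IsPseudoCoherentRel f 0 (DCoh.inD X M) := by
  refine rel_of_local fun x => ?_
  obtain ⟨O, hxO, G, hG⟩ := Groth.QCohMod.exists_generators_of_isFT _ hM x
  obtain ⟨V, hV, hxV, -⟩ := exists_isAffineOpen_mem_and_subset (U := (⊤ : Y.Opens)) (x := f x) trivial
  obtain ⟨U, hU, hxU, hUle⟩ := exists_isAffineOpen_mem_and_subset (U := O ⊓ f ⁻¹ᵁ V) (x := x) ⟨hxO, hxV⟩
  have hUO : U ≤ O := fun y hy => (hUle hy).1
  have hUV : U ≤ f ⁻¹ᵁ V := fun y hy => (hUle hy).2
  obtain ⟨n, φ, hφ⟩ := exists_chart (f := f) hUV (f.finiteType_appLE hV hU hUV)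
  haveI := isClosedImmersion_chartImm hU φ hφ.1
  refine ⟨U, V, hxU, hU, hV, hUV, n, φ, hφ, (chartPC_iff hU φ 0 _).2 ?_⟩
  let G' := Groth.QCohMod.genRestrict (X.homOfLE hUO) G
  haveI : Finite G.I := hG
  haveI : Finite G'.I := hG
  let π : Groth.LocFree.freeOn (U : Scheme.{u}) G'.I ⟶ (M.restrict O.ι).restrict (X.homOfLE hUO) := G'.π
  haveI : Epi π := G'.epi
  let e : (M.restrict O.ι).restrict (X.homOfLE hUO) ≅ M.restrict U.ι :=
    ((Scheme.Modules.restrictFunctorComp _ _).app M).symm ≪≫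
      (Scheme.Modules.restrictFunctorCongr (X.homOfLE_ι hUO)).app M
  haveI : Epi (π ≫ e.hom) := epi_comp _ _
  refine Groth.DerivedCoh.PCoh.isPseudoCoherentD_of_iso
    ((Pd _).mapIso (Groth.DerivedCoh.PCoh.rdInDIso U.ι M).symm) (pcD_of_near (near_pd _ (near_inD_of_epi (π ≫ e.hom))) ?_)
  cases nonempty_fintype G'.I
  refine Groth.DerivedCoh.PCoh.isPseudoCoherentD_of_iso ((Pd _).mapIso ((DerivedCategory.singleFunctor _ 0).mapIso
    (Sigma.whiskerEquiv (g := fun _ : G'.I => Coh.structureModule (U : Scheme.{u}))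
      (Fintype.equivFin G'.I).symm fun _ => Iso.refl _))) ?_
  refine prop_sigma_finite (fun N : (U : Scheme.{u}).Modules =>
    DCoh.IsPseudoCoherentD 0 ((Pd (DerSch.chartImm U φ)).obj (DCoh.inD _ N)))
    (fun a h => Groth.DerivedCoh.PCoh.isPseudoCoherentD_of_iso
      ((Pd _).mapIso ((DerivedCategory.singleFunctor _ 0).mapIso a)) h)
    (fun N hN => pcD_of_below fun k _ => (DerivedCategory.homologyFunctor _ k).map_isZero
      ((Pd _).map_isZero ((DerivedCategory.singleFunctor _ 0).map_isZero hN)))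
    (fun A B hA hB => ?_) _ _ fun _ => pcD_zero_chart_structure hU φ hφ.1
  have hS : (ShortComplex.mk (biprod.inl : A ⟶ A ⊞ B) biprod.snd (by simp)).ShortExact :=
    ShortComplex.Splitting.shortExact { r := biprod.fst, s := biprod.inr }
  exact Groth.DerivedCoh.PCoh.isPseudoCoherentD_obj₂ _
    ((Pd _).map_distinguished _ hS.singleTriangle_distinguished) hA hB

theorem pcD_push_inD_iff {U : Scheme.{u}} {P : Scheme.{u}} (i : U ⟶ P) [IsClosedImmersion i] (m : ℤ) (N : U.Modules) :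
    DCoh.IsPseudoCoherentD m ((Pd i).obj (DCoh.inD U N)) ↔
      DCoh.IsPseudoCoherentD m (DCoh.inD P ((Scheme.Modules.pushforward i).obj N)) :=
  ⟨Groth.DerivedCoh.PCoh.isPseudoCoherentD_of_iso (pdInDIso i N),
    Groth.DerivedCoh.PCoh.isPseudoCoherentD_of_iso (pdInDIso i N).symm⟩

theorem isFT_of_rel_zero {M : X.Modules} (h : DerSch.IsPseudoCoherentRel f 0 (DCoh.inD X M)) :
    CohB1.IsFT M := by
  haveI := h.1
  have key : ∀ x : X, ∃ (U : X.Opens) (G : (M.restrict U.ι).GeneratingSections), x ∈ U ∧ Finite G.I := by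
    intro x
    obtain ⟨V, hV, hxV, -⟩ := exists_isAffineOpen_mem_and_subset (U := (⊤ : Y.Opens)) (x := f x) trivial
    obtain ⟨U, hU, hxU, hUV⟩ := exists_isAffineOpen_mem_and_subset (U := f ⁻¹ᵁ V) (x := x) hxV
    obtain ⟨n, φ, hφ⟩ := exists_chart (f := f) hUV (f.finiteType_appLE hV hU hUV)
    haveI := isClosedImmersion_chartImm hU φ hφ.1
    have h1 := (Groth.DerivedCoh.PCoh.pseudoCoherent_inD_iff _).1.1 ((pcD_push_inD_iff _ 0 (M.restrict U.ι)).1
      (Groth.DerivedCoh.PCoh.isPseudoCoherentD_of_iso ((Pd _).mapIso (Groth.DerivedCoh.PCoh.rdInDIso U.ι M))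
        (pcD_chart_of_rel h hU hV hφ)))
    have h2 := Groth.QCohMod.isFT_of_iso (asIso ((Scheme.Modules.pullbackPushforwardAdjunction
      (DerSch.chartImm U φ)).counit.app _)) (Groth.QCohMod.isFT_pullback (DerSch.chartImm U φ) _ h1)
    obtain ⟨W, hW, G, hG⟩ := Groth.QCohMod.exists_generators_of_isFT _ h2 (⟨x, hxU⟩ : U)
    let e : (M.restrict U.ι).restrict W.ι ≅ (M.restrict (U.ι ''ᵁ W).ι).restrict (U.ι.isoImage W).hom :=
      ((Scheme.Modules.restrictFunctorComp _ _).app M).symm ≪≫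
        (Scheme.Modules.restrictFunctorCongr (U.ι.isoImage_hom_ι W).symm).app M ≪≫
        (Scheme.Modules.restrictFunctorComp _ _).app M
    let G₁ := Groth.QCohMod.genRestrict (U.ι.isoImage W).inv G
    let a := (Scheme.Modules.restrictFunctor (U.ι.isoImage W).inv).mapIso e ≪≫
      ((Scheme.Modules.restrictFunctorComp _ _).app (M.restrict (U.ι ''ᵁ W).ι)).symm ≪≫
      (Scheme.Modules.restrictFunctorCongr (U.ι.isoImage W).inv_hom_id).app _ ≪≫
      Scheme.Modules.restrictFunctorId.app _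
    haveI : Epi (C := SheafOfModules.{u} _) a.hom := inferInstanceAs (Epi a.hom)
    exact ⟨U.ι ''ᵁ W, G₁.ofEpi a.hom, ⟨⟨x, hxU⟩, hW, rfl⟩, hG⟩
  choose U G hU hG using key
  exact Groth.QCohMod.isFT_of_cover M U (fun x => ⟨x, hU x⟩) G hG

theorem isFP_iff_sections (R : CommRingCat.{u}) (G : (Spec R).Modules) [G.IsQuasicoherent] :
    CohB1.IsFP G ↔ Module.FinitePresentation R (moduleSpecΓFunctor.obj G : ModuleCat R) := by
  rw [← Groth.PropsBasic.FPSections.isFP_tilde_iff]
  haveI : IsIso G.fromTildeΓ := Scheme.Modules.isIso_fromTildeΓ_of_isQuasicoherent G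
  exact ⟨(SheafOfModules.isFinitePresentation (Spec R).ringCatSheaf).prop_of_iso (@asIso _ _ _ _ G.fromTildeΓ (Scheme.Modules.isIso_fromTildeΓ_of_isQuasicoherent G)).symm,
    (SheafOfModules.isFinitePresentation (Spec R).ringCatSheaf).prop_of_iso (@asIso _ _ _ _ G.fromTildeΓ (Scheme.Modules.isIso_fromTildeΓ_of_isQuasicoherent G))⟩

theorem smul_push_spec {Z : Scheme.{u}} {R : CommRingCat.{u}} (c : Z ⟶ Spec R) (N : Z.Modules) (r : R)
    (x : Γ((Scheme.Modules.pushforward c).obj N, (⊤ : (Spec R).Opens))) :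
    r • x = (c.appTop ((Scheme.ΓSpecIso R).inv r) • (show Γ(N, (⊤ : Z.Opens)) from x) :) := by
  show (c.app ⊤ ((Spec R).presheaf.map (⊤ : (Spec R).Opens).leTop.op ((Scheme.ΓSpecIso R).inv r))) •
      (show Γ(N, c ⁻¹ᵁ (⊤ : (Spec R).Opens)) from x) = _
  rw [Subsingleton.elim (⊤ : (Spec R).Opens).leTop (𝟙 _), op_id, CategoryTheory.Functor.map_id]
  rfl

section FP

variable {U : X.Opens} {V : Y.Opens} {n : ℕ}

theorem chartImm_appTop (φ : MvPolynomial (Fin n) Γ(Y, V) →+* Γ(X, U)) (p : MvPolynomial (Fin n) Γ(Y, V)) :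
    (DerSch.chartImm U φ).appTop ((Scheme.ΓSpecIso (CommRingCat.of (MvPolynomial (Fin n) Γ(Y, V)))).inv p) =
      U.topIso.inv (φ p) := by
  have h : (Scheme.ΓSpecIso (CommRingCat.of (MvPolynomial (Fin n) Γ(Y, V)))).inv ≫ (DerSch.chartImm U φ).appTop =
      CommRingCat.ofHom φ ≫ U.topIso.inv := by
    rw [DerSch.chartImm, Scheme.Hom.comp_appTop, Scheme.Opens.toSpecΓ_appTop]
    erw [Scheme.ΓSpecIso_naturality_assoc, Iso.inv_hom_id_assoc]
  exact congr($h p)

theorem isFP_push_chart_iff (hU : IsAffineOpen U) (φ : MvPolynomial (Fin n) Γ(Y, V) →+* Γ(X, U))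
    (hφ : Function.Surjective φ) (M : X.Modules) [M.IsQuasicoherent] :
    CohB1.IsFP ((Scheme.Modules.pushforward (DerSch.chartImm U φ)).obj (M.restrict U.ι)) ↔
      (letI : Module (MvPolynomial (Fin n) Γ(Y, V)) Γ(M, U) := Module.compHom Γ(M, U) φ
       Module.FinitePresentation (MvPolynomial (Fin n) Γ(Y, V)) Γ(M, U)) := by
  haveI := isClosedImmersion_chartImm hU φ hφ
  haveI := (Groth.QCohMod.isQCoh_pushforward (M := M.restrict U.ι) (DerSch.chartImm U φ))
  rw [isFP_iff_sections]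
  letI : Module (MvPolynomial (Fin n) Γ(Y, V)) Γ(M, U) := Module.compHom Γ(M, U) φ
  have hle : U ≤ U.ι ''ᵁ (⊤ : (U : Scheme.{u}).Opens) := U.ι_image_top.ge
  have hge : U.ι ''ᵁ (⊤ : (U : Scheme.{u}).Opens) ≤ U := U.ι_image_top.le
  let a : (moduleSpecΓFunctor.obj ((Scheme.Modules.pushforward (DerSch.chartImm U φ)).obj (M.restrict U.ι)) :
      ModuleCat (CommRingCat.of (MvPolynomial (Fin n) Γ(Y, V)))) ≃ₗ[MvPolynomial (Fin n) Γ(Y, V)] Γ(M, U) :=
    { toFun := fun x => Groth.QCohMod.res M hle (show Γ(M, U.ι ''ᵁ (⊤ : (U : Scheme.{u}).Opens)) from x)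
      invFun := fun y => Groth.QCohMod.res M hge y
      left_inv := fun x => (Groth.QCohMod.res_res M _ _ _).trans (Groth.QCohMod.res_self M _)
      right_inv := fun x => (Groth.QCohMod.res_res M _ _ _).trans (Groth.QCohMod.res_self M _)
      map_add' := fun _ _ => map_add _ _ _
      map_smul' := fun p x => by
        refine (congrArg (Groth.QCohMod.res M hle) (smul_push_spec (DerSch.chartImm U φ) (M.restrict U.ι) p x)).trans ?_
        rw [chartImm_appTop]
        refine (Groth.QCohMod.res_smul M hle ((U.ι.appIso ⊤).inv (U.topIso.inv (φ p))) _).trans ?_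
        refine congrArg₂ (· • ·) ?_ rfl
        simp only [Scheme.Opens.ι_appIso, Iso.refl_inv, CommRingCat.id_apply]
        exact (congr($((X.presheaf.map_comp _ _).symm) (φ p))).trans
          (congr($(X.presheaf.map_id (op U)) (φ p))) }
  exact ⟨fun h => Module.FinitePresentation.of_equiv a, fun h => Module.FinitePresentation.of_equiv a.symm⟩

end FP

end Groth.RelPC
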