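import Groth.Agent.RelPC.Local

/-!
Basic properties of relative pseudo-coherence.
-/

universe u

open CategoryTheory CategoryTheory.Limits CategoryTheory.Pretriangulated AlgebraicGeometry TopologicalSpace
open Groth.KTheory.Perf (Rd)

namespace Groth.RelPC

attribute [local instance] HasDerivedCategory.standard

variable {X Y : Scheme.{u}} {f : X ⟶ Y}

theorem rel_iff (m : ℤ) (E : DCoh.D X) :
    DerSch.IsPseudoCoherentRel f m E ↔ LocallyOfFiniteType f ∧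
      ∀ (U : X.affineOpens) (V : Y.affineOpens), (U : X.Opens) ≤ f ⁻¹ᵁ (V : Y.Opens) →
        ChartOn f m E (U : X.Opens) (V : Y.Opens) := by
  refine ⟨fun hE => ⟨hE.1, fun U V h => chartOn_of_rel hE U.2 V.2 h⟩, fun ⟨hf, hE⟩ => ⟨hf, Set.univ, ?_, fun V _ => ?_⟩⟩
  · rw [iSup_univ, iSup_affineOpens_eq_top]
  · refine ⟨{U | (U : X.Opens) ≤ f ⁻¹ᵁ (V : Y.Opens)}, le_antisymm (iSup₂_le fun U hU => hU) fun x hx => ?_,
      fun U hU h => (hE U V h).choose_spec⟩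
    obtain ⟨U, hU, hxU, hUV⟩ := exists_isAffineOpen_mem_and_subset hx
    exact Opens.mem_iSup.2 ⟨⟨U, hU⟩, Opens.mem_iSup.2 ⟨hUV, hxU⟩⟩

/-- A family of charts covering the source gives relative pseudo-coherence. -/
theorem rel_of_local [LocallyOfFiniteType f] {m : ℤ} {E : DCoh.D X}
    (hE : ∀ x : X, ∃ (U : X.Opens) (V : Y.Opens), x ∈ U ∧ IsAffineOpen U ∧ IsAffineOpen V ∧ ChartOn f m E U V) :
    DerSch.IsPseudoCoherentRel f m E := by
  refine (rel_iff m E).2 ⟨‹_›, fun U V h => ?_⟩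
  have key : ∀ x ∈ (U : X.Opens), ∃ g : Γ(X, (U : X.Opens)),
      x ∈ X.basicOpen g ∧ ChartOn f m E (X.basicOpen g) (V : Y.Opens) := by
    intro x hx
    obtain ⟨B, A, hxB, hB, hA, hBE⟩ := hE x
    have hBA := hBE.1
    obtain ⟨r, r', hr, hxr⟩ := exists_basicOpen_le_affine_inter V.2 hA (f x) ⟨h hx, hBA hxB⟩
    have h₁ := chartOn_basicOpen hB hBE (f.appLE A B hBA r')
    have hle : X.basicOpen (f.appLE A B hBA r') ≤ f ⁻¹ᵁ Y.basicOpen r' := by
      rw [Scheme.basicOpen_appLE]; exact inf_le_right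
    have h₂ := (chartOn_base_iff (hB.basicOpen _) hA r' hle m E).2 h₁
    have hxU₂ : x ∈ X.basicOpen (f.appLE A B hBA r') := by
      rw [Scheme.basicOpen_appLE]; exact ⟨hxB, hr ▸ hxr⟩
    obtain ⟨g, g', hg, hxg⟩ := exists_basicOpen_le_affine_inter U.2 (hB.basicOpen _) x ⟨hx, hxU₂⟩
    refine ⟨g, hxg, ?_⟩
    rw [hg]
    have h₃ := chartOn_basicOpen (hB.basicOpen _) h₂ g'
    rw [← hr] at h₃
    exact (chartOn_base_iff ((hB.basicOpen _).basicOpen g') V.2 r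
      (hr ▸ (X.basicOpen_le g').trans hle) m E).1 h₃
  choose g hxg hg using key
  exact chartOn_of_cover U.2 h (f.finiteType_appLE V.2 U.2 h) (fun x : (U : X.Opens) => g x.1 x.2)
    (fun x hx => Opens.mem_iSup.2 ⟨⟨x, hx⟩, hxg x hx⟩) fun x => hg x.1 x.2

/-- Transfer of properties of absolute pseudo-coherence, chart by chart. -/
theorem rel_map [LocallyOfFiniteType f] {m : ℤ} {E : DCoh.D X}
    (h : ∀ (U : X.affineOpens) (V : Y.affineOpens) (n : ℕ)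
      (φ : MvPolynomial (Fin n) Γ(Y, (V : Y.Opens)) →+* Γ(X, (U : X.Opens))) (hh : (U : X.Opens) ≤ f ⁻¹ᵁ (V : Y.Opens))
      [IsClosedImmersion (DerSch.chartImm (U : X.Opens) φ)], DerSch.IsChart f U V hh φ →
      DCoh.IsPseudoCoherentD m ((Pd (DerSch.chartImm (U : X.Opens) φ)).obj ((Rd (U : X.Opens).ι).obj E))) :
    DerSch.IsPseudoCoherentRel f m E := by
  refine (rel_iff m E).2 ⟨‹_›, fun U V hh => ?_⟩
  obtain ⟨n, φ, hφ⟩ := exists_chart hh (f.finiteType_appLE V.2 U.2 hh)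
  haveI := isClosedImmersion_chartImm U.2 φ hφ.1
  exact ⟨hh, n, φ, hφ, (chartPC_iff U.2 φ m E).2 (h U V n φ hh hφ)⟩

theorem pcD_chart_of_rel {m : ℤ} {E : DCoh.D X} (hE : DerSch.IsPseudoCoherentRel f m E) {U : X.Opens} {V : Y.Opens}
    (hU : IsAffineOpen U) (hV : IsAffineOpen V) {n : ℕ} {φ : MvPolynomial (Fin n) Γ(Y, V) →+* Γ(X, U)}
    {h : U ≤ f ⁻¹ᵁ V} (hφ : DerSch.IsChart f U V h φ) [IsClosedImmersion (DerSch.chartImm U φ)] :
    DCoh.IsPseudoCoherentD m ((Pd (DerSch.chartImm U φ)).obj ((Rd U.ι).obj E)) :=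
  (chartPC_iff hU φ m E).1 ((chartOn_iff hU h φ hφ m E).1 (chartOn_of_rel hE hU hV h))

theorem rel_of_iso {m : ℤ} {E E' : DCoh.D X} (e : E ≅ E') (h : DerSch.IsPseudoCoherentRel f m E) :
    DerSch.IsPseudoCoherentRel f m E' :=
  haveI := h.1
  rel_map fun U V n φ hh _ hφ => Groth.DerivedCoh.PCoh.isPseudoCoherentD_of_iso
    ((Rd (U : X.Opens).ι ⋙ Pd (DerSch.chartImm (U : X.Opens) φ)).mapIso e) (pcD_chart_of_rel h U.2 V.2 hφ)

theorem rel_mono {m m' : ℤ} {E : DCoh.D X} (h : DerSch.IsPseudoCoherentRel f m E) (hm : m ≤ m') :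
    DerSch.IsPseudoCoherentRel f m' E :=
  haveI := h.1
  rel_map fun U V n φ hh _ hφ => pcD_mono (pcD_chart_of_rel h U.2 V.2 hφ) hm

theorem rel_of_below [LocallyOfFiniteType f] {m : ℤ} {E : DCoh.D X} (h : Groth.DerivedCoh.PCoh.Below m E) :
    DerSch.IsPseudoCoherentRel f m E :=
  rel_map fun U V n φ hh _ hφ => pcD_of_below (below_pd _ (Groth.DerivedCoh.PCoh.below_rd _ h))

theorem rel_obj₂ {m : ℤ} (T : Triangle (DCoh.D X)) (hT : T ∈ distTriang _)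
    (h₁ : DerSch.IsPseudoCoherentRel f m T.obj₁) (h₃ : DerSch.IsPseudoCoherentRel f m T.obj₃) :
    DerSch.IsPseudoCoherentRel f m T.obj₂ :=
  haveI := h₁.1
  rel_map fun U V n φ hh _ hφ => Groth.DerivedCoh.PCoh.isPseudoCoherentD_obj₂ _
    ((Rd (U : X.Opens).ι ⋙ Pd (DerSch.chartImm (U : X.Opens) φ)).map_distinguished T hT)
    (pcD_chart_of_rel h₁ U.2 V.2 hφ) (pcD_chart_of_rel h₃ U.2 V.2 hφ)

theorem rel_obj₃ {m : ℤ} (T : Triangle (DCoh.D X)) (hT : T ∈ distTriang _)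
    (h₁ : DerSch.IsPseudoCoherentRel f (m + 1) T.obj₁) (h₂ : DerSch.IsPseudoCoherentRel f m T.obj₂) :
    DerSch.IsPseudoCoherentRel f m T.obj₃ :=
  haveI := h₁.1
  rel_map fun U V n φ hh _ hφ => Groth.DerivedCoh.PCoh.isPseudoCoherentD_obj₃ _
    ((Rd (U : X.Opens).ι ⋙ Pd (DerSch.chartImm (U : X.Opens) φ)).map_distinguished T hT)
    (pcD_chart_of_rel h₁ U.2 V.2 hφ) (pcD_chart_of_rel h₂ U.2 V.2 hφ)

theorem rel_obj₁ {m : ℤ} (T : Triangle (DCoh.D X)) (hT : T ∈ distTriang _)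
    (h₂ : DerSch.IsPseudoCoherentRel f (m + 1) T.obj₂) (h₃ : DerSch.IsPseudoCoherentRel f m T.obj₃) :
    DerSch.IsPseudoCoherentRel f (m + 1) T.obj₁ :=
  haveI := h₂.1
  rel_map fun U V n φ hh _ hφ => Groth.DerivedCoh.PCoh.isPseudoCoherentD_obj₁ _
    ((Rd (U : X.Opens).ι ⋙ Pd (DerSch.chartImm (U : X.Opens) φ)).map_distinguished T hT)
    (pcD_chart_of_rel h₂ U.2 V.2 hφ) (pcD_chart_of_rel h₃ U.2 V.2 hφ)

theorem rel_summands {m : ℤ} (E K : DCoh.D X) [HasBinaryBiproduct E K]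
    (h : DerSch.IsPseudoCoherentRel f m (E ⊞ K)) :
    DerSch.IsPseudoCoherentRel f m E ∧ DerSch.IsPseudoCoherentRel f m K := by
  haveI := h.1
  constructor <;> refine rel_map fun U V n φ hh _ hφ => ?_
  all_goals
    let F := Rd (U : X.Opens).ι ⋙ Pd (DerSch.chartImm (U : X.Opens) φ)
    have h' : DCoh.IsPseudoCoherentD m (F.obj (E ⊞ K)) := pcD_chart_of_rel h U.2 V.2 hφ
    haveI : F.Additive := inferInstance
    haveI : PreservesBinaryBiproduct E K F := (preservesBinaryBiproducts_of_preservesBiproducts F).preserves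
    obtain ⟨hE, hK⟩ := Groth.DerivedCoh.PCoh.isPseudoCoherentD_summands (F.obj E) (F.obj K)
      (Groth.DerivedCoh.PCoh.isPseudoCoherentD_of_iso (F.mapBiprod E K) h')
  · exact hE
  · exact hK

theorem rel_shift {m : ℤ} {E : DCoh.D X} (h : DerSch.IsPseudoCoherentRel f m E) (n m' : ℤ) (hm : m - n = m') :
    DerSch.IsPseudoCoherentRel f m' (E⟦n⟧) :=
  haveI := h.1
  rel_map fun U V _ φ hh _ hφ => Groth.DerivedCoh.PCoh.isPseudoCoherentD_of_iso
    (((Rd (U : X.Opens).ι ⋙ Pd (DerSch.chartImm (U : X.Opens) φ)).commShiftIso n).app E).symm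
    (Groth.DerivedCoh.PCoh.isPseudoCoherentD_shift (pcD_chart_of_rel h U.2 V.2 hφ) n m' hm)

end Groth.RelPC
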