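import Groth.Agent.RelPC.Comp
import Groth.Agent.RelPC.QCoh

/-!
`n`-pseudo-coherence of a morphism for every `n` and pseudo-coherence of its ring maps.
-/

universe u

open CategoryTheory CategoryTheory.Limits AlgebraicGeometry TopologicalSpace
open Groth.KTheory.Perf (Rd rdQIso nonempty_rdComp)

namespace Groth.RelPC

attribute [local instance] HasDerivedCategory.standard

theorem pcAlong_of_pcImm {S T : Type u} [CommRing S] [CommRing T] (θ : S →+* T)
    (h : PCImm (Spec.map (CommRingCat.ofHom θ))) : Groth.PCohHom.PCAlong θ := by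
  letI := θ.toAlgebra
  haveI := Groth.PropsBasic2.preservesFiniteLimits_tilde (R := CommRingCat.of S)
  haveI := Groth.DerivedCoh.TildeD.preservesFiniteColimits S
  obtain ⟨e⟩ := nonempty_push_structure_iso θ
  refine Groth.DAlg.isPseudoCoherent'_iff_forall.2 fun m => ?_
  refine (Groth.DerivedCoh.TildeD.isPseudoCoherentD_tildeD_iff _ m).1 ?_
  refine Groth.DerivedCoh.PCoh.isPseudoCoherentD_of_iso (Iso.symm ?_) (h m)
  exact ((tilde.functor (CommRingCat.of S)).mapDerivedCategoryFactors.app _) ≪≫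
    DerivedCategory.Q.mapIso ((HomologicalComplex.singleMapHomologicalComplex (tilde.functor (CommRingCat.of S))
      (ComplexShape.up ℤ) 0).app (ModuleCat.of S T) ≪≫
      (HomologicalComplex.single (Spec (CommRingCat.of S)).Modules (ComplexShape.up ℤ) 0).mapIso e.symm)

variable {X Y : Scheme.{u}}

theorem pcMor_of_npc (g : X ⟶ Y) (hg : ∀ n : ℤ, DerSch.IsNPseudoCoherent g n) :
    MoreMor.IsPseudoCoherentMor g := fun U V hU hV h => by
  haveI := (hg 0).1
  letI := (g.appLE V U h).hom.toAlgebra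
  obtain ⟨n, φ, hφ⟩ := exists_chart (f := g) h (g.finiteType_appLE hV hU h)
  let a : MvPolynomial (Fin n) Γ(Y, V) →ₐ[Γ(Y, V)] Γ(X, U) :=
    { φ with commutes' := fun r => RingHom.congr_fun hφ.2 r }
  refine ⟨n, a, hφ.1, ?_⟩
  refine (show Groth.PCohHom.PCAlong φ → _ from fun h => h) (pcAlong_of_pcImm φ fun m => ?_)
  haveI := isClosedImmersion_chartImm hU φ hφ.1
  haveI := IsClosedImmersion.spec_of_surjective (CommRingCat.ofHom φ) hφ.1
  haveI : IsIso U.toSpecΓ := hU.isoSpec_hom ▸ inferInstance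
  obtain ⟨s⟩ := nonempty_rdPd_square (Spec.map (CommRingCat.ofHom φ)) (DerSch.chartImm U φ) (𝟙 _) U.toSpecΓ
    (by rw [Category.comp_id]; rfl) (fun x _ => ⟨(inv U.toSpecΓ) x, by
      rw [← Scheme.Hom.comp_apply, IsIso.inv_hom_id]; rfl⟩) (DCoh.inD _ (Coh.structureModule (Spec Γ(X, U))))
  let eO : (Rd U.toSpecΓ).obj (DCoh.inD _ (Coh.structureModule (Spec Γ(X, U)))) ≅
      (Rd U.ι).obj (DCoh.inD X (Coh.structureModule X)) :=
    Groth.DerivedCoh.PCoh.rdInDIso U.toSpecΓ _ ≪≫ (DerivedCategory.singleFunctor _ 0).mapIso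
      (Scheme.Modules.restrictUnitIso U.toSpecΓ ≪≫ (Scheme.Modules.restrictUnitIso U.ι).symm) ≪≫
      (Groth.DerivedCoh.PCoh.rdInDIso U.ι _).symm
  refine Groth.DerivedCoh.PCoh.isPseudoCoherentD_of_iso (pdInDIso (Spec.map (CommRingCat.ofHom φ)) _) ?_
  rw [← pcD_rd_iso_iff (𝟙 _) m]
  exact Groth.DerivedCoh.PCoh.isPseudoCoherentD_of_iso ((Pd _).mapIso eO.symm ≪≫ s.symm)
    (pcD_chart_of_rel (rel_of_iso ((DerivedCategory.singleFunctorIsoCompQ _ 0).app _).symm (hg m)) hU hV hφ)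

end Groth.RelPC
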