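import Groth.Agent.RelPC.Open

/-!
Relative pseudo-coherence over pseudo-coherent morphisms: closed immersions and composites.
-/

universe u

open CategoryTheory CategoryTheory.Limits AlgebraicGeometry TopologicalSpace
open Groth.KTheory.Perf (Rd rdQIso exists_rep nonempty_rdComp)

namespace Groth.RelPC

attribute [local instance] HasDerivedCategory.standard

section Id

universe w v₁ u₁

variable {A : Type u₁} [Category.{v₁} A] [Abelian A] [HasDerivedCategory.{w} A]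
  (F : A ⥤ A) [F.Additive] [PreservesFiniteLimits F] [PreservesFiniteColimits F]

theorem nonempty_mapDerived_id (e : F ≅ 𝟭 A) (K : DerivedCategory A) :
    Nonempty (F.mapDerivedCategory.obj K ≅ K) := by
  let M := DerivedCategory.Q.objPreimage K
  let i : DerivedCategory.Q.obj M ≅ K := DerivedCategory.Q.objObjPreimageIso K
  exact ⟨F.mapDerivedCategory.mapIso i.symm ≪≫ F.mapDerivedCategoryFactors.app M ≪≫
    DerivedCategory.Q.mapIso ((NatIso.mapHomologicalComplex e (ComplexShape.up ℤ)).app M ≪≫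
      (Functor.mapHomologicalComplexIdIso A (ComplexShape.up ℤ)).app M) ≪≫ i⟩

end Id

theorem pcD_pd_comp_iso_iff {X P Q : Scheme.{u}} (i : X ⟶ P) [IsClosedImmersion i] (e : P ⟶ Q) [IsIso e]
    (c : X ⟶ Q) [IsClosedImmersion c] (hc : i ≫ e = c) (m : ℤ) (K : DCoh.D X) :
    DCoh.IsPseudoCoherentD m ((Pd c).obj K) ↔ DCoh.IsPseudoCoherentD m ((Pd i).obj K) := by
  subst hc
  obtain ⟨s⟩ := nonempty_rdPd_square (i ≫ e) i e (𝟙 X) (Category.id_comp _) (fun x _ => ⟨x, rfl⟩) K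
  obtain ⟨t⟩ := nonempty_mapDerived_id _ (Scheme.Modules.restrictFunctorId (X := X)) K
  rw [← pcD_rd_iso_iff e m ((Pd (i ≫ e)).obj K)]
  exact ⟨Groth.DerivedCoh.PCoh.isPseudoCoherentD_of_iso (s ≪≫ (Pd i).mapIso t),
    Groth.DerivedCoh.PCoh.isPseudoCoherentD_of_iso ((Pd i).mapIso t.symm ≪≫ s.symm)⟩

variable {X Y : Scheme.{u}} {f : X ⟶ Y}

/-- A chart factored through a pseudo-coherent algebra. -/
theorem chartOn_iff_of_factor {U : X.Opens} {V : Y.Opens} (hU : IsAffineOpen U) (h : U ≤ f ⁻¹ᵁ V) {Q : Type u}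
    [CommRing Q] [Algebra Γ(Y, V) Q] (hQ : MoreMor.IsPseudoCoherentHom Γ(Y, V) Q) (q : Q →+* Γ(X, U))
    (hq : Function.Surjective q) (hc : q.comp (algebraMap Γ(Y, V) Q) = (f.appLE V U h).hom)
    [IsClosedImmersion (U.toSpecΓ ≫ Spec.map (CommRingCat.ofHom q))] (m : ℤ) (E : DCoh.D X) :
    ChartOn f m E U V ↔
      DCoh.IsPseudoCoherentD m ((Pd (U.toSpecΓ ≫ Spec.map (CommRingCat.ofHom q))).obj ((Rd U.ι).obj E)) := by
  have := Groth.PCohHom.finiteType_of_pcHom hQ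
  obtain ⟨n, s, hs⟩ := Algebra.FiniteType.iff_quotient_mvPolynomial''.1 this
  have hψ : DerSch.IsChart f U V h (q.comp s.toRingHom) := by
    refine ⟨hq.comp hs, ?_⟩
    rw [RingHom.comp_assoc, show s.toRingHom.comp MvPolynomial.C = algebraMap Γ(Y, V) Q from s.comp_algebraMap, hc]
  rw [chartOn_iff hU _ _ hψ, chartPC_iff_of_factor hU hQ q hq s hs]

theorem chartOn_closed_iff {P S : Scheme.{u}} (i : X ⟶ P) [IsClosedImmersion i] (g : P ⟶ S) {W : P.Opens}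
    {V : S.Opens} (hW : IsAffineOpen W) (h : W ≤ g ⁻¹ᵁ V)
    (hQ : letI := (g.appLE V W h).hom.toAlgebra; MoreMor.IsPseudoCoherentHom Γ(S, V) Γ(P, W))
    (m : ℤ) (E : DCoh.D X) :
    ChartOn (i ≫ g) m E (i ⁻¹ᵁ W) V ↔ DCoh.IsPseudoCoherentD m ((Rd W.ι).obj ((Pd i).obj E)) := by
  letI := (g.appLE V W h).hom.toAlgebra
  have hU : IsAffineOpen (i ⁻¹ᵁ W) := hW.preimage i
  have h' : i ⁻¹ᵁ W ≤ (i ≫ g) ⁻¹ᵁ V := i.preimage_mono h
  have hq : Function.Surjective (i.app W).hom := i.app_surjective W hW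
  haveI : IsIso W.toSpecΓ := hW.isoSpec_hom ▸ inferInstance
  have heq : (i ⁻¹ᵁ W).toSpecΓ ≫ Spec.map (CommRingCat.ofHom (i.app W).hom) = i ∣_ W ≫ W.toSpecΓ :=
    Scheme.Opens.toSpecΓ_naturality i W
  haveI : IsClosedImmersion ((i ⁻¹ᵁ W).toSpecΓ ≫ Spec.map (CommRingCat.ofHom (i.app W).hom)) := by
    rw [heq]; infer_instance
  rw [chartOn_iff_of_factor hU h' hQ (i.app W).hom hq
    (congrArg CommRingCat.Hom.hom (show g.appLE V W h ≫ i.app W = (i ≫ g).appLE V (i ⁻¹ᵁ W) h' by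
      rw [Scheme.Hom.app_eq_appLE, Scheme.Hom.appLE_comp_appLE])),
    pcD_pd_comp_iso_iff (i ∣_ W) W.toSpecΓ _ heq.symm]
  obtain ⟨c⟩ := nonempty_rdPd i W E
  exact ⟨Groth.DerivedCoh.PCoh.isPseudoCoherentD_of_iso c.symm, Groth.DerivedCoh.PCoh.isPseudoCoherentD_of_iso c⟩

theorem rel_closed_iff {P S : Scheme.{u}} (i : X ⟶ P) [IsClosedImmersion i] (g : P ⟶ S) [LocallyOfFiniteType g]
    (hg : MoreMor.IsPseudoCoherentMor g) (m : ℤ) (E : DCoh.D X) :
    DerSch.IsPseudoCoherentRel (i ≫ g) m E ↔ DCoh.IsPseudoCoherentD m ((Pd i).obj E) := by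
  constructor
  · intro hE
    refine Groth.DerivedCoh.PCoh.isPseudoCoherentD_of_local fun y => ?_
    obtain ⟨V, hV, hyV, -⟩ := exists_isAffineOpen_mem_and_subset (U := (⊤ : S.Opens)) (x := g y) trivial
    obtain ⟨W, hW, hyW, hWV⟩ := exists_isAffineOpen_mem_and_subset (U := g ⁻¹ᵁ V) (x := y) hyV
    exact ⟨W, hyW, (chartOn_closed_iff i g hW hWV (hg W V hW hV hWV) m E).1
      (chartOn_of_rel hE (hW.preimage i) hV (i.preimage_mono hWV))⟩
  · intro hE
    refine rel_of_local fun x => ?_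
    obtain ⟨V, hV, hxV, -⟩ := exists_isAffineOpen_mem_and_subset (U := (⊤ : S.Opens)) (x := g (i x)) trivial
    obtain ⟨W, hW, hxW, hWV⟩ := exists_isAffineOpen_mem_and_subset (U := g ⁻¹ᵁ V) (x := i x) hxV
    exact ⟨i ⁻¹ᵁ W, V, hxW, hW.preimage i, hV,
      (chartOn_closed_iff i g hW hWV (hg W V hW hV hWV) m E).2 (pcD_rd _ hE)⟩

theorem rel_abs_iff {P S : Scheme.{u}} (g : P ⟶ S) [LocallyOfFiniteType g]
    (hg : MoreMor.IsPseudoCoherentMor g) (m : ℤ) (E : DCoh.D P) :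
    DerSch.IsPseudoCoherentRel g m E ↔ DCoh.IsPseudoCoherentD m E := by
  have h := rel_closed_iff (𝟙 P) g hg m E
  rw [Category.id_comp] at h
  obtain ⟨t⟩ := nonempty_mapDerived_id _ (Scheme.Modules.pushforwardId P) E
  exact h.trans ⟨Groth.DerivedCoh.PCoh.isPseudoCoherentD_of_iso t,
    Groth.DerivedCoh.PCoh.isPseudoCoherentD_of_iso t.symm⟩

theorem chartOn_trans_iff {T S : Scheme.{u}} (a : X ⟶ T) [LocallyOfFiniteType a] (b : T ⟶ S) {U : X.Opens}
    {W : T.Opens} {V : S.Opens} (hU : IsAffineOpen U) (hW : IsAffineOpen W) (hUW : U ≤ a ⁻¹ᵁ W) (h : W ≤ b ⁻¹ᵁ V)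
    (hQ : letI := (b.appLE V W h).hom.toAlgebra; MoreMor.IsPseudoCoherentHom Γ(S, V) Γ(T, W))
    (m : ℤ) (E : DCoh.D X) : ChartOn (a ≫ b) m E U V ↔ ChartOn a m E U W := by
  letI := (b.appLE V W h).hom.toAlgebra
  obtain ⟨n, φ, hφ⟩ := exists_chart (f := a) hUW (a.finiteType_appLE hW hU hUW)
  have hUV : U ≤ (a ≫ b) ⁻¹ᵁ V := hUW.trans (a.preimage_mono h)
  haveI := isClosedImmersion_chartImm hU φ hφ.1
  haveI : IsClosedImmersion (U.toSpecΓ ≫ Spec.map (CommRingCat.ofHom φ)) :=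
    ‹IsClosedImmersion (DerSch.chartImm U φ)›
  rw [chartOn_iff_of_factor hU hUV (Groth.PCohHom.pcHom_mvPolynomial hQ n) φ hφ.1 (by
      rw [show algebraMap Γ(S, V) (MvPolynomial (Fin n) Γ(T, W)) =
        MvPolynomial.C.comp (b.appLE V W h).hom from rfl, ← RingHom.comp_assoc, hφ.2]
      exact congrArg CommRingCat.Hom.hom (Scheme.Hom.appLE_comp_appLE a b V W U h hUW)),
    chartOn_iff hU _ _ hφ, chartPC_iff hU]
  rfl

theorem rel_trans_iff {T S : Scheme.{u}} (a : X ⟶ T) [LocallyOfFiniteType a] (b : T ⟶ S) [LocallyOfFiniteType b]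
    (hb : MoreMor.IsPseudoCoherentMor b) (m : ℤ) (E : DCoh.D X) :
    DerSch.IsPseudoCoherentRel (a ≫ b) m E ↔ DerSch.IsPseudoCoherentRel a m E := by
  constructor <;> intro hE <;> refine rel_of_local fun x => ?_ <;>
    obtain ⟨V, hV, hxV, -⟩ := exists_isAffineOpen_mem_and_subset (U := (⊤ : S.Opens)) (x := b (a x)) trivial <;>
    obtain ⟨W, hW, hxW, hWV⟩ := exists_isAffineOpen_mem_and_subset (U := b ⁻¹ᵁ V) (x := a x) hxV <;>
    obtain ⟨U, hU, hxU, hUW⟩ := exists_isAffineOpen_mem_and_subset (U := a ⁻¹ᵁ W) (x := x) hxW <;>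
    have key := chartOn_trans_iff a b hU hW hUW hWV (hb W V hW hV hWV) m E
  · exact ⟨U, W, hxU, hU, hW, key.1 (chartOn_of_rel hE hU hV (hUW.trans (a.preimage_mono hWV)))⟩
  · exact ⟨U, V, hxU, hU, hV, key.2 (chartOn_of_rel hE hU hW hUW)⟩

theorem pcMor_of_flat_lfp (g : X ⟶ Y) [Flat g] [LocallyOfFinitePresentation g] :
    MoreMor.IsPseudoCoherentMor g := fun U V hU hV h => by
  letI := (g.appLE V U h).hom.toAlgebra
  haveI : Module.Flat Γ(Y, V) Γ(X, U) := g.flat_appLE hV hU h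
  haveI : Algebra.FinitePresentation Γ(Y, V) Γ(X, U) := g.finitePresentation_appLE hV hU h
  exact Groth.PCohHom.pcHom_of_flat_finitePresentation _ _

end Groth.RelPC
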