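import Groth.Agent.RelPC.Ring
import Groth.Agent.DerivedCoh.KFlat.LpullComp
import Groth.Agent.DerivedCoh.PCoh.Pullback
import Groth.Agent.DAlg.NilpotentPair
import Groth.Agent.DAlg.LeftDerived
import Groth.Agent.S1055

/-!
Modules of derived sections on affine opens and their behaviour under inverse images.
-/

universe u

open CategoryTheory CategoryTheory.Limits AlgebraicGeometry
open Groth.KTheory.Perf (Rd rdQIso exists_rep nonempty_rdComp)
open Groth.DerivedCoh.KFlat (T IsKFlat pullCx lpullQIso)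

namespace Groth.RelPC

attribute [local instance] HasDerivedCategory.standard

theorem preservesFiniteLimits_tilde' (R : CommRingCat.{u}) : PreservesFiniteLimits (tilde.functor R) :=
  Groth.PropsBasic2.preservesFiniteLimits_tilde (R := R)

attribute [local instance] preservesFiniteLimits_tilde'

variable {X X' Y : Scheme.{u}}

/-- Inverse image along an open immersion is restriction. -/
theorem nonempty_Lpull_rd (j : X' ⟶ X) [IsOpenImmersion j] [DCoh.HasLpull j] (K : DCoh.D X) :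
    Nonempty ((DCoh.Lpull j).obj K ≅ (Rd j).obj K) := by
  obtain ⟨F, ⟨e⟩⟩ := exists_rep K
  have := Groth.DerivedCoh.KFlat.flatResolution_quasiIso F
  let P := (Groth.DerivedCoh.KFlat.flatResolution X).obj F
  have hP : IsKFlat (T X) P := Groth.DerivedCoh.KFlat.flatResolution_isKFlat F
  let eP : DCoh.toD X P ≅ K :=
    asIso (DerivedCategory.Q.map ((Groth.DerivedCoh.KFlat.flatResolutionAug X).app F)) ≪≫ e
  exact ⟨(DCoh.Lpull j).mapIso eP.symm ≪≫ lpullQIso j P hP ≪≫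
    DerivedCategory.Q.mapIso ((NatIso.mapHomologicalComplex (Scheme.Modules.restrictFunctorIsoPullback j).symm
      (ComplexShape.up ℤ)).app P) ≪≫ (rdQIso j P).symm ≪≫ (Rd j).mapIso eP⟩

/-- `M` is the module of derived sections of `E` over the affine open `U`. -/
def IsSec (E : DCoh.D X) {U : X.Opens} (hU : IsAffineOpen U) (M : Dual.D Γ(X, U)) : Prop :=
  Nonempty ((Rd hU.fromSpec).obj E ≅ (DCoh.tildeD Γ(X, U)).obj M)

theorem chartOn_iff_sec {f : X ⟶ Y} [LocallyOfFiniteType f] {U : X.Opens} {V : Y.Opens} (hU : IsAffineOpen U)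
    (hV : IsAffineOpen V) (h : U ≤ f ⁻¹ᵁ V) (m : ℤ) {E : DCoh.D X} {M : Dual.D Γ(X, U)} (hM : IsSec E hU M) :
    ChartOn f m E U V ↔
      (letI := (f.appLE V U h).hom.toAlgebra
       DerCA.IsRelPseudoCoherent Γ(Y, V) Γ(X, U) m M) := by
  obtain ⟨e⟩ := hM
  obtain ⟨c⟩ := nonempty_rdComp (k := hU.isoSpec.hom) (j := hU.fromSpec) (l := U.ι) hU.isoSpec_hom_fromSpec.symm E
  exact chartOn_iff_relPC hU hV h m E M (c ≪≫ (Rd _).mapIso e)

/-- Inverse images on affine opens. -/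
theorem isSec_Lpull (g : X' ⟶ X) [DCoh.HasLpull g] {U' : X'.Opens} {U : X.Opens} (hU' : IsAffineOpen U')
    (hU : IsAffineOpen U) (h : U' ≤ g ⁻¹ᵁ U) {E : DCoh.D X} {M : Dual.D Γ(X, U)} (hM : IsSec E hU M)
    [DRing.HasLBaseChange (g.appLE U U' h).hom] :
    IsSec ((DCoh.Lpull g).obj E) hU' ((DRing.LBaseChange (g.appLE U U' h).hom).obj M) := by
  obtain ⟨e⟩ := hM
  have : ∀ {A B : Scheme.{u}} (f : A ⟶ B), DCoh.HasLpull f := fun f => Groth.DerivedCoh.KFlat.hasLpull f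
  have key : hU'.fromSpec ≫ g = Spec.map (g.appLE U U' h) ≫ hU.fromSpec :=
    (IsAffineOpen.SpecMap_appLE_fromSpec g hU hU' h).symm
  obtain ⟨a⟩ := nonempty_Lpull_rd hU'.fromSpec ((DCoh.Lpull g).obj E)
  obtain ⟨b⟩ := Groth.DerivedCoh.KFlat.Lpull_comp_iso hU'.fromSpec g
  obtain ⟨c⟩ := Groth.DerivedCoh.KFlat.Lpull_comp_iso (Spec.map (g.appLE U U' h)) hU.fromSpec
  obtain ⟨d⟩ := nonempty_Lpull_rd hU.fromSpec E
  obtain ⟨t⟩ := Groth.Agent.S1055.result (g.appLE U U' h).hom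
  have q : (DCoh.Lpull (hU'.fromSpec ≫ g)).obj E ≅
      (DCoh.Lpull (Spec.map (g.appLE U U' h) ≫ hU.fromSpec)).obj E := by
    exact eqToIso (by congr 2)
  exact ⟨a.symm ≪≫ b.app E ≪≫ q ≪≫ (c.app E).symm ≪≫
    (DCoh.Lpull (Spec.map (g.appLE U U' h))).mapIso (d ≪≫ e) ≪≫ (t.app M).symm⟩

end Groth.RelPC
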