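import Groth.Agent.DerivedCoh.PCoh.ModuleFP
import Groth.Agent.PCohPunctual.Devissage
import Groth.Agent.Misc6.DevissageSupp
import Groth.Agent.Misc7.ClosedImm.Modules
import Groth.Agent.CohTwo.Stalk

/-!
Direct images along closed immersions on derived categories, and their restrictions to open subschemes.
-/

universe u

open CategoryTheory CategoryTheory.Limits CategoryTheory.Pretriangulated AlgebraicGeometry TopologicalSpace
open Groth.KTheory.Perf (Rd Rc rdQIso exists_rep nonempty_hdRd nonempty_rdComp)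
open Groth.DerivedCoh.PCoh (Near Below)

namespace Groth.RelPC

attribute [local instance] HasDerivedCategory.standard

variable {X P : Scheme.{u}} (i : X ⟶ P)

/-- Direct image of complexes. -/
noncomputable abbrev pushC : CochainComplex X.Modules ℤ ⥤ CochainComplex P.Modules ℤ :=
  (Scheme.Modules.pushforward i).mapHomologicalComplex (ComplexShape.up ℤ)

section Square

universe w₁ w₂ w₃ w₄ v₁ v₂ v₃ v₄ u₁ u₂ u₃ u₄

variable {A : Type u₁} [Category.{v₁} A] [Abelian A] [HasDerivedCategory.{w₁} A]
  {B : Type u₂} [Category.{v₂} B] [Abelian B] [HasDerivedCategory.{w₂} B]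
  {C : Type u₃} [Category.{v₃} C] [Abelian C] [HasDerivedCategory.{w₃} C]
  {D : Type u₄} [Category.{v₄} D] [Abelian D] [HasDerivedCategory.{w₄} D]
  (F : A ⥤ B) (G : B ⥤ D) (F' : A ⥤ C) (G' : C ⥤ D)
  [F.Additive] [PreservesFiniteLimits F] [PreservesFiniteColimits F]
  [G.Additive] [PreservesFiniteLimits G] [PreservesFiniteColimits G]
  [F'.Additive] [PreservesFiniteLimits F'] [PreservesFiniteColimits F']
  [G'.Additive] [PreservesFiniteLimits G'] [PreservesFiniteColimits G']

/-- Commutative squares of exact functors commute on derived categories, objectwise. -/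
theorem nonempty_mapDerived_square (e : F ⋙ G ≅ F' ⋙ G') (K : DerivedCategory A) :
    Nonempty (G.mapDerivedCategory.obj (F.mapDerivedCategory.obj K) ≅
      G'.mapDerivedCategory.obj (F'.mapDerivedCategory.obj K)) := by
  let M := DerivedCategory.Q.objPreimage K
  let i : DerivedCategory.Q.obj M ≅ K := DerivedCategory.Q.objObjPreimageIso K
  exact ⟨G.mapDerivedCategory.mapIso (F.mapDerivedCategory.mapIso i.symm ≪≫ F.mapDerivedCategoryFactors.app M) ≪≫
    G.mapDerivedCategoryFactors.app _ ≪≫
    DerivedCategory.Q.mapIso ((NatIso.mapHomologicalComplex e (ComplexShape.up ℤ)).app M) ≪≫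
    (G'.mapDerivedCategoryFactors.app ((F'.mapHomologicalComplex (ComplexShape.up ℤ)).obj M)).symm ≪≫
    G'.mapDerivedCategory.mapIso ((F'.mapDerivedCategoryFactors.app M).symm ≪≫ F'.mapDerivedCategory.mapIso i)⟩

end Square

section BaseLocal

variable (V : P.Opens)

/-- Comparison of the restriction of a direct image with the direct image of the restriction. -/
noncomputable def pushRestrictNat :
    Scheme.Modules.pushforward i ⋙ Scheme.Modules.restrictFunctor V.ι ⟶
      Scheme.Modules.restrictFunctor (i ⁻¹ᵁ V).ι ⋙ Scheme.Modules.pushforward (i ∣_ V) :=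
  let τ : Scheme.Modules.pushforward (i ⁻¹ᵁ V).ι ⋙ Scheme.Modules.pushforward i ≅
      Scheme.Modules.pushforward (i ∣_ V) ⋙ Scheme.Modules.pushforward V.ι :=
    Scheme.Modules.pushforwardComp (i ⁻¹ᵁ V).ι i ≪≫
      Scheme.Modules.pushforwardCongr (morphismRestrict_ι i V).symm ≪≫
      (Scheme.Modules.pushforwardComp (i ∣_ V) V.ι).symm
  let R := Scheme.Modules.restrictFunctor (i ⁻¹ᵁ V).ι
  let β : Scheme.Modules.pushforward i ⟶
      (R ⋙ Scheme.Modules.pushforward (i ∣_ V)) ⋙ Scheme.Modules.pushforward V.ι :=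
    (Functor.leftUnitor _).inv ≫
      Functor.whiskerRight (Scheme.Modules.restrictAdjunction (i ⁻¹ᵁ V).ι).unit
        (Scheme.Modules.pushforward i) ≫
      (Functor.associator _ _ _).hom ≫ Functor.whiskerLeft R τ.hom ≫ (Functor.associator _ _ _).inv
  Functor.whiskerRight β (Scheme.Modules.restrictFunctor V.ι) ≫ (Functor.associator _ _ _).hom ≫
    Functor.whiskerLeft (R ⋙ Scheme.Modules.pushforward (i ∣_ V))
      (Scheme.Modules.restrictAdjunction V.ι).counit ≫ (Functor.rightUnitor _).hom

lemma isIso_pushRestrictNat : IsIso (pushRestrictNat i V) := by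
  haveI : ∀ M, IsIso ((pushRestrictNat i V).app M) := fun M => by
    haveI : IsIso ((Scheme.Modules.restrictFunctor V.ι).map ((Scheme.Modules.pushforward i).map
        ((Scheme.Modules.restrictAdjunction (i ⁻¹ᵁ V).ι).unit.app M))) :=
      Groth.CohTwo.isIso_of_app_bijective _ fun W => by
        have h1 : i ⁻¹ᵁ (V.ι ''ᵁ W) ≤
            (i ⁻¹ᵁ V).ι ''ᵁ ((i ⁻¹ᵁ V).ι ⁻¹ᵁ (i ⁻¹ᵁ (V.ι ''ᵁ W))) := by
          rw [Scheme.Hom.image_preimage_eq_opensRange_inf, Scheme.Opens.opensRange_ι]
          exact le_inf (i.preimage_mono (V.ι_image_le W)) le_rfl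
        have key : ∀ {A B : X.Opens} (h : A ≤ B), B ≤ A → Function.Bijective (Groth.CohTwo.res M h) :=
          fun {A B} h h' => by
            obtain rfl := le_antisymm h h'
            rw [show (Groth.CohTwo.res M h : Γ(M, A) → Γ(M, A)) = id from funext (Groth.CohTwo.res_rfl M h)]
            exact Function.bijective_id
        exact key ((i ⁻¹ᵁ V).ι.image_preimage_le _) h1
    simp only [pushRestrictNat, NatTrans.comp_app, Functor.whiskerRight_app, Functor.whiskerLeft_app,
      Functor.leftUnitor_inv_app, Functor.rightUnitor_hom_app, Functor.associator_hom_app,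
      Functor.associator_inv_app, Category.id_comp, Category.comp_id, Iso.trans_hom, Iso.symm_hom,
      Functor.map_comp]
    infer_instance
  exact NatIso.isIso_of_isIso_app _

/-- `(i_* -)|_V ≅ (i|_V)_*(-|_{i⁻¹V})` -/
noncomputable def pushRestrictIso :
    Scheme.Modules.pushforward i ⋙ Scheme.Modules.restrictFunctor V.ι ≅
      Scheme.Modules.restrictFunctor (i ⁻¹ᵁ V).ι ⋙ Scheme.Modules.pushforward (i ∣_ V) :=
  haveI := isIso_pushRestrictNat i V
  asIso (pushRestrictNat i V)

end BaseLocal

section Derived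

variable [IsClosedImmersion i]

/-- Direct image along a closed immersion on derived categories. -/
noncomputable abbrev Pd : DCoh.D X ⥤ DCoh.D P :=
  (Scheme.Modules.pushforward i).mapDerivedCategory

/-- `Pd` computed on a complex. -/
noncomputable def pdQIso (F : CochainComplex X.Modules ℤ) :
    (Pd i).obj (DCoh.toD X F) ≅ DCoh.toD P ((pushC i).obj F) :=
  (Scheme.Modules.pushforward i).mapDerivedCategoryFactors.app F

theorem nonempty_hdPd (K : DCoh.D X) (n : ℤ) :
    Nonempty (DCoh.HD ((Pd i).obj K) n ≅ (Scheme.Modules.pushforward i).obj (DCoh.HD K n)) := by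
  obtain ⟨F, ⟨e⟩⟩ := exists_rep K
  let R := Scheme.Modules.pushforward i
  let H := DerivedCategory.homologyFunctor P.Modules n
  let H' := DerivedCategory.homologyFunctor X.Modules n
  exact ⟨H.mapIso ((Pd i).mapIso e.symm ≪≫ pdQIso i F) ≪≫
    (DerivedCategory.homologyFunctorFactors P.Modules n).app _ ≪≫ (F.sc n).mapHomologyIso R ≪≫
    R.mapIso (((DerivedCategory.homologyFunctorFactors X.Modules n).app F).symm ≪≫ H'.mapIso e)⟩

/-- The direct image is zero only on zero. -/
theorem isZero_of_isZero_push {M : X.Modules} (h : IsZero ((Scheme.Modules.pushforward i).obj M)) :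
    IsZero M := by
  rw [IsZero.iff_id_eq_zero]
  exact (Groth.Misc7.ClosedImm.fullyFaithfulPush i).map_injective (h.eq_of_src _ _)

theorem below_pd {m : ℤ} {C : DCoh.D X} (h : Below m C) : Below m ((Pd i).obj C) := fun n hn =>
  ((Scheme.Modules.pushforward i).map_isZero (h n hn)).of_iso (nonempty_hdPd i C n).some

theorem below_of_pd {m : ℤ} {C : DCoh.D X} (h : Below m ((Pd i).obj C)) : Below m C := fun n hn =>
  isZero_of_isZero_push i ((h n hn).of_iso (nonempty_hdPd i C n).some.symm)

theorem near_pd {m : ℤ} {K L : DCoh.D X} {α : K ⟶ L} (h : Near m α) : Near m ((Pd i).map α) := by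
  obtain ⟨C, v, w, hT⟩ := distinguished_cocone_triangle α
  exact Groth.DerivedCoh.PCoh.near_of_below _ ((Pd i).map_distinguished _ hT)
    (below_pd i (Groth.DerivedCoh.PCoh.below_of_near _ hT h))

/-- `(i_* K)|_V ≅ (i|_V)_*(K|_{i⁻¹V})` -/
theorem nonempty_rdPd (V : P.Opens) (K : DCoh.D X) :
    Nonempty ((Rd V.ι).obj ((Pd i).obj K) ≅ (Pd (i ∣_ V)).obj ((Rd (i ⁻¹ᵁ V).ι).obj K)) := by
  exact nonempty_mapDerived_square _ _ _ _ (pushRestrictIso i V) K

/-- `i_*` of an object in a single degree, on representatives. -/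
noncomputable def pdSingleQIso (n : ℤ) (M : X.Modules) :
    (Pd i).obj (DCoh.toD X ((HomologicalComplex.single X.Modules (ComplexShape.up ℤ) n).obj M)) ≅
      DCoh.toD P ((HomologicalComplex.single P.Modules (ComplexShape.up ℤ) n).obj
        ((Scheme.Modules.pushforward i).obj M)) :=
  pdQIso i ((HomologicalComplex.single X.Modules (ComplexShape.up ℤ) n).obj M) ≪≫
    DerivedCategory.Q.mapIso ((HomologicalComplex.singleMapHomologicalComplex
      (Scheme.Modules.pushforward i) (ComplexShape.up ℤ) n).app M)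

/-- `i_*` of a module in degree zero. -/
noncomputable def pdInDIso (M : X.Modules) :
    (Pd i).obj (DCoh.inD X M) ≅ DCoh.inD P ((Scheme.Modules.pushforward i).obj M) :=
  pdSingleQIso i 0 M

end Derived

end Groth.RelPC
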