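import Groth.Agent.RelPC.Closed

/-!
Reflection of `m`-pseudo-coherence along closed immersions with `n₀`-pseudo-coherent `i_* O`.
-/

universe u

open CategoryTheory CategoryTheory.Limits CategoryTheory.Pretriangulated AlgebraicGeometry TopologicalSpace
open ZeroObject
open Groth.KTheory.Perf (Rd Rc rdQIso exists_rep nonempty_hdRd nonempty_rdComp)
open Groth.DerivedCoh.PCoh (Near Below PCohOn)

namespace Groth.RelPC

attribute [local instance] HasDerivedCategory.standard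

variable {X P : Scheme.{u}}

/-- `i_* O` is `n₀`-pseudo-coherent. -/
def PCImmAt (n₀ : ℤ) (i : X ⟶ P) : Prop :=
  DCoh.IsPseudoCoherentD n₀ (DCoh.inD P ((Scheme.Modules.pushforward i).obj (Coh.structureModule X)))

variable (i : X ⟶ P) [IsClosedImmersion i]

theorem PCImmAt.restrict {n₀ : ℤ} (hi : PCImmAt n₀ i) (V : P.Opens) : PCImmAt n₀ (i ∣_ V) := by
  refine Groth.DerivedCoh.PCoh.isPseudoCoherentD_of_iso ?_ (pcD_rd V.ι hi)
  exact Groth.DerivedCoh.PCoh.rdInDIso V.ι _ ≪≫ (DerivedCategory.singleFunctor _ 0).mapIso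
    ((pushRestrictIso i V).app _ ≪≫ (Scheme.Modules.pushforward (i ∣_ V)).mapIso
      (Scheme.Modules.restrictUnitIso (i ⁻¹ᵁ V).ι))

variable {i}

theorem pcD_push_free_at {m : ℤ} (hi : PCImmAt m i) (n : ℕ) :
    DCoh.IsPseudoCoherentD m ((Pd i).obj (DCoh.inD X (FlatMod.freeMod X n))) := by
  refine prop_sigma_finite (fun M : X.Modules => DCoh.IsPseudoCoherentD m ((Pd i).obj (DCoh.inD X M)))
    (fun e h => Groth.DerivedCoh.PCoh.isPseudoCoherentD_of_iso
      ((Pd i).mapIso ((DerivedCategory.singleFunctor _ 0).mapIso e)) h)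
    (fun M hM => pcD_of_below fun k _ => (DerivedCategory.homologyFunctor _ k).map_isZero
      ((Pd i).map_isZero ((DerivedCategory.singleFunctor _ 0).map_isZero hM)))
    (fun M N hM hN => ?_) (Fin n) _
    fun _ => Groth.DerivedCoh.PCoh.isPseudoCoherentD_of_iso (pdInDIso i _).symm hi
  have hS : (ShortComplex.mk (biprod.inl : M ⟶ M ⊞ N) biprod.snd (by simp)).ShortExact :=
    ShortComplex.Splitting.shortExact { r := biprod.fst, s := biprod.inr }
  exact Groth.DerivedCoh.PCoh.isPseudoCoherentD_obj₂ _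
    ((Pd i).map_distinguished _ hS.singleTriangle_distinguished) hM hN

theorem pcD_push_finLocFree_at {m : ℤ} (hi : PCImmAt m i) {M : X.Modules} (hM : FlatMod.IsFinLocFree M) :
    DCoh.IsPseudoCoherentD m ((Pd i).obj (DCoh.inD X M)) := by
  refine Groth.DerivedCoh.PCoh.isPseudoCoherentD_of_local fun y => ?_
  obtain ⟨V, hy, n, ⟨e⟩⟩ : ∃ V : P.Opens, y ∈ V ∧
      ∃ n, Nonempty (M.restrict (i ⁻¹ᵁ V).ι ≅ FlatMod.freeMod (i ⁻¹ᵁ V) n) := by
    by_cases hy : y ∈ Set.range i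
    · obtain ⟨x, rfl⟩ := hy
      obtain ⟨U, n, hx, ⟨e⟩⟩ := hM x
      obtain ⟨V, hV, hVU⟩ := (i.isClosedEmbedding.isInducing.isOpen_iff).1 U.isOpen
      obtain rfl : i ⁻¹ᵁ (⟨V, hV⟩ : P.Opens) = U := Opens.ext hVU
      exact ⟨⟨V, hV⟩, hx, n, ⟨e⟩⟩
    · refine ⟨⟨(Set.range i)ᶜ, i.isClosedEmbedding.isClosed_range.isOpen_compl⟩, hy, 0, ⟨?_⟩⟩
      have hz : ∀ M : (i ⁻¹ᵁ (⟨(Set.range i)ᶜ, i.isClosedEmbedding.isClosed_range.isOpen_compl⟩ : P.Opens) :
          Scheme.{u}).Modules, IsZero M := fun M =>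
        (Groth.QCohMod.isZero_iff_stalk M).2 fun x => (x.2 ⟨x.1, rfl⟩).elim
      exact (hz _).iso (hz _)
  refine ⟨V, hy, ?_⟩
  obtain ⟨c⟩ := nonempty_rdPd i V (DCoh.inD X M)
  exact Groth.DerivedCoh.PCoh.isPseudoCoherentD_of_iso
    ((Pd (i ∣_ V)).mapIso ((DerivedCategory.singleFunctor _ 0).mapIso e.symm ≪≫
      (Groth.DerivedCoh.PCoh.rdInDIso _ M).symm) ≪≫ c.symm)
    (pcD_push_free_at (hi.restrict i V) n)

omit [IsClosedImmersion i] in
theorem pcD_of_push_aux_at (m : ℤ) (d : ℕ) : ∀ {X P : Scheme.{u}} (i : X ⟶ P) [IsClosedImmersion i] (n₀ : ℤ) (_ : PCImmAt n₀ i)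
    (_ : n₀ + d ≤ 2) (K : DCoh.D X), DCoh.IsPseudoCoherentD m ((Pd i).obj K) → Below (m + d) K →
      DCoh.IsPseudoCoherentD m K := by
  induction d with
  | zero => intro X P i _ n₀ _ _ K _ hb; exact pcD_of_below (by simpa using hb)
  | succ d ih =>
    intro X P i _ n₀ hi hn₀ K hK hb
    let n : ℤ := m + d
    have hb' : Below (n + 1) K := fun k hk => hb k (by omega)
    have hFT : CohB1.IsFT (DCoh.HD K n) := by
      have h0 := Groth.DerivedCoh.PCoh.isFT_top (pcD_mono hK (show m ≤ n by omega))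
        fun k hk => below_pd i hb' k (by omega)
      have h1 := Groth.QCohMod.isFT_pullback i _ (Groth.QCohMod.isFT_of_iso (nonempty_hdPd i K n).some h0)
      exact Groth.QCohMod.isFT_of_iso
        (asIso ((Scheme.Modules.pullbackPushforwardAdjunction i).counit.app (DCoh.HD K n))) h1
    refine Groth.DerivedCoh.PCoh.isPseudoCoherentD_of_local fun x => ?_
    obtain ⟨U, hx, G, hG⟩ := Groth.QCohMod.exists_generators_of_isFT _ hFT x
    obtain ⟨V, rfl⟩ := exists_opens_eq_preimage (i := i) U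
    refine ⟨i ⁻¹ᵁ V, hx, ?_⟩
    have hi₁ := hi.restrict i V
    have hK₁ : DCoh.IsPseudoCoherentD m ((Pd (i ∣_ V)).obj ((Rd (i ⁻¹ᵁ V).ι).obj K)) :=
      Groth.DerivedCoh.PCoh.isPseudoCoherentD_of_iso (nonempty_rdPd i V K).some (pcD_rd V.ι hK)
    have hb₁ : Below (n + 1) ((Rd (i ⁻¹ᵁ V).ι).obj K) := Groth.DerivedCoh.PCoh.below_rd _ hb'
    obtain ⟨e₁⟩ := nonempty_hdRd (i ⁻¹ᵁ V).ι K n
    obtain ⟨Z, g, hg, ⟨eZ⟩⟩ := exists_toTop hb₁
    generalize (Rd (i ⁻¹ᵁ V).ι).obj K = L at hK₁ hb₁ e₁ g hg eZ ⊢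
    clear hK hb hb' hFT
    let π : Groth.LocFree.freeOn (i ⁻¹ᵁ V : Scheme.{u}) G.I ⟶ (DCoh.HD K n).restrict (i ⁻¹ᵁ V).ι := G.π
    haveI : Epi π := G.epi
    let π' := π ≫ e₁.inv ≫ eZ.hom
    haveI : Epi π' := epi_comp' inferInstance (epi_comp' inferInstance inferInstance)
    let E := (HomologicalComplex.single (i ⁻¹ᵁ V : Scheme.{u}).Modules (ComplexShape.up ℤ) n).obj
      (Groth.LocFree.freeOn (i ⁻¹ᵁ V : Scheme.{u}) G.I)
    have hE : DCoh.IsStrictlyPerfect E := by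
      refine ⟨⟨n, n, fun k hk => HomologicalComplex.isZero_single_obj_X _ n _ k (by omega)⟩, fun k => ?_⟩
      by_cases hk : k = n
      · rw [hk]
        exact Groth.KTheory.LocFree.isFinLocFree_of_iso (HomologicalComplex.singleObjXSelf _ n _).symm
          (Groth.DerivedCoh.PCoh.isFinLocFree_freeOn G.I)
      · exact Groth.KTheory.LocFree.isFinLocFree_zero (HomologicalComplex.isZero_single_obj_X _ n _ k hk)
    let φ : DCoh.toD _ E ⟶ (DerivedCategory.singleFunctor _ n).obj Z :=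
      ((DerivedCategory.singleFunctorIsoCompQ _ n).app _).inv ≫ (DerivedCategory.singleFunctor _ n).map π'
    have hφ : Near n φ := (@Groth.DerivedCoh.PCoh.near_of_isIso _ _ _ _ n _ _ _ (Iso.isIso_inv _)).comp
      ⟨fun k hk => ⟨⟨0, (Groth.PCohPunctual.homology_single_isZero _ hk.ne').eq_of_src _ _,
        (Groth.PCohPunctual.homology_single_isZero _ hk.ne').eq_of_src _ _⟩⟩,
      ((MorphismProperty.epimorphisms _).arrow_mk_iso_iff
        (((Functor.mapArrowFunctor _ _).mapIso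
          (DerivedCategory.singleFunctorCompHomologyFunctorIso _ n)).app (Arrow.mk π'))).2 ‹Epi π'›⟩
    refine Groth.DerivedCoh.PCoh.isPseudoCoherentD_of_local fun x' => ?_
    obtain ⟨W, γ, hx', hγ⟩ := Groth.DerivedCoh.PCoh.exists_lift hE (a := n)
      (fun k hk => HomologicalComplex.isZero_single_obj_X _ n _ k hk.ne) (hg.mono (by omega)) φ x'
    obtain ⟨V₂, rfl⟩ := exists_opens_eq_preimage (i := i ∣_ V) W
    refine ⟨(i ∣_ V) ⁻¹ᵁ V₂, hx', ?_⟩
    have hi₂ := hi₁.restrict (i ∣_ V) V₂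
    have hK₂ := Groth.DerivedCoh.PCoh.isPseudoCoherentD_of_iso (nonempty_rdPd (i ∣_ V) V₂ L).some
      (pcD_rd V₂.ι hK₁)
    have hγn : Near n γ := by
      have h1 := Groth.DerivedCoh.PCoh.near_rd ((i ∣_ V) ⁻¹ᵁ V₂).ι hφ
      have h2 := Groth.DerivedCoh.PCoh.near_rd ((i ∣_ V) ⁻¹ᵁ V₂).ι hg
      rw [← hγ] at h1
      refine ⟨fun k hk => ?_, ?_⟩
      · haveI := h2.1 k (by omega)
        have := h1.1 k hk
        rw [Functor.map_comp] at this
        exact IsIso.of_isIso_comp_right _ ((DerivedCategory.homologyFunctor _ k).map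
          ((Rd ((i ∣_ V) ⁻¹ᵁ V₂).ι).map g))
      · haveI := h2.1 n (by omega)
        have := h1.2
        rw [Functor.map_comp] at this
        exact ((MorphismProperty.epimorphisms _).cancel_right_of_respectsIso _
          ((DerivedCategory.homologyFunctor _ n).map ((Rd ((i ∣_ V) ⁻¹ᵁ V₂).ι).map g))).1 this
    obtain ⟨C, v, w, hT⟩ := distinguished_cocone_triangle γ
    have hE' : ∀ k, DCoh.IsPseudoCoherentD k ((Rd ((i ∣_ V) ⁻¹ᵁ V₂).ι).obj (DCoh.toD _ E)) := fun k =>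
      pcD_rd _ (Groth.DerivedCoh.PCoh.isPseudoCoherentD_of_isPerfect
        ((Groth.KTheory.Perf.isPerfect_iff _).2 fun y => ⟨⊤, trivial, (Rc (⊤ : Scheme.Opens _).ι).obj E,
          Groth.KTheory.Perf.rc_isStrictlyPerfect _ hE, ⟨rdQIso _ _⟩⟩) k)
    have hpush : DCoh.IsPseudoCoherentD (m + 1)
        ((Pd ((i ∣_ V) ∣_ V₂)).obj ((Rd ((i ∣_ V) ⁻¹ᵁ V₂).ι).obj (DCoh.toD _ E))) := by
      refine Groth.DerivedCoh.PCoh.isPseudoCoherentD_of_iso ((Pd ((i ∣_ V) ∣_ V₂)).mapIso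
        ((Rd ((i ∣_ V) ⁻¹ᵁ V₂).ι).mapIso
          (Groth.PCohPunctual.singleShiftIso (Groth.LocFree.freeOn (i ⁻¹ᵁ V : Scheme.{u}) G.I) n ≪≫
            (DerivedCategory.singleFunctorIsoCompQ _ n).app _))) ?_
      refine Groth.DerivedCoh.PCoh.isPseudoCoherentD_of_iso
        (((Rd ((i ∣_ V) ⁻¹ᵁ V₂).ι ⋙ Pd ((i ∣_ V) ∣_ V₂)).commShiftIso (-n)).app
          (DCoh.inD _ (Groth.LocFree.freeOn (i ⁻¹ᵁ V : Scheme.{u}) G.I))).symm ?_
      refine pcD_mono (Groth.DerivedCoh.PCoh.isPseudoCoherentD_shift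
        (m := n₀) ?_ (-n) (n₀ + n) (by omega)) (by omega)
      exact Groth.DerivedCoh.PCoh.isPseudoCoherentD_of_iso ((Pd ((i ∣_ V) ∣_ V₂)).mapIso
        (Groth.DerivedCoh.PCoh.rdInDIso _ _).symm)
        (pcD_push_finLocFree_at hi₂ (Groth.KTheory.LocFree.isFinLocFree_of_iso
          ((Scheme.Modules.restrictFunctorIsoPullback _).symm.app _)
          (Groth.LocFree.isFinLocFree_pullback _ (Groth.DerivedCoh.PCoh.isFinLocFree_freeOn G.I))))
    have hC : DCoh.IsPseudoCoherentD m C := ih _ n₀ hi₂ (by omega) C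
      (Groth.DerivedCoh.PCoh.isPseudoCoherentD_obj₃ _ ((Pd ((i ∣_ V) ∣_ V₂)).map_distinguished _ hT)
        hpush hK₂)
      (Groth.DerivedCoh.PCoh.below_of_near _ hT hγn)
    exact Groth.DerivedCoh.PCoh.isPseudoCoherentD_obj₂ _ hT (hE' m) hC

end Groth.RelPC
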