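import Groth.Agent.RelPC.NPC
import Groth.Agent.RelPC.ClosedLevel

/-!
Cancellation for relative pseudo-coherence with a bound on the degrees.
-/

universe u

open CategoryTheory CategoryTheory.Limits AlgebraicGeometry TopologicalSpace
open Groth.KTheory.Perf (Rd)
open Groth.DerivedCoh.PCoh (Below)

namespace Groth.RelPC

attribute [local instance] HasDerivedCategory.standard

theorem pcImmAt_spec_iff {S T : Type u} [CommRing S] [CommRing T] (θ : S →+* T) (m : ℤ) :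
    PCImmAt m (Spec.map (CommRingCat.ofHom θ)) ↔
      (letI := θ.toAlgebra
       DRing.IsPseudoCoherent S m (Dual.inD S T)) := by
  letI := θ.toAlgebra
  haveI := Groth.PropsBasic2.preservesFiniteLimits_tilde (R := CommRingCat.of S)
  haveI := Groth.DerivedCoh.TildeD.preservesFiniteColimits S
  obtain ⟨e⟩ := nonempty_push_structure_iso θ
  let c := ((tilde.functor (CommRingCat.of S)).mapDerivedCategoryFactors.app _) ≪≫
    DerivedCategory.Q.mapIso ((HomologicalComplex.singleMapHomologicalComplex (tilde.functor (CommRingCat.of S))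
      (ComplexShape.up ℤ) 0).app (ModuleCat.of S T) ≪≫
      (HomologicalComplex.single (Spec (CommRingCat.of S)).Modules (ComplexShape.up ℤ) 0).mapIso e.symm)
  exact ⟨fun h => (Groth.DerivedCoh.TildeD.isPseudoCoherentD_tildeD_iff _ m).1
      (Groth.DerivedCoh.PCoh.isPseudoCoherentD_of_iso c.symm h),
    fun h => Groth.DerivedCoh.PCoh.isPseudoCoherentD_of_iso c
      ((Groth.DerivedCoh.TildeD.isPseudoCoherentD_tildeD_iff _ m).2 h)⟩

theorem pcD_pd_congr {U P : Scheme.{u}} {c c' : U ⟶ P} [IsClosedImmersion c] [IsClosedImmersion c'] (h : c = c')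
    (m : ℤ) (K : DCoh.D U) :
    DCoh.IsPseudoCoherentD m ((Pd c).obj K) ↔ DCoh.IsPseudoCoherentD m ((Pd c').obj K) := by
  subst h
  rfl

variable {X Y Z : Scheme.{u}}

theorem pcImmAt_chart {g : Y ⟶ Z} {n₀ : ℤ} (hg : DerSch.IsNPseudoCoherent g n₀) {W : Y.Opens} {V : Z.Opens}
    (hW : IsAffineOpen W) (hV : IsAffineOpen V) {h : W ≤ g ⁻¹ᵁ V} {n : ℕ}
    {φ : MvPolynomial (Fin n) Γ(Z, V) →+* Γ(Y, W)} (hφ : DerSch.IsChart g W V h φ) :
    PCImmAt n₀ (Spec.map (CommRingCat.ofHom φ)) := by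
  haveI := isClosedImmersion_chartImm hW φ hφ.1
  haveI := IsClosedImmersion.spec_of_surjective (CommRingCat.ofHom φ) hφ.1
  haveI : IsIso W.toSpecΓ := hW.isoSpec_hom ▸ inferInstance
  obtain ⟨s⟩ := nonempty_rdPd_square (Spec.map (CommRingCat.ofHom φ)) (DerSch.chartImm W φ) (𝟙 _) W.toSpecΓ
    (by rw [Category.comp_id]; rfl) (fun x _ => ⟨(inv W.toSpecΓ) x, by
      rw [← Scheme.Hom.comp_apply, IsIso.inv_hom_id]; rfl⟩) (DCoh.inD _ (Coh.structureModule (Spec Γ(Y, W))))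
  let eO : (Rd W.toSpecΓ).obj (DCoh.inD _ (Coh.structureModule (Spec Γ(Y, W)))) ≅
      (Rd W.ι).obj (DCoh.inD Y (Coh.structureModule Y)) :=
    Groth.DerivedCoh.PCoh.rdInDIso W.toSpecΓ _ ≪≫ (DerivedCategory.singleFunctor _ 0).mapIso
      (Scheme.Modules.restrictUnitIso W.toSpecΓ ≪≫ (Scheme.Modules.restrictUnitIso W.ι).symm) ≪≫
      (Groth.DerivedCoh.PCoh.rdInDIso W.ι _).symm
  refine Groth.DerivedCoh.PCoh.isPseudoCoherentD_of_iso (pdInDIso (Spec.map (CommRingCat.ofHom φ)) _) ?_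
  rw [← pcD_rd_iso_iff (𝟙 _) n₀]
  exact Groth.DerivedCoh.PCoh.isPseudoCoherentD_of_iso ((Pd _).mapIso eO.symm ≪≫ s.symm)
    (pcD_chart_of_rel (rel_of_iso ((DerivedCategory.singleFunctorIsoCompQ _ 0).app _).symm hg) hW hV hφ)

theorem pcImmAt_map {P A : Type u} [CommRing P] [CommRing A] (θ : P →+* A) (n : ℕ) {n₀ : ℤ}
    (h : PCImmAt n₀ (Spec.map (CommRingCat.ofHom θ))) :
    PCImmAt n₀ (Spec.map (CommRingCat.ofHom (MvPolynomial.map (σ := Fin n) θ))) := by
  by_cases hn : 0 < n₀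
  · exact pcD_of_below fun i hi => Groth.DerivedCoh.PCoh.hd_inD_eq_zero _ (by omega)
  rw [pcImmAt_spec_iff] at h ⊢
  letI := θ.toAlgebra
  letI : Algebra (MvPolynomial (Fin n) P) (MvPolynomial (Fin n) A) := MvPolynomial.algebraMvPolynomial
  rw [show n₀ = -(((-n₀).toNat : ℕ) : ℤ) from by omega] at h ⊢
  have h1 : Groth.PCohHom.FPk P (-n₀).toNat A := Groth.DAlg.isPseudoCoherent_iff.1 h
  exact Groth.DAlg.isPseudoCoherent_iff.2 ((Groth.PCohHom.fpk_baseChange (S := MvPolynomial (Fin n) P) _ A h1).congr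
    (Algebra.IsPushout.equiv P (MvPolynomial (Fin n) P) A (MvPolynomial (Fin n) A)).toLinearEquiv)

theorem rel_cancel (f : X ⟶ Y) (g : Y ⟶ Z) [LocallyOfFiniteType f] [LocallyOfFiniteType g] (a b : ℤ)
    (E : DCoh.D X) [E.IsLE b] (hE : DerSch.IsPseudoCoherentRel (f ≫ g) a E)
    (hg : DerSch.IsNPseudoCoherent g (a + 1 - b)) : DerSch.IsPseudoCoherentRel f a E := by
  have hb : Below (b + 1) E := fun i hi => DerivedCategory.isZero_of_isLE E b i (by omega)
  by_cases hba : b + 1 ≤ a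
  · exact rel_of_below (hb.mono hba)
  refine rel_of_local fun x => ?_
  obtain ⟨V, hV, hxV, -⟩ := exists_isAffineOpen_mem_and_subset (show g (f x) ∈ (⊤ : Z.Opens) from trivial)
  obtain ⟨W, hW, hxW, hWV⟩ := exists_isAffineOpen_mem_and_subset (show f x ∈ g ⁻¹ᵁ V from hxV)
  obtain ⟨U, hU, hxU, hUW⟩ := exists_isAffineOpen_mem_and_subset (show x ∈ f ⁻¹ᵁ W from hxW)
  have hUV : U ≤ (f ≫ g) ⁻¹ᵁ V := fun y hy => hWV (hUW hy)
  refine ⟨U, W, hxU, hU, hW, ?_⟩
  obtain ⟨k, ψ, hψ⟩ := exists_chart (f := g) hWV (g.finiteType_appLE hV hW hWV)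
  obtain ⟨n, φ, hφ⟩ := exists_chart (f := f) hUW (f.finiteType_appLE hW hU hUW)
  let μ := MvPolynomial.map (σ := Fin n) ψ
  have hμ : Function.Surjective μ := MvPolynomial.map_surjective ψ hψ.1
  haveI := isClosedImmersion_chartImm hU φ hφ.1
  haveI := IsClosedImmersion.spec_of_surjective (CommRingCat.ofHom μ) hμ
  have heq : U.toSpecΓ ≫ Spec.map (CommRingCat.ofHom (φ.comp μ)) =
      DerSch.chartImm U φ ≫ Spec.map (CommRingCat.ofHom μ) := by
    simp only [DerSch.chartImm, Category.assoc, ← Spec.map_comp]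
    rfl
  haveI : IsClosedImmersion (U.toSpecΓ ≫ Spec.map (CommRingCat.ofHom (φ.comp μ))) := by rw [heq]; infer_instance
  have h1 := (chartOn_iff_of_factor hU hUV
    (Groth.PCohHom.pcHom_mvPolynomial (Groth.PCohHom.pcHom_mvPolynomial (pcHom_self Γ(Z, V)) k) n)
    (φ.comp μ) (hφ.1.comp hμ) (by
      rw [RingHom.comp_assoc, show μ.comp (algebraMap Γ(Z, V) (MvPolynomial (Fin n) (MvPolynomial (Fin k) Γ(Z, V)))) =
        MvPolynomial.C.comp (g.appLE V W hWV).hom from RingHom.ext fun r => by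
          show μ (MvPolynomial.C (MvPolynomial.C r)) = MvPolynomial.C (g.appLE V W hWV r)
          rw [MvPolynomial.map_C]
          exact congrArg _ (RingHom.congr_fun hψ.2 r),
        ← RingHom.comp_assoc, hφ.2]
      exact congrArg CommRingCat.Hom.hom (Scheme.Hom.appLE_comp_appLE f g V W U hWV hUW)) a E).1
        (chartOn_of_rel hE hU hV hUV)
  obtain ⟨c⟩ := nonempty_pdComp (DerSch.chartImm U φ) (Spec.map (CommRingCat.ofHom μ)) ((Rd U.ι).obj E)
  refine ⟨hUW, n, φ, hφ, (chartPC_iff hU φ a E).2 ?_⟩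
  refine pcD_of_push_aux_at a (b + 1 - a).toNat (Spec.map (CommRingCat.ofHom μ)) (a + 1 - b)
    (pcImmAt_map ψ n (pcImmAt_chart hg hW hV hψ)) (by omega) _
    (Groth.DerivedCoh.PCoh.isPseudoCoherentD_of_iso c.symm ?_)
    ((below_pd _ (Groth.DerivedCoh.PCoh.below_rd _ hb)).mono (by omega))
  exact (pcD_pd_congr heq a _).1 h1

end Groth.RelPC
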