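import Groth.Agent.RelPC.Affine

/-!
Independence of the chart.
-/

universe u

open CategoryTheory CategoryTheory.Limits AlgebraicGeometry TopologicalSpace
open Groth.KTheory.Perf (Rd)

namespace Groth.RelPC

attribute [local instance] HasDerivedCategory.standard

section Algebra

variable (R : Type u) [CommRing R]

theorem pcHom_self : MoreMor.IsPseudoCoherentHom R R :=
  ⟨0, (MvPolynomial.isEmptyAlgEquiv R (Fin 0)).toAlgHom, (MvPolynomial.isEmptyAlgEquiv R (Fin 0)).surjective,
    Groth.PCohHom.pcAlong_bijective _ (MvPolynomial.isEmptyAlgEquiv R (Fin 0)).bijective⟩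

variable {R}

/-- Surjections between polynomial rings over `R` are pseudo-coherent. -/
theorem pcAlong_poly_surjective {n n' : ℕ} (s : MvPolynomial (Fin n') R →ₐ[R] MvPolynomial (Fin n) R)
    (hs : Function.Surjective s) : Groth.PCohHom.PCAlong s.toRingHom :=
  (Groth.PCohHom.pcHom_iff_of_surjective (Groth.PCohHom.pcHom_mvPolynomial (pcHom_self R) n') s hs).1
    (Groth.PCohHom.pcHom_mvPolynomial (pcHom_self R) n)

/-- A chart on more variables through which another one factors. -/
theorem exists_common {B : Type u} [CommRing B] {n k : ℕ} (φ : MvPolynomial (Fin n) R →+* B)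
    (hφ : Function.Surjective φ) (ψ : MvPolynomial (Fin k) R →+* B)
    (hC : φ.comp MvPolynomial.C = ψ.comp MvPolynomial.C) :
    ∃ s : MvPolynomial (Fin (n + k)) R →ₐ[R] MvPolynomial (Fin n) R, Function.Surjective s ∧
      φ.comp s.toRingHom = MvPolynomial.eval₂Hom (φ.comp MvPolynomial.C)
        (Fin.addCases (fun i => φ (MvPolynomial.X i)) fun j => ψ (MvPolynomial.X j)) := by
  choose g hg using fun j : Fin k => hφ (ψ (MvPolynomial.X j))
  refine ⟨MvPolynomial.aeval (Fin.addCases MvPolynomial.X g), fun p => ⟨MvPolynomial.rename (Fin.castAdd k) p, ?_⟩, ?_⟩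
  · rw [MvPolynomial.aeval_rename]
    simp [Function.comp_def]
  · refine MvPolynomial.ringHom_ext (fun r => by simp) fun i => ?_
    refine Fin.addCases (fun a => ?_) (fun b => ?_) i
    · simp
    · simp [hg]

end Algebra

variable {X Y : Scheme.{u}}

/-- Pulling a chart back along a surjection of polynomial rings. -/
theorem chartPC_comp_iff {U : X.Opens} {V : Y.Opens} (hU : IsAffineOpen U) {n n' : ℕ}
    (φ : MvPolynomial (Fin n) Γ(Y, V) →+* Γ(X, U)) (hφ : Function.Surjective φ)
    (s : MvPolynomial (Fin n') Γ(Y, V) →ₐ[Γ(Y, V)] MvPolynomial (Fin n) Γ(Y, V)) (hs : Function.Surjective s)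
    (m : ℤ) (K : DCoh.D X) :
    DerSch.ChartPC m K U V (φ.comp s.toRingHom) ↔ DerSch.ChartPC m K U V φ := by
  haveI := isClosedImmersion_chartImm hU φ hφ
  haveI := isClosedImmersion_chartImm hU (φ.comp s.toRingHom) (hφ.comp hs)
  haveI : IsClosedImmersion (Spec.map (CommRingCat.ofHom s.toRingHom)) :=
    IsClosedImmersion.spec_of_surjective _ hs
  rw [chartPC_iff hU, chartPC_iff hU]
  refine pcD_pd_comp_iff _ _ (pcImm_spec _ (pcAlong_poly_surjective s hs)) _ ?_ m _
  simp only [DerSch.chartImm, Category.assoc, ← Spec.map_comp]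
  rfl

/-- The test on a chart does not depend on the chart. -/
theorem chartPC_congr {U : X.Opens} {V : Y.Opens} (hU : IsAffineOpen U) {n k : ℕ}
    (φ : MvPolynomial (Fin n) Γ(Y, V) →+* Γ(X, U)) (hφ : Function.Surjective φ)
    (ψ : MvPolynomial (Fin k) Γ(Y, V) →+* Γ(X, U)) (hψ : Function.Surjective ψ)
    (hC : φ.comp MvPolynomial.C = ψ.comp MvPolynomial.C) (m : ℤ) (K : DCoh.D X) :
    DerSch.ChartPC m K U V φ ↔ DerSch.ChartPC m K U V ψ := by
  obtain ⟨s, hs, hse⟩ := exists_common φ hφ ψ hC
  obtain ⟨t, ht, hte⟩ := exists_common ψ hψ φ hC.symm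
  let w : MvPolynomial (Fin (n + k)) Γ(Y, V) →ₐ[Γ(Y, V)] MvPolynomial (Fin (k + n)) Γ(Y, V) :=
    MvPolynomial.rename finAddFlip
  have hw : Function.Surjective w := (MvPolynomial.renameEquiv Γ(Y, V) finAddFlip).surjective
  have key : φ.comp s.toRingHom = ψ.comp (t.comp w).toRingHom := by
    refine hse.trans (Eq.trans ?_ (show (ψ.comp t.toRingHom).comp w.toRingHom = _ from rfl))
    rw [hte]
    refine MvPolynomial.ringHom_ext (fun r => by simp [w, hC]) fun i => ?_
    refine Fin.addCases (fun a => ?_) (fun b => ?_) i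
    · simp [w]
    · simp [w]
  rw [← chartPC_comp_iff hU φ hφ s hs, key, chartPC_comp_iff hU ψ hψ (t.comp w) (ht.comp hw)]

end Groth.RelPC
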