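import Groth.Agent.RelPC.Push

/-!
Pseudo-coherence along closed immersions `i` with pseudo-coherent `i_* O`.
-/

universe u

open CategoryTheory CategoryTheory.Limits CategoryTheory.Pretriangulated AlgebraicGeometry TopologicalSpace
open ZeroObject
open Groth.KTheory.Perf (Rd Rc rdQIso exists_rep nonempty_hdRd nonempty_rdComp)
open Groth.DerivedCoh.PCoh (Near Below PCohOn)

namespace Groth.RelPC

attribute [local instance] HasDerivedCategory.standard

variable {X P : Scheme.{u}}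

theorem pcD_mono {K : DCoh.D X} {m m' : ℤ} (h : DCoh.IsPseudoCoherentD m K) (hm : m ≤ m') :
    DCoh.IsPseudoCoherentD m' K := by
  rw [Groth.DerivedCoh.PCoh.isPseudoCoherentD_iff] at h ⊢
  exact fun x => let ⟨V, hx, hV⟩ := h x; ⟨V, hx, hV.mono hm⟩

theorem pcD_of_below {m : ℤ} {K : DCoh.D X} (h : Below m K) : DCoh.IsPseudoCoherentD m K := by
  rw [Groth.DerivedCoh.PCoh.isPseudoCoherentD_iff]
  intro x
  refine ⟨⊤, trivial, 0, 0, ⟨⟨0, 0, fun n _ => ?_⟩, fun n => Groth.KTheory.LocFree.isFinLocFree_zero ?_⟩, ?_⟩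
  · exact (HomologicalComplex.eval _ _ n).map_isZero (isZero_zero _)
  · exact (HomologicalComplex.eval _ _ n).map_isZero (isZero_zero _)
  · have hM := Groth.DerivedCoh.PCoh.below_rd (⊤ : X.Opens).ι h
    have h0 : IsZero (DCoh.toD ((⊤ : X.Opens) : Scheme.{u}) 0) := DerivedCategory.Q.map_isZero (isZero_zero _)
    exact ⟨fun n hn => ⟨⟨0, ((DerivedCategory.homologyFunctor _ n).map_isZero h0).eq_of_src _ _,
        (hM n hn.le).eq_of_src _ _⟩⟩, (hM m le_rfl).epi _⟩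

theorem pcD_of_near {m : ℤ} {K L : DCoh.D X} {α : K ⟶ L} (hα : Near m α) (h : DCoh.IsPseudoCoherentD m K) :
    DCoh.IsPseudoCoherentD m L := by
  obtain ⟨C, v, w, hT⟩ := distinguished_cocone_triangle α
  exact Groth.DerivedCoh.PCoh.isPseudoCoherentD_obj₂ _ hT h
    (pcD_of_below (Groth.DerivedCoh.PCoh.below_of_near _ hT hα))

theorem pcD_rd {U : Scheme.{u}} (j : U ⟶ X) [IsOpenImmersion j] {m : ℤ} {K : DCoh.D X}
    (h : DCoh.IsPseudoCoherentD m K) : DCoh.IsPseudoCoherentD m ((Rd j).obj K) := by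
  rw [Groth.DerivedCoh.PCoh.isPseudoCoherentD_iff] at h ⊢
  intro u
  obtain ⟨V, hx, E, α, hE, hα⟩ := h (j u)
  obtain ⟨c₁⟩ := nonempty_rdComp (k := (j ⁻¹ᵁ V).ι) (j := j) (l := (j ∣_ V) ≫ V.ι) (morphismRestrict_ι j V) K
  obtain ⟨c₂⟩ := nonempty_rdComp (k := j ∣_ V) (j := V.ι) (l := (j ∣_ V) ≫ V.ι) rfl K
  exact ⟨j ⁻¹ᵁ V, hx, _, (rdQIso (j ∣_ V) E).inv ≫ (Rd (j ∣_ V)).map α ≫ c₂.inv ≫ c₁.hom,
    Groth.KTheory.Perf.rc_isStrictlyPerfect _ hE,
    (Groth.DerivedCoh.PCoh.near_of_isIso _).comp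
      ((Groth.DerivedCoh.PCoh.near_rd _ hα).comp (Groth.DerivedCoh.PCoh.near_of_isIso _))⟩

/-- A property closed under isomorphisms, zero and biproducts holds for finite coproducts. -/
theorem prop_sigma_finite (Φ : X.Modules → Prop) (hiso : ∀ {M N : X.Modules}, (M ≅ N) → Φ M → Φ N)
    (hzero : ∀ M : X.Modules, IsZero M → Φ M) (hadd : ∀ M N : X.Modules, Φ M → Φ N → Φ (M ⊞ N))
    (α : Type) [Finite α] (N : α → X.Modules) (h : ∀ a, Φ (N a)) : Φ (∐ N) := by
  refine Finite.induction_empty_option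
    (P := fun α => ∀ N : α → X.Modules, (∀ a, Φ (N a)) → Φ (∐ N)) ?_ ?_ ?_ α N h
  · intro α β e hα N hN
    exact hiso (Sigma.reindex e N) (hα _ fun a => hN (e a))
  · intro N _
    refine hzero _ ?_
    rw [IsZero.iff_id_eq_zero]
    exact Sigma.hom_ext _ _ fun i => i.elim
  · intro α _ hα N hN
    let M := fun a : α => N (some a)
    let e : N none ⊞ (∐ M) ≅ ∐ N :=
      { hom := biprod.desc (Sigma.ι N none) (Sigma.desc fun a => Sigma.ι N (some a))
        inv := Sigma.desc fun a =>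
          match a with
          | none => biprod.inl
          | some a => Sigma.ι M a ≫ biprod.inr
        hom_inv_id := by
          refine biprod.hom_ext' _ _ (by simp) (Sigma.hom_ext _ _ fun a => by simp [M])
        inv_hom_id := by
          refine Sigma.hom_ext _ _ fun a => ?_
          cases a <;> simp [M] }
    exact hiso e (hadd _ _ (hN none) (hα M fun a => hN (some a)))

/-- `i_* O` is pseudo-coherent. -/
def PCImm (i : X ⟶ P) : Prop :=
  ∀ m : ℤ, DCoh.IsPseudoCoherentD m (DCoh.inD P ((Scheme.Modules.pushforward i).obj (Coh.structureModule X)))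

variable (i : X ⟶ P) [IsClosedImmersion i]

theorem PCImm.restrict (hi : PCImm i) (V : P.Opens) : PCImm (i ∣_ V) := fun m => by
  refine Groth.DerivedCoh.PCoh.isPseudoCoherentD_of_iso ?_ (pcD_rd V.ι (hi m))
  exact Groth.DerivedCoh.PCoh.rdInDIso V.ι _ ≪≫ (DerivedCategory.singleFunctor _ 0).mapIso
    ((pushRestrictIso i V).app _ ≪≫ (Scheme.Modules.pushforward (i ∣_ V)).mapIso
      (Scheme.Modules.restrictUnitIso (i ⁻¹ᵁ V).ι))

variable {i}

theorem pcD_push_free (hi : PCImm i) (m : ℤ) (n : ℕ) :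
    DCoh.IsPseudoCoherentD m ((Pd i).obj (DCoh.inD X (FlatMod.freeMod X n))) := by
  refine prop_sigma_finite (fun M : X.Modules => DCoh.IsPseudoCoherentD m ((Pd i).obj (DCoh.inD X M)))
    (fun e h => Groth.DerivedCoh.PCoh.isPseudoCoherentD_of_iso
      ((Pd i).mapIso ((DerivedCategory.singleFunctor _ 0).mapIso e)) h)
    (fun M hM => pcD_of_below fun k _ => (DerivedCategory.homologyFunctor _ k).map_isZero
      ((Pd i).map_isZero ((DerivedCategory.singleFunctor _ 0).map_isZero hM)))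
    (fun M N hM hN => ?_) (Fin n) _
    fun _ => Groth.DerivedCoh.PCoh.isPseudoCoherentD_of_iso (pdInDIso i _).symm (hi m)
  have hS : (ShortComplex.mk (biprod.inl : M ⟶ M ⊞ N) biprod.snd (by simp)).ShortExact :=
    ShortComplex.Splitting.shortExact { r := biprod.fst, s := biprod.inr }
  exact Groth.DerivedCoh.PCoh.isPseudoCoherentD_obj₂ _
    ((Pd i).map_distinguished _ hS.singleTriangle_distinguished) hM hN

theorem pcD_push_finLocFree (hi : PCImm i) (m : ℤ) {M : X.Modules} (hM : FlatMod.IsFinLocFree M) :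
    DCoh.IsPseudoCoherentD m ((Pd i).obj (DCoh.inD X M)) := by
  refine Groth.DerivedCoh.PCoh.isPseudoCoherentD_of_local fun y => ?_
  obtain ⟨V, hy, n, ⟨e⟩⟩ : ∃ V : P.Opens, y ∈ V ∧
      ∃ n, Nonempty (M.restrict (i ⁻¹ᵁ V).ι ≅ FlatMod.freeMod (i ⁻¹ᵁ V) n) := by
    by_cases hy : y ∈ Set.range i
    · obtain ⟨x, rfl⟩ := hy
      obtain ⟨U, n, hx, ⟨e⟩⟩ := hM x
      obtain ⟨V, hV, hVU⟩ := (i.isClosedEmbedding.isInducing.isOpen_iff).1 U.isOpen
      obtain rfl : i ⁻¹ᵁ (⟨V, hV⟩ : P.Opens) = U := Opens.ext hVU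
      exact ⟨⟨V, hV⟩, hx, n, ⟨e⟩⟩
    · refine ⟨⟨(Set.range i)ᶜ, i.isClosedEmbedding.isClosed_range.isOpen_compl⟩, hy, 0, ⟨?_⟩⟩
      have hz : ∀ M : (i ⁻¹ᵁ (⟨(Set.range i)ᶜ, i.isClosedEmbedding.isClosed_range.isOpen_compl⟩ : P.Opens) :
          Scheme.{u}).Modules, IsZero M := fun M =>
        (Groth.QCohMod.isZero_iff_stalk M).2 fun x => (x.2 ⟨x.1, rfl⟩).elim
      exact (hz _).iso (hz _)
  refine ⟨V, hy, ?_⟩
  obtain ⟨c⟩ := nonempty_rdPd i V (DCoh.inD X M)
  exact Groth.DerivedCoh.PCoh.isPseudoCoherentD_of_iso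
    ((Pd (i ∣_ V)).mapIso ((DerivedCategory.singleFunctor _ 0).mapIso e.symm ≪≫
      (Groth.DerivedCoh.PCoh.rdInDIso _ M).symm) ≪≫ c.symm)
    (pcD_push_free (hi.restrict i V) m n)

/-- Pseudo-coherence is preserved by `i_*`. -/
theorem pcD_push (hi : PCImm i) {m : ℤ} {K : DCoh.D X} (h : DCoh.IsPseudoCoherentD m K) :
    DCoh.IsPseudoCoherentD m ((Pd i).obj K) := by
  refine Groth.DerivedCoh.PCoh.isPseudoCoherentD_of_local fun y => ?_
  by_cases hy : y ∈ Set.range i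
  · obtain ⟨x, rfl⟩ := hy
    obtain ⟨U, hx, hU⟩ := (Groth.DerivedCoh.PCoh.isPseudoCoherentD_iff m K).1 h x
    obtain ⟨V, hV, hVU⟩ := (i.isClosedEmbedding.isInducing.isOpen_iff).1 U.isOpen
    obtain rfl : i ⁻¹ᵁ (⟨V, hV⟩ : P.Opens) = U := Opens.ext hVU
    let V' : P.Opens := ⟨V, hV⟩
    obtain ⟨E, α, hE, hα⟩ := hU
    refine ⟨V', hx, ?_⟩
    obtain ⟨c⟩ := nonempty_rdPd i V' K
    refine Groth.DerivedCoh.PCoh.isPseudoCoherentD_of_iso c.symm (pcD_of_near (near_pd _ hα) ?_)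
    obtain ⟨⟨a, b, hab⟩, hfl⟩ := hE
    refine Groth.PCohPunctual.termwise_induction
      (fun L => DCoh.IsPseudoCoherentD m ((Pd (i ∣_ V')).obj L))
      (fun _ _ e h => Groth.DerivedCoh.PCoh.isPseudoCoherentD_of_iso ((Pd (i ∣_ V')).mapIso e) h)
      (fun T hT h₁ h₃ => Groth.DerivedCoh.PCoh.isPseudoCoherentD_obj₂ _ ((Pd (i ∣_ V')).map_distinguished T hT) h₁ h₃)
      m (fun G hG => pcD_of_below (below_pd _ fun k hk => ?_)) E b
      (fun k hk => hab k (.inr hk)) fun k _ => ?_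
    · exact ((HomologicalComplex.exactAt_iff_isZero_homology _ _).1 (.of_isZero (hG k hk))).of_iso
        ((DerivedCategory.homologyFunctorFactors _ k).app G)
    · refine Groth.DerivedCoh.PCoh.isPseudoCoherentD_of_iso ((Pd (i ∣_ V')).mapIso
        (Groth.PCohPunctual.singleShiftIso (E.X k) k)) ?_
      refine Groth.DerivedCoh.PCoh.isPseudoCoherentD_of_iso
        (((Pd (i ∣_ V')).commShiftIso (-k)).app _).symm ?_
      exact Groth.DerivedCoh.PCoh.isPseudoCoherentD_shift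
        (pcD_push_finLocFree (hi.restrict i V') (m - k) (hfl k)) (-k) m (by omega)
  · refine ⟨⟨(Set.range i)ᶜ, i.isClosedEmbedding.isClosed_range.isOpen_compl⟩, hy, pcD_of_below fun k _ => ?_⟩
    obtain ⟨c⟩ := nonempty_rdPd i (⟨(Set.range i)ᶜ, i.isClosedEmbedding.isClosed_range.isOpen_compl⟩ : P.Opens) K
    refine IsZero.of_iso ?_ ((DerivedCategory.homologyFunctor _ k).mapIso c)
    refine (Scheme.Modules.pushforward _).map_isZero ?_ |>.of_iso (nonempty_hdPd _ _ k).some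
    exact (Groth.QCohMod.isZero_iff_stalk _).2 fun x => (x.2 ⟨x.1, rfl⟩).elim

/-- A preimage open around a point of the source. -/
theorem exists_opens_eq_preimage (U : X.Opens) : ∃ V : P.Opens, i ⁻¹ᵁ V = U := by
  obtain ⟨V, hV, hVU⟩ := (i.isClosedEmbedding.isInducing.isOpen_iff).1 U.isOpen
  exact ⟨⟨V, hV⟩, Opens.ext hVU⟩

omit [IsClosedImmersion i] in
/-- The morphism to the top cohomology. -/
theorem exists_toTop {K : DCoh.D X} {n : ℤ} (hK : Below (n + 1) K) :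
    ∃ (Z : X.Modules) (g : K ⟶ (DerivedCategory.singleFunctor X.Modules n).obj Z),
      Near (n - 1) g ∧ Nonempty (DCoh.HD K n ≅ Z) := by
  obtain ⟨A, B, hA, hB, f, g, h, hT⟩ := DerivedCategory.TStructure.t.exists_triangle K (n - 1) n (by omega)
  haveI : A.IsLE (n - 1) := ⟨hA⟩
  haveI : B.IsGE n := ⟨hB⟩
  have hA0 : ∀ k, n ≤ k → IsZero ((DerivedCategory.homologyFunctor _ k).obj A) := fun k hk =>
    DerivedCategory.isZero_of_isLE A (n - 1) k (by omega)
  have hB0 : ∀ k, k < n → IsZero ((DerivedCategory.homologyFunctor _ k).obj B) := fun k hk =>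
    DerivedCategory.isZero_of_isGE B n k hk
  haveI : B.IsLE n := (DerivedCategory.isLE_iff B n).2 fun k hk =>
    Groth.PCohPunctual.isZero_homology₃ hT (j := k + 1) rfl (hK k (by omega)) (hA0 _ (by omega))
  obtain ⟨Z, ⟨eZ⟩⟩ := DerivedCategory.exists_iso_singleFunctor_obj_of_isGE_of_isLE B n
  have hg : Near (n - 1) g := by
    have hb := (Groth.DerivedCoh.PCoh.below_of_near (m := n - 1) _ (rot_of_distTriang _ hT))
    refine ⟨fun k hk => ?_, (hB0 (n - 1) (by omega)).epi _⟩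
    haveI : Mono ((DerivedCategory.homologyFunctor _ k).map g) :=
      (DerivedCategory.HomologySequence.mono_homologyMap_mor₂_iff _ hT k).2
        ((hA0 k (by omega)).eq_of_src _ _)
    haveI : Epi ((DerivedCategory.homologyFunctor _ k).map g) :=
      (DerivedCategory.HomologySequence.epi_homologyMap_mor₂_iff _ hT k (k + 1) rfl).2
        ((hA0 (k + 1) (by omega)).eq_of_tgt _ _)
    exact isIso_of_mono_of_epi _
  haveI := hg.1 n (by omega)
  exact ⟨Z, g ≫ eZ.hom, hg.comp (Groth.DerivedCoh.PCoh.near_of_isIso _),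
    ⟨asIso ((DerivedCategory.homologyFunctor _ n).map g) ≪≫ (DerivedCategory.homologyFunctor _ n).mapIso eZ ≪≫
      Groth.PCohPunctual.homologySingleIso Z n⟩⟩

omit [IsClosedImmersion i] in
theorem pcD_of_push_aux (m : ℤ) (d : ℕ) : ∀ {X P : Scheme.{u}} (i : X ⟶ P) [IsClosedImmersion i] (_ : PCImm i)
    (K : DCoh.D X), DCoh.IsPseudoCoherentD m ((Pd i).obj K) → Below (m + d) K →
      DCoh.IsPseudoCoherentD m K := by
  induction d with
  | zero => intro X P i _ _ K _ hb; exact pcD_of_below (by simpa using hb)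
  | succ d ih =>
    intro X P i _ hi K hK hb
    let n : ℤ := m + d
    have hb' : Below (n + 1) K := fun k hk => hb k (by omega)
    have hFT : CohB1.IsFT (DCoh.HD K n) := by
      have h0 := Groth.DerivedCoh.PCoh.isFT_top (pcD_mono hK (show m ≤ n by omega))
        fun k hk => below_pd i hb' k (by omega)
      have h1 := Groth.QCohMod.isFT_pullback i _ (Groth.QCohMod.isFT_of_iso (nonempty_hdPd i K n).some h0)
      exact Groth.QCohMod.isFT_of_iso
        (asIso ((Scheme.Modules.pullbackPushforwardAdjunction i).counit.app (DCoh.HD K n))) h1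
    refine Groth.DerivedCoh.PCoh.isPseudoCoherentD_of_local fun x => ?_
    obtain ⟨U, hx, G, hG⟩ := Groth.QCohMod.exists_generators_of_isFT _ hFT x
    obtain ⟨V, rfl⟩ := exists_opens_eq_preimage (i := i) U
    refine ⟨i ⁻¹ᵁ V, hx, ?_⟩
    have hi₁ := hi.restrict i V
    have hK₁ : DCoh.IsPseudoCoherentD m ((Pd (i ∣_ V)).obj ((Rd (i ⁻¹ᵁ V).ι).obj K)) :=
      Groth.DerivedCoh.PCoh.isPseudoCoherentD_of_iso (nonempty_rdPd i V K).some (pcD_rd V.ι hK)
    have hb₁ : Below (n + 1) ((Rd (i ⁻¹ᵁ V).ι).obj K) := Groth.DerivedCoh.PCoh.below_rd _ hb'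
    obtain ⟨e₁⟩ := nonempty_hdRd (i ⁻¹ᵁ V).ι K n
    obtain ⟨Z, g, hg, ⟨eZ⟩⟩ := exists_toTop hb₁
    generalize (Rd (i ⁻¹ᵁ V).ι).obj K = L at hK₁ hb₁ e₁ g hg eZ ⊢
    clear hK hb hb' hFT
    let π : Groth.LocFree.freeOn (i ⁻¹ᵁ V : Scheme.{u}) G.I ⟶ (DCoh.HD K n).restrict (i ⁻¹ᵁ V).ι := G.π
    haveI : Epi π := G.epi
    let π' := π ≫ e₁.inv ≫ eZ.hom
    haveI : Epi π' := epi_comp' inferInstance (epi_comp' inferInstance inferInstance)
    let E := (HomologicalComplex.single (i ⁻¹ᵁ V : Scheme.{u}).Modules (ComplexShape.up ℤ) n).obj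
      (Groth.LocFree.freeOn (i ⁻¹ᵁ V : Scheme.{u}) G.I)
    have hE : DCoh.IsStrictlyPerfect E := by
      refine ⟨⟨n, n, fun k hk => HomologicalComplex.isZero_single_obj_X _ n _ k (by omega)⟩, fun k => ?_⟩
      by_cases hk : k = n
      · rw [hk]
        exact Groth.KTheory.LocFree.isFinLocFree_of_iso (HomologicalComplex.singleObjXSelf _ n _).symm
          (Groth.DerivedCoh.PCoh.isFinLocFree_freeOn G.I)
      · exact Groth.KTheory.LocFree.isFinLocFree_zero (HomologicalComplex.isZero_single_obj_X _ n _ k hk)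
    let φ : DCoh.toD _ E ⟶ (DerivedCategory.singleFunctor _ n).obj Z :=
      ((DerivedCategory.singleFunctorIsoCompQ _ n).app _).inv ≫ (DerivedCategory.singleFunctor _ n).map π'
    have hφ : Near n φ := (@Groth.DerivedCoh.PCoh.near_of_isIso _ _ _ _ n _ _ _ (Iso.isIso_inv _)).comp
      ⟨fun k hk => ⟨⟨0, (Groth.PCohPunctual.homology_single_isZero _ hk.ne').eq_of_src _ _,
        (Groth.PCohPunctual.homology_single_isZero _ hk.ne').eq_of_src _ _⟩⟩,
      ((MorphismProperty.epimorphisms _).arrow_mk_iso_iff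
        (((Functor.mapArrowFunctor _ _).mapIso
          (DerivedCategory.singleFunctorCompHomologyFunctorIso _ n)).app (Arrow.mk π'))).2 ‹Epi π'›⟩
    refine Groth.DerivedCoh.PCoh.isPseudoCoherentD_of_local fun x' => ?_
    obtain ⟨W, γ, hx', hγ⟩ := Groth.DerivedCoh.PCoh.exists_lift hE (a := n)
      (fun k hk => HomologicalComplex.isZero_single_obj_X _ n _ k hk.ne) (hg.mono (by omega)) φ x'
    obtain ⟨V₂, rfl⟩ := exists_opens_eq_preimage (i := i ∣_ V) W
    refine ⟨(i ∣_ V) ⁻¹ᵁ V₂, hx', ?_⟩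
    have hi₂ := hi₁.restrict (i ∣_ V) V₂
    have hK₂ := Groth.DerivedCoh.PCoh.isPseudoCoherentD_of_iso (nonempty_rdPd (i ∣_ V) V₂ L).some
      (pcD_rd V₂.ι hK₁)
    have hγn : Near n γ := by
      have h1 := Groth.DerivedCoh.PCoh.near_rd ((i ∣_ V) ⁻¹ᵁ V₂).ι hφ
      have h2 := Groth.DerivedCoh.PCoh.near_rd ((i ∣_ V) ⁻¹ᵁ V₂).ι hg
      rw [← hγ] at h1
      refine ⟨fun k hk => ?_, ?_⟩
      · haveI := h2.1 k (by omega)
        have := h1.1 k hk
        rw [Functor.map_comp] at this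
        exact IsIso.of_isIso_comp_right _ ((DerivedCategory.homologyFunctor _ k).map
          ((Rd ((i ∣_ V) ⁻¹ᵁ V₂).ι).map g))
      · haveI := h2.1 n (by omega)
        have := h1.2
        rw [Functor.map_comp] at this
        exact ((MorphismProperty.epimorphisms _).cancel_right_of_respectsIso _
          ((DerivedCategory.homologyFunctor _ n).map ((Rd ((i ∣_ V) ⁻¹ᵁ V₂).ι).map g))).1 this
    obtain ⟨C, v, w, hT⟩ := distinguished_cocone_triangle γ
    have hE' : ∀ k, DCoh.IsPseudoCoherentD k ((Rd ((i ∣_ V) ⁻¹ᵁ V₂).ι).obj (DCoh.toD _ E)) := fun k =>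
      pcD_rd _ (Groth.DerivedCoh.PCoh.isPseudoCoherentD_of_isPerfect
        ((Groth.KTheory.Perf.isPerfect_iff _).2 fun y => ⟨⊤, trivial, (Rc (⊤ : Scheme.Opens _).ι).obj E,
          Groth.KTheory.Perf.rc_isStrictlyPerfect _ hE, ⟨rdQIso _ _⟩⟩) k)
    have hC : DCoh.IsPseudoCoherentD m C := ih _ hi₂ C
      (Groth.DerivedCoh.PCoh.isPseudoCoherentD_obj₃ _ ((Pd ((i ∣_ V) ∣_ V₂)).map_distinguished _ hT)
        (pcD_push hi₂ (hE' (m + 1))) hK₂)
      (Groth.DerivedCoh.PCoh.below_of_near _ hT hγn)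
    exact Groth.DerivedCoh.PCoh.isPseudoCoherentD_obj₂ _ hT (hE' m) hC

/-- Pseudo-coherence is reflected by `i_*`. -/
theorem pcD_of_push (hi : PCImm i) {m : ℤ} {K : DCoh.D X} (h : DCoh.IsPseudoCoherentD m ((Pd i).obj K)) :
    DCoh.IsPseudoCoherentD m K := by
  refine Groth.DerivedCoh.PCoh.isPseudoCoherentD_of_local fun x => ?_
  obtain ⟨V, hx, hV⟩ := (Groth.DerivedCoh.PCoh.isPseudoCoherentD_iff m _).1 h (i x)
  refine ⟨i ⁻¹ᵁ V, hx, ?_⟩
  have hK₁ := Groth.DerivedCoh.PCoh.isPseudoCoherentD_of_iso (nonempty_rdPd i V K).some (pcD_rd V.ι h)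
  obtain ⟨E, α, ⟨⟨a, b, hab⟩, -⟩, hα⟩ := hV
  refine pcD_of_push_aux m ((max m b) + 1 - m).toNat _ (hi.restrict i V) _ hK₁
    (below_of_pd (i ∣_ V) fun k hk => ?_)
  have := hα.1 k (by omega)
  refine IsZero.of_iso ?_ ((DerivedCategory.homologyFunctor _ k).mapIso (nonempty_rdPd i V K).some.symm ≪≫
    (asIso ((DerivedCategory.homologyFunctor _ k).map α)).symm)
  exact IsZero.of_iso ((HomologicalComplex.exactAt_iff_isZero_homology _ _).1
    (.of_isZero (hab k (.inr (by omega))))) ((DerivedCategory.homologyFunctorFactors _ k).app E)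

theorem pcD_push_iff (hi : PCImm i) (m : ℤ) (K : DCoh.D X) :
    DCoh.IsPseudoCoherentD m ((Pd i).obj K) ↔ DCoh.IsPseudoCoherentD m K :=
  ⟨pcD_of_push hi, pcD_push hi⟩

end Groth.RelPC
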