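import Groth.Agent.Misc7.ClosedImm.Modules
import Groth.Agent.QCohMod.Pullback
import Groth.Agent.FlatMor2.NilBaseChange
import Mathlib.AlgebraicGeometry.PullbackCarrier

/-!
Base change of direct images along closed immersions, for arbitrary modules.
-/

universe u

open CategoryTheory CategoryTheory.Limits AlgebraicGeometry TopologicalSpace TensorProduct
open Groth.QCohMod (pullGerm pullStalkEquiv pullStalkHom_tmul pullGerm_smul stalkAlg)
open Groth.Misc7.ClosedImm (Killed killed_push unitIso)

namespace Groth.RelPC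

variable {X P X' P' : Scheme.{u}} {i : X ⟶ P} {i' : X' ⟶ P'} {g : P' ⟶ P} {g' : X' ⟶ X}

theorem killed_germ {G : P.Modules} [IsClosedImmersion i] (h : Killed i G) {V : P.Opens} (j : Γ(P, V))
    (hj : i.app V j = 0) (x : P) (hx : x ∈ V) (t : G.presheaf.stalk x) : P.presheaf.germ V x hx j • t = 0 := by
  by_cases hr : x ∈ Set.range i
  · obtain ⟨z, rfl⟩ := hr
    refine h.killed z _ ?_ t
    erw [Scheme.Hom.germ_stalkMap_apply, hj, map_zero]
  · rw [h.outside x hr t, smul_zero]

variable [IsClosedImmersion i] [IsClosedImmersion i']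

/-- The inverse image of a module killed by a closed subscheme is killed by its preimage. -/
theorem killed_pullback (sq : IsPullback g' i' i g) {G : P.Modules} (h : Killed i G) :
    Killed i' ((Scheme.Modules.pullback g).obj G) := by
  refine ⟨fun y hy t => ?_, fun z a ha t => ?_⟩
  · have hgy : g y ∉ Set.range i := by
      rintro ⟨x, hx⟩
      obtain ⟨q, -, hq⟩ := Scheme.Pullback.exists_preimage_pullback x y hx
      refine hy ⟨sq.isoPullback.inv q, ?_⟩
      rw [← Scheme.Hom.comp_apply, sq.isoPullback_inv_snd]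
      exact hq
    let _ := stalkAlg g y
    obtain ⟨w, rfl⟩ := (pullStalkEquiv g G y).surjective t
    induction w using TensorProduct.induction_on with
    | zero => exact map_zero _
    | tmul b t => rw [h.outside _ hgy t, tmul_zero]; exact map_zero _
    | add p q hp hq => rw [map_add, hp, hq]; exact add_zero _
  · obtain ⟨V, hV, hyV, -⟩ := exists_isAffineOpen_mem_and_subset (show g (i' z) ∈ (⊤ : P.Opens) from trivial)
    obtain ⟨U, hU, hyU, hUV⟩ := exists_isAffineOpen_mem_and_subset (show i' z ∈ g ⁻¹ᵁ V from hyV)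
    letI : Algebra Γ(P', U) (P'.presheaf.stalk (i' z)) := TopCat.Presheaf.algebra_section_stalk P'.presheaf ⟨i' z, hyU⟩
    haveI : IsLocalization.AtPrime (P'.presheaf.stalk (i' z)) (hU.primeIdealOf ⟨i' z, hyU⟩).asIdeal :=
      hU.isLocalization_stalk ⟨i' z, hyU⟩
    obtain ⟨⟨r, u⟩, hru⟩ := IsLocalization.surj (hU.primeIdealOf ⟨i' z, hyU⟩).asIdeal.primeCompl a
    let γ : Γ(P', U) →+* P'.presheaf.stalk (i' z) := (P'.presheaf.germ U (i' z) hyU).hom
    have hu : IsUnit (γ u) := IsLocalization.map_units (P'.presheaf.stalk (i' z)) u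
    have hru' : a * γ u = γ r := hru
    have hA : IsAffineOpen (i' ⁻¹ᵁ U) := hU.preimage i'
    letI : Algebra Γ(X', i' ⁻¹ᵁ U) (X'.presheaf.stalk z) := TopCat.Presheaf.algebra_section_stalk X'.presheaf ⟨z, hyU⟩
    haveI : IsLocalization.AtPrime (X'.presheaf.stalk z) (hA.primeIdealOf ⟨z, hyU⟩).asIdeal :=
      hA.isLocalization_stalk ⟨z, hyU⟩
    have hr0 : X'.presheaf.germ (i' ⁻¹ᵁ U) z hyU (i'.app U r) = 0 := by
      rw [← Scheme.Hom.germ_stalkMap_apply i' U z hyU r]
      show i'.stalkMap z (γ r) = 0
      rw [← hru', map_mul, ha, zero_mul]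
    obtain ⟨c, hc⟩ := (IsLocalization.map_eq_zero_iff (hA.primeIdealOf ⟨z, hyU⟩).asIdeal.primeCompl
      (X'.presheaf.stalk z) (i'.app U r)).1 hr0
    obtain ⟨s, hs⟩ := i'.app_surjective U hU c.1
    have hsu : IsUnit (γ s) := by
      apply isUnit_of_map_unit (i'.stalkMap z).hom
      show IsUnit (i'.stalkMap z (P'.presheaf.germ U (i' z) hyU s))
      erw [Scheme.Hom.germ_stalkMap_apply, hs]
      exact IsLocalization.map_units (X'.presheaf.stalk z) c
    have hmem : s * r ∈ RingHom.ker (i'.app U).hom := by
      rw [RingHom.mem_ker, map_mul, hs]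
      exact hc
    rw [Groth.FlatMor2.ker_eq_map_of_isPushout
      (Groth.FlatMor2.isPushout_app sq.flip hV hU hUV) (i.app_surjective V hV)] at hmem
    have key : ∀ e ∈ (RingHom.ker (i.app V).hom).map (g.appLE V U hUV).hom,
        ∀ t : ((Scheme.Modules.pullback g).obj G).presheaf.stalk (i' z), γ e • t = 0 := by
      intro e he
      refine Submodule.span_induction ?_ ?_ ?_ ?_ he
      · rintro _ ⟨j, hj, rfl⟩ t
        let _ := stalkAlg g (i' z)
        obtain ⟨w, rfl⟩ := (pullStalkEquiv g G (i' z)).surjective t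
        induction w using TensorProduct.induction_on with
        | zero => rw [map_zero]; exact smul_zero _
        | add p q hp hq => rw [map_add, smul_add, hp, hq]; exact add_zero _
        | tmul b t =>
          have he : pullStalkEquiv g G (i' z) (b ⊗ₜ t) = b • pullGerm g G (i' z) t :=
            pullStalkHom_tmul g G (i' z) b t
          have hγ : γ (g.appLE V U hUV j) = g.stalkMap (i' z) (P.presheaf.germ V (g (i' z)) (hUV hyU) j) := by
            erw [Scheme.Hom.germ_stalkMap_apply]
            exact TopCat.Presheaf.germ_res_apply P'.presheaf _ _ _ _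
          show γ (g.appLE V U hUV j) • _ = _
          rw [he, hγ, smul_comm, ← pullGerm_smul]
          refine (congrArg (fun e => b • pullGerm g G (i' z) e) (killed_germ h j hj _ (hUV hyU) t)).trans ?_
          rw [map_zero, smul_zero]
      · intro t; rw [map_zero, zero_smul]
      · intro p q _ _ hp hq t; rw [map_add, add_smul, hp, hq]; exact add_zero _
      · intro c p _ hp t; rw [smul_eq_mul, map_mul, mul_smul, hp, smul_zero]
    have h0 := key _ hmem t
    rw [map_mul, ← hru', ← mul_assoc, mul_comm (γ s) a, mul_assoc, mul_comm a, mul_smul] at h0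
    exact (hsu.mul hu).smul_eq_zero.1 h0

variable (i i' g g')

/-- `g^* i_* ≅ i'_* g'^*` for cartesian squares with `i` a closed immersion. -/
theorem nonempty_closedBC (sq : IsPullback g' i' i g) :
    Nonempty (Scheme.Modules.pushforward i ⋙ Scheme.Modules.pullback g ≅
      Scheme.Modules.pullback g' ⋙ Scheme.Modules.pushforward i') := by
  let F := Scheme.Modules.pushforward i ⋙ Scheme.Modules.pullback g
  exact ⟨unitIso i' F (fun M => killed_pullback sq (killed_push i M)) ≪≫
    Functor.isoWhiskerRight
      (Functor.associator _ _ _ ≪≫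
        Functor.isoWhiskerLeft _ (Scheme.Modules.pullbackComp i' g ≪≫
          Scheme.Modules.pullbackCongr sq.w.symm ≪≫ (Scheme.Modules.pullbackComp g' i).symm) ≪≫
        (Functor.associator _ _ _).symm ≪≫
        Functor.isoWhiskerRight (asIso (Scheme.Modules.pullbackPushforwardAdjunction i).counit) _ ≪≫
        Functor.leftUnitor _) _⟩

end Groth.RelPC
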