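import Groth.Agent.RelPC.ClosedBC
import Groth.Agent.RelPC.Rel
import Groth.Agent.RelPC.Sections
import Groth.Agent.SchemeMorphisms.PrinParts.FlatExact
import Mathlib.RingTheory.TensorProduct.MvPolynomial

/-!
Base change of the chart test along flat morphisms.
-/

universe u

open CategoryTheory CategoryTheory.Limits AlgebraicGeometry TopologicalSpace
open Groth.KTheory.Perf (Rd exists_rep)
open Groth.DerivedCoh.KFlat (T IsKFlat pullCx lpullQIso)

namespace Groth.RelPC

attribute [local instance] HasDerivedCategory.standard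

variable {X Y X' Y' P P' : Scheme.{u}}

section FlatPull

variable (f : X ⟶ Y) [(Scheme.Modules.pullback f).Additive]
  [PreservesFiniteLimits (Scheme.Modules.pullback f)] [PreservesFiniteColimits (Scheme.Modules.pullback f)]

/-- The derived inverse image along a flat morphism is computed termwise. -/
theorem nonempty_Lpull_exact [DCoh.HasLpull f] (K : DCoh.D Y) :
    Nonempty ((DCoh.Lpull f).obj K ≅ (Scheme.Modules.pullback f).mapDerivedCategory.obj K) := by
  obtain ⟨F, ⟨e⟩⟩ := exists_rep K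
  have := Groth.DerivedCoh.KFlat.flatResolution_quasiIso F
  let Q := (Groth.DerivedCoh.KFlat.flatResolution Y).obj F
  have hQ : IsKFlat (T Y) Q := Groth.DerivedCoh.KFlat.flatResolution_isKFlat F
  let eQ : DCoh.toD Y Q ≅ K :=
    asIso (DerivedCategory.Q.map ((Groth.DerivedCoh.KFlat.flatResolutionAug Y).app F)) ≪≫ e
  exact ⟨(DCoh.Lpull f).mapIso eQ.symm ≪≫ lpullQIso f Q hQ ≪≫
    ((Scheme.Modules.pullback f).mapDerivedCategoryFactors.app Q).symm ≪≫
    (Scheme.Modules.pullback f).mapDerivedCategory.mapIso eQ⟩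

end FlatPull

/-- `Lp^* i_* ≅ i'_* Lg^*` for a cartesian square with `i` a closed immersion and `p` flat. -/
theorem nonempty_Lpull_pd {i : X ⟶ P} {i' : X' ⟶ P'} {p : P' ⟶ P} {g : X' ⟶ X}
    [IsClosedImmersion i] [IsClosedImmersion i'] (sq : IsPullback g i' i p) [Flat p] [DCoh.HasLpull p]
    [DCoh.HasLpull g] (K : DCoh.D X) :
    Nonempty ((DCoh.Lpull p).obj ((Pd i).obj K) ≅ (Pd i').obj ((DCoh.Lpull g).obj K)) := by
  haveI : Flat g := MorphismProperty.of_isPullback sq.flip inferInstance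
  haveI := Groth.PrinPartsAux.preservesFiniteLimits_pullback p
  haveI := Groth.PrinPartsAux.preservesFiniteLimits_pullback g
  haveI := (Scheme.Modules.pullbackPushforwardAdjunction p).leftAdjoint_preservesColimits
  haveI := (Scheme.Modules.pullbackPushforwardAdjunction g).leftAdjoint_preservesColimits
  haveI : (Scheme.Modules.pullback p).Additive :=
    Adjunction.left_adjoint_additive (Scheme.Modules.pullbackPushforwardAdjunction p)
  haveI : (Scheme.Modules.pullback g).Additive :=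
    Adjunction.left_adjoint_additive (Scheme.Modules.pullbackPushforwardAdjunction g)
  obtain ⟨e⟩ := nonempty_closedBC i i' p g sq
  obtain ⟨a⟩ := nonempty_Lpull_exact p ((Pd i).obj K)
  obtain ⟨b⟩ := nonempty_Lpull_exact g K
  obtain ⟨c⟩ := nonempty_mapDerived_square _ _ _ _ e K
  exact ⟨a ≪≫ c ≪≫ (Pd i').mapIso b.symm⟩

section Ring

variable {R R' A A' : Type u} [CommRing R] [CommRing R'] [CommRing A] [CommRing A']

attribute [local instance] MvPolynomial.algebraMvPolynomial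

/-- Polynomial rings commute with change of coefficients. -/
theorem isPushout_mvPolynomial_map (a : R →+* R') (n : ℕ) :
    IsPushout (CommRingCat.ofHom (MvPolynomial.C (σ := Fin n) (R := R))) (CommRingCat.ofHom a)
      (CommRingCat.ofHom (MvPolynomial.map a)) (CommRingCat.ofHom (MvPolynomial.C (σ := Fin n) (R := R'))) := by
  algebraize [a]
  exact CommRingCat.isPushout_of_isPushout R (MvPolynomial (Fin n) R) R' (MvPolynomial (Fin n) R')

/-- The base change of a surjection from a polynomial ring. -/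
theorem exists_chart_pushout (a : R →+* R') (b : R →+* A) (c : A →+* A') (d : R' →+* A')
    (H : IsPushout (CommRingCat.ofHom b) (CommRingCat.ofHom a) (CommRingCat.ofHom c) (CommRingCat.ofHom d))
    {n : ℕ} (φ : MvPolynomial (Fin n) R →+* A) (hφ : Function.Surjective φ) (hb : φ.comp MvPolynomial.C = b) :
    ∃ φ' : MvPolynomial (Fin n) R' →+* A', Function.Surjective φ' ∧ φ'.comp MvPolynomial.C = d ∧
      IsPushout (CommRingCat.ofHom φ) (CommRingCat.ofHom (MvPolynomial.map a))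
        (CommRingCat.ofHom c) (CommRingCat.ofHom φ') := by
  subst hb
  have hC : (MvPolynomial.eval₂Hom d fun i => c (φ (MvPolynomial.X i))).comp MvPolynomial.C = d :=
    RingHom.ext fun r => MvPolynomial.eval₂Hom_C _ _ r
  refine ⟨MvPolynomial.eval₂Hom d fun i => c (φ (MvPolynomial.X i)), ?_, hC, ?_⟩
  swap
  · refine IsPushout.of_left (h₁₁ := CommRingCat.ofHom MvPolynomial.C)
      (h₂₁ := CommRingCat.ofHom MvPolynomial.C) ?_ ?_ (isPushout_mvPolynomial_map a n)
    · rw [← CommRingCat.ofHom_comp, ← CommRingCat.ofHom_comp, hC]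
      exact H
    · ext1
      refine MvPolynomial.ringHom_ext (fun r => ?_) fun i => ?_
      · simpa using congr($(H.w) r)
      · simp
  intro y
  have hy : y ∈ Subring.closure (Set.range c ∪ Set.range d) := by
    have := CommRingCat.closure_range_union_range_eq_top_of_isPushout H
    rw [show Subring.closure (Set.range c ∪ Set.range d) = ⊤ from this]
    trivial
  refine (Subring.closure_le (t := (MvPolynomial.eval₂Hom d fun i => c (φ (MvPolynomial.X i))).range)).mpr ?_ hy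
  rintro _ (⟨z, rfl⟩ | ⟨r, rfl⟩)
  · obtain ⟨q, rfl⟩ := hφ z
    refine ⟨MvPolynomial.map a q, ?_⟩
    induction q using MvPolynomial.induction_on with
    | C r => simpa using (congr($(H.w) r)).symm
    | add p q hp hq => simp only [map_add, hp, hq]
    | mul_X p i hp => simp only [map_mul, MvPolynomial.map_X, hp, MvPolynomial.eval₂Hom_X']
  · exact ⟨MvPolynomial.C r, MvPolynomial.eval₂Hom_C _ _ r⟩

end Ring

/-- A surjection from a polynomial ring gives a cartesian square of chart immersions after flat base change. -/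
theorem exists_chart_square {X S X' S' : Scheme.{u}} {g : X' ⟶ X} {f' : X' ⟶ S'} {f : X ⟶ S} {h : S' ⟶ S}
    (sq : IsPullback g f' f h) [Flat h] {U : X.Opens} {V : S.Opens} {V' : S'.Opens} (hU : IsAffineOpen U)
    (hV : IsAffineOpen V) (hV' : IsAffineOpen V') (eU : U ≤ f ⁻¹ᵁ V) (eV : V' ≤ h ⁻¹ᵁ V) {U' : X'.Opens}
    (hU' : IsAffineOpen U') (hU'' : U' = g ⁻¹ᵁ U ⊓ f' ⁻¹ᵁ V') {n : ℕ}
    (φ : MvPolynomial (Fin n) Γ(S, V) →+* Γ(X, U)) (hφ : DerSch.IsChart f U V eU φ) :
    ∃ (φ' : MvPolynomial (Fin n) Γ(S', V') →+* Γ(X', U')),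
      DerSch.IsChart f' U' V' (hU'' ▸ inf_le_right) φ' ∧
        Flat (Spec.map (CommRingCat.ofHom (MvPolynomial.map (σ := Fin n) (h.appLE V V' eV).hom))) ∧
        IsPullback (g.resLE U U' (hU'' ▸ inf_le_left)) (DerSch.chartImm U' φ') (DerSch.chartImm U φ)
          (Spec.map (CommRingCat.ofHom (MvPolynomial.map (σ := Fin n) (h.appLE V V' eV).hom))) := by
  have e₁ : U' ≤ g ⁻¹ᵁ U := hU'' ▸ inf_le_left
  have e₂ : U' ≤ f' ⁻¹ᵁ V' := hU'' ▸ inf_le_right
  have H := (isIso_pushoutSection_iff sq eV eU hU'').1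
    (isIso_pushoutSection_of_isAffineOpen sq eV eU hU'' hV hV' hU)
  obtain ⟨φ', hs, hC, H'⟩ := exists_chart_pushout _ _ _ _ H φ hφ.1 hφ.2
  refine ⟨φ', ⟨hs, hC⟩, ?_, ?_⟩
  · have : Flat (Spec.map (h.appLE V V' eV)) := by
      rw [HasRingHomProperty.Spec_iff (P := @Flat)]
      exact HasRingHomProperty.appLE @Flat h inferInstance ⟨V, hV⟩ ⟨V', hV'⟩ eV
    exact MorphismProperty.of_isPullback
      (isPullback_SpecMap_of_isPushout _ _ _ _ (isPushout_mvPolynomial_map (h.appLE V V' eV).hom n)).flip this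
  · haveI : IsIso U.toSpecΓ := by rw [← hU.isoSpec_hom]; infer_instance
    haveI : IsIso U'.toSpecΓ := by rw [← hU'.isoSpec_hom]; infer_instance
    refine (isPullback_SpecMap_of_isPushout _ _ _ _ H').of_iso (asIso U'.toSpecΓ).symm (asIso U.toSpecΓ).symm
      (Iso.refl _) (Iso.refl _) ?_ ?_ ?_ ?_
    · simp only [Iso.symm_hom, asIso_inv, IsIso.eq_inv_comp, ← Category.assoc, IsIso.comp_inv_eq]
      exact Scheme.Opens.toSpecΓ_SpecMap_appLE g U U' e₁
    · simp [DerSch.chartImm]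
    · simp [DerSch.chartImm]
    · simp; rfl

/-- The chart test after flat base change. -/
theorem chartOn_Lpull_flat {X S X' S' : Scheme.{u}} {g : X' ⟶ X} {f' : X' ⟶ S'} {f : X ⟶ S} {h : S' ⟶ S}
    (sq : IsPullback g f' f h) [Flat h] [DCoh.HasLpull g] {U : X.Opens} {V : S.Opens} {V' : S'.Opens}
    (hU : IsAffineOpen U) (hV : IsAffineOpen V) (hV' : IsAffineOpen V') (eU : U ≤ f ⁻¹ᵁ V) (eV : V' ≤ h ⁻¹ᵁ V)
    {U' : X'.Opens} (hU' : IsAffineOpen U') (hU'' : U' = g ⁻¹ᵁ U ⊓ f' ⁻¹ᵁ V') {m : ℤ} {E : DCoh.D X}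
    (hE : ChartOn f m E U V) : ChartOn f' m ((DCoh.Lpull g).obj E) U' V' := by
  obtain ⟨_, n, φ, hφ, hPC⟩ := hE
  obtain ⟨φ', hφ', hp, sq'⟩ := exists_chart_square sq hU hV hV' eU eV hU' hU'' φ hφ
  haveI := isClosedImmersion_chartImm hU φ hφ.1
  haveI := isClosedImmersion_chartImm hU' φ' hφ'.1
  have hL : ∀ {A B : Scheme.{u}} (f : A ⟶ B), DCoh.HasLpull f := fun f => Groth.DerivedCoh.KFlat.hasLpull f
  let p := Spec.map (CommRingCat.ofHom (MvPolynomial.map (σ := Fin n) (h.appLE V V' eV).hom))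
  haveI := hL p
  haveI := hL (g.resLE U U' (hU'' ▸ inf_le_left))
  haveI := hL U'.ι
  haveI := hL U.ι
  haveI := hL (U'.ι ≫ g)
  haveI := hL (g.resLE U U' (hU'' ▸ inf_le_left) ≫ U.ι)
  obtain ⟨a⟩ := nonempty_Lpull_pd sq' ((Rd U.ι).obj E)
  obtain ⟨b⟩ := nonempty_Lpull_rd U'.ι ((DCoh.Lpull g).obj E)
  obtain ⟨b'⟩ := nonempty_Lpull_rd U.ι E
  obtain ⟨c⟩ := Groth.DerivedCoh.KFlat.Lpull_comp_iso U'.ι g
  obtain ⟨c'⟩ := Groth.DerivedCoh.KFlat.Lpull_comp_iso (g.resLE U U' (hU'' ▸ inf_le_left)) U.ι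
  have key : (DCoh.Lpull (U'.ι ≫ g)).obj E ≅ (DCoh.Lpull (g.resLE U U' (hU'' ▸ inf_le_left) ≫ U.ι)).obj E :=
    eqToIso (by congr 2; exact (Scheme.Hom.resLE_comp_ι g _).symm)
  refine ⟨hU'' ▸ inf_le_right, n, φ', hφ', (chartPC_iff hU' φ' m _).2 ?_⟩
  refine Groth.DerivedCoh.PCoh.isPseudoCoherentD_of_iso (a ≪≫ (Pd _).mapIso ?_)
    (Groth.DerivedCoh.PCoh.isPseudoCoherentD_Lpull p ((chartPC_iff hU φ m E).1 hPC))
  exact (DCoh.Lpull _).mapIso b'.symm ≪≫ c'.app E ≪≫ key.symm ≪≫ (c.app E).symm ≪≫ b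

end Groth.RelPC
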