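import Groth.Agent.RelPC.Fppf
import Groth.Agent.RelPC.FlatBC
import Groth.Agent.RelPC.Comp
import Groth.Agent.DerivedCoh.PCoh.TopCohomology
import Groth.Agent.PicAux.Pullback
import Groth.Agent.RelPC.QCoh

/-!
Relative pseudo-coherence along closed immersions into the source, and of composites.
-/

set_option linter.style.haveILetI false

universe u

open CategoryTheory CategoryTheory.Limits CategoryTheory.Pretriangulated AlgebraicGeometry TopologicalSpace
open Groth.KTheory.Perf (Rd Rc rdQIso)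
open Groth.DerivedCoh.PCoh (Near Below)

namespace Groth.RelPC

attribute [local instance] HasDerivedCategory.standard

variable {X P S : Scheme.{u}}

/-- relative pseudo-coherence is reflected by direct image along a closed immersion of the source -/
theorem rel_of_rel_push (i : X ⟶ P) [IsClosedImmersion i] (h : P ⟶ S) [LocallyOfFiniteType h] {m : ℤ}
    {E : DCoh.D X} (hE : DerSch.IsPseudoCoherentRel h m ((Pd i).obj E)) :
    DerSch.IsPseudoCoherentRel (i ≫ h) m E := by
  refine rel_of_local fun x => ?_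
  obtain ⟨V, hV, hxV, -⟩ := exists_isAffineOpen_mem_and_subset (U := (⊤ : S.Opens)) (x := h (i x)) trivial
  obtain ⟨W, hW, hxW, hWV⟩ := exists_isAffineOpen_mem_and_subset (U := h ⁻¹ᵁ V) (x := i x) hxV
  have hU : IsAffineOpen (i ⁻¹ᵁ W) := hW.preimage i
  have hUV : i ⁻¹ᵁ W ≤ (i ≫ h) ⁻¹ᵁ V := i.preimage_mono hWV
  obtain ⟨n, φ, hφ⟩ := exists_chart (f := h) hWV (h.finiteType_appLE hV hW hWV)
  have hq : Function.Surjective (i.app W).hom := i.app_surjective W hW
  have hψ : DerSch.IsChart (i ≫ h) (i ⁻¹ᵁ W) V hUV ((i.app W).hom.comp φ) := by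
    refine ⟨hq.comp hφ.1, ?_⟩
    rw [RingHom.comp_assoc, hφ.2]
    exact congrArg CommRingCat.Hom.hom (show h.appLE V W hWV ≫ i.app W = (i ≫ h).appLE V (i ⁻¹ᵁ W) hUV by
      rw [Scheme.Hom.app_eq_appLE, Scheme.Hom.appLE_comp_appLE])
  haveI := isClosedImmersion_chartImm hW φ hφ.1
  haveI := isClosedImmersion_chartImm hU ((i.app W).hom.comp φ) hψ.1
  refine ⟨i ⁻¹ᵁ W, V, hxW, hU, hV, (chartOn_iff hU hUV _ hψ m E).2 ((chartPC_iff hU _ m E).2 ?_)⟩
  have hc : DerSch.chartImm (i ⁻¹ᵁ W) ((i.app W).hom.comp φ) = i ∣_ W ≫ DerSch.chartImm W φ := by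
    have heq : (i ⁻¹ᵁ W).toSpecΓ ≫ Spec.map (CommRingCat.ofHom (i.app W).hom) = i ∣_ W ≫ W.toSpecΓ :=
      Scheme.Opens.toSpecΓ_naturality i W
    simp only [DerSch.chartImm, CommRingCat.ofHom_comp, Spec.map_comp]
    erw [← Category.assoc, heq, Category.assoc]
  obtain ⟨a⟩ := nonempty_rdPd i W E
  obtain ⟨b⟩ := nonempty_pdComp (i ∣_ W) (DerSch.chartImm W φ) ((Rd (i ⁻¹ᵁ W).ι).obj E)
  simp only [hc]
  exact Groth.DerivedCoh.PCoh.isPseudoCoherentD_of_iso ((Pd (DerSch.chartImm W φ)).mapIso a ≪≫ b)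
    (pcD_chart_of_rel hE hW hV hφ)

section Free

variable {h : P ⟶ S} [LocallyOfFiniteType h] {s : ℤ}

theorem rel_free (hs : DerSch.IsPseudoCoherentRel h s (DCoh.inD P (Coh.structureModule P))) (n : ℕ) :
    DerSch.IsPseudoCoherentRel h s (DCoh.inD P (FlatMod.freeMod P n)) := by
  refine prop_sigma_finite (fun M : P.Modules => DerSch.IsPseudoCoherentRel h s (DCoh.inD P M))
    (fun e h => rel_of_iso ((DerivedCategory.singleFunctor _ 0).mapIso e) h)
    (fun M hM => rel_of_below fun k _ => (DerivedCategory.homologyFunctor _ k).map_isZero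
      ((DerivedCategory.singleFunctor _ 0).map_isZero hM))
    (fun M N hM hN => ?_) (Fin n) _ fun _ => hs
  have hS : (ShortComplex.mk (biprod.inl : M ⟶ M ⊞ N) biprod.snd (by simp)).ShortExact :=
    ShortComplex.Splitting.shortExact { r := biprod.fst, s := biprod.inr }
  exact rel_obj₂ _ hS.singleTriangle_distinguished hM hN

theorem rel_structure_rd (hs : DerSch.IsPseudoCoherentRel h s (DCoh.inD P (Coh.structureModule P)))
    (V : P.Opens) :
    DerSch.IsPseudoCoherentRel (V.ι ≫ h) s (DCoh.inD (V : Scheme.{u}) (Coh.structureModule (V : Scheme.{u}))) :=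
  rel_of_iso (Groth.DerivedCoh.PCoh.rdInDIso V.ι _ ≪≫
    (DerivedCategory.singleFunctor _ 0).mapIso (Scheme.Modules.restrictUnitIso V.ι)) (rel_rd V.ι h hs)

theorem rel_finLocFree (hs : DerSch.IsPseudoCoherentRel h s (DCoh.inD P (Coh.structureModule P)))
    {M : P.Modules} (hM : FlatMod.IsFinLocFree M) : DerSch.IsPseudoCoherentRel h s (DCoh.inD P M) := by
  choose U n hx e using hM
  refine rel_of_cover h U (eq_top_iff.2 fun x _ => Opens.mem_iSup.2 ⟨x, hx x⟩) fun x => ?_
  obtain ⟨e⟩ := e x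
  exact rel_of_iso ((DerivedCategory.singleFunctor _ 0).mapIso e.symm ≪≫
    (Groth.DerivedCoh.PCoh.rdInDIso _ M).symm) (rel_free (rel_structure_rd hs (U x)) (n x))

end Free

/-- an absolutely pseudo-coherent object in degrees `≤ 0` over a relatively pseudo-coherent scheme -/
theorem rel_of_pcD (h : P ⟶ S) [LocallyOfFiniteType h] {r s : ℤ}
    (hs : DerSch.IsPseudoCoherentRel h s (DCoh.inD P (Coh.structureModule P))) {K : DCoh.D P}
    (hK : DCoh.IsPseudoCoherentD r K) (h0 : Below 1 K) :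
    DerSch.IsPseudoCoherentRel h (max r s) K := by
  rcases lt_or_ge 0 (max r s) with hM | hM
  · exact rel_of_below fun k hk => h0 k (by omega)
  choose V hx E α hE hα using (Groth.DerivedCoh.PCoh.isPseudoCoherentD_iff (max r s) K).1
    (pcD_mono hK (le_max_left r s))
  refine rel_of_cover h V (eq_top_iff.2 fun x _ => Opens.mem_iSup.2 ⟨x, hx x⟩) fun x => ?_
  generalize max r s = M, le_max_right r s = hsM at hα hM ⊢
  have hsV := rel_structure_rd hs (V x)
  have hα := hα x
  have hE := hE x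
  generalize E x = E', α x = α' at hα hE
  have hex : ∀ i, 0 < i → E'.ExactAt i := fun i hi => by
    rw [HomologicalComplex.exactAt_iff_isZero_homology]
    have := hα.1 i (by omega)
    exact (Groth.DerivedCoh.PCoh.below_rd (V x).ι h0 i (by omega)).of_iso
      (((DerivedCategory.homologyFunctorFactors _ i).app E').symm ≪≫
        asIso ((DerivedCategory.homologyFunctor _ i).map α'))
  haveI : E'.IsLE 0 := (CochainComplex.isLE_iff E' 0).2 hex
  haveI : QuasiIso (E'.ιTruncLE 0) := (E'.quasiIso_ιTruncLE_iff 0).2 inferInstance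
  have hfl : ∀ i, FlatMod.IsFinLocFree ((E'.truncLE 0).X i) := fun i => by
    rcases lt_trichotomy i 0 with hi | rfl | hi
    · exact Groth.KTheory.LocFree.isFinLocFree_of_iso (E'.truncLEXIso 0 i hi).symm (hE.2 i)
    · exact Groth.KTheory.LocFree.isFinLocFree_of_iso (E'.truncLEXIsoCycles 0).symm
        (Groth.DerivedCoh.PCoh.isFinLocFree_cycles hE 0 hex le_rfl)
    · exact Groth.KTheory.LocFree.isFinLocFree_zero ((E'.truncLE 0).isZero_of_isStrictlyLE 0 i hi)
  have hEr : DerSch.IsPseudoCoherentRel ((V x).ι ≫ h) M (DerivedCategory.Q.obj (E'.truncLE 0)) := by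
    refine Groth.PCohPunctual.termwise_induction
      (fun L => DerSch.IsPseudoCoherentRel ((V x).ι ≫ h) M L) (fun _ _ e h => rel_of_iso e h)
      (fun T hT h₁ h₃ => rel_obj₂ T hT h₁ h₃) M (fun G hG => rel_of_below fun k hk => ?_)
      (E'.truncLE 0) 0 (fun i hi => (E'.truncLE 0).isZero_of_isStrictlyLE 0 i hi) fun k _ => ?_
    · exact ((HomologicalComplex.exactAt_iff_isZero_homology _ _).1 (.of_isZero (hG k hk))).of_iso
        ((DerivedCategory.homologyFunctorFactors _ k).app G)
    · rcases lt_or_ge 0 k with hk | hk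
      · exact rel_of_below fun i _ => (DerivedCategory.homologyFunctor _ i).map_isZero
          ((DerivedCategory.singleFunctor _ k).map_isZero ((E'.truncLE 0).isZero_of_isStrictlyLE 0 k hk))
      · exact rel_of_iso (Groth.PCohPunctual.singleShiftIso _ k)
          (rel_mono (rel_shift (rel_finLocFree hsV (hfl k)) (-k) (s + k) (by omega)) (by omega))
  have hiso := (DerivedCategory.isIso_Q_map_iff_quasiIso _ (E'.ιTruncLE 0)).2 inferInstance
  obtain ⟨C, v, w, hT⟩ := distinguished_cocone_triangle α'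
  exact rel_obj₂ _ hT (rel_of_iso (@asIso _ _ _ _ _ hiso) hEr)
    (rel_of_below (Groth.DerivedCoh.PCoh.below_of_near _ hT hα))

theorem isQCohD_structure (Y : Scheme.{u}) : DCoh.IsQCohD (DCoh.inD Y (Coh.structureModule Y)) := fun i => by
  have hO : (Coh.structureModule Y).IsQuasicoherent :=
    Groth.LocCohBase.HomExtend.isQCoh_of_isFinLocFree (Groth.LocFree.isFinLocFree_unit Y)
  by_cases hi : i = 0
  · subst hi
    exact (Groth.QCohMod.isQCoh_iff_of_iso (Groth.PCohPunctual.homologySingleIso _ 0)).2 hO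
  · haveI := hO
    exact Groth.LocCohBase.HomExtend.isQCoh_of_isFinLocFree
      (Groth.KTheory.LocFree.isFinLocFree_zero (Groth.PCohPunctual.homology_single_isZero _ hi))

theorem nonempty_Lpull_structure {Y : Scheme.{u}} (p : P ⟶ Y) [Flat p] [DCoh.HasLpull p] :
    Nonempty ((DCoh.Lpull p).obj (DCoh.inD Y (Coh.structureModule Y)) ≅
      DCoh.inD P (Coh.structureModule P)) := by
  haveI := Groth.PrinPartsAux.preservesFiniteLimits_pullback p
  haveI := (Scheme.Modules.pullbackPushforwardAdjunction p).leftAdjoint_preservesColimits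
  haveI : (Scheme.Modules.pullback p).Additive :=
    Adjunction.left_adjoint_additive (Scheme.Modules.pullbackPushforwardAdjunction p)
  haveI := Groth.PicAux.isIso_pullUnit p
  obtain ⟨a⟩ := nonempty_Lpull_exact p (DCoh.inD Y (Coh.structureModule Y))
  exact ⟨a ≪≫ (Scheme.Modules.pullback p).mapDerivedCategoryFactors.app _ ≪≫
    DerivedCategory.Q.mapIso ((HomologicalComplex.singleMapHomologicalComplex _ (ComplexShape.up ℤ) 0).app _ ≪≫
      (HomologicalComplex.single _ (ComplexShape.up ℤ) 0).mapIso (asIso (Groth.PicAux.pullUnit p)))⟩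

/-- a smooth chart through which an affine piece of a morphism factors -/
theorem exists_affineSpace_factor {Y : Scheme.{u}} (f : X ⟶ Y) [LocallyOfFiniteType f] (x : X) :
    ∃ (U : X.Opens) (W : Y.Opens) (h : U ≤ f ⁻¹ᵁ W) (n : ℕ) (φ : MvPolynomial (Fin n) Γ(Y, W) →+* Γ(X, U))
      (p : Spec (CommRingCat.of (MvPolynomial (Fin n) Γ(Y, W))) ⟶ Y),
      x ∈ U ∧ IsAffineOpen U ∧ IsAffineOpen W ∧ DerSch.IsChart f U W h φ ∧ Flat p ∧
        LocallyOfFinitePresentation p ∧ IsClosedImmersion (DerSch.chartImm U φ) ∧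
        DerSch.chartImm U φ ≫ p = U.ι ≫ f := by
  obtain ⟨W, hW, hxW, -⟩ := exists_isAffineOpen_mem_and_subset (U := (⊤ : Y.Opens)) (x := f x) trivial
  obtain ⟨U, hU, hxU, hUW⟩ := exists_isAffineOpen_mem_and_subset (U := f ⁻¹ᵁ W) (x := x) hxW
  obtain ⟨n, φ, hφ⟩ := exists_chart hUW (f.finiteType_appLE hW hU hUW)
  let c : CommRingCat.of Γ(Y, W) ⟶ CommRingCat.of (MvPolynomial (Fin n) Γ(Y, W)) :=
    CommRingCat.ofHom MvPolynomial.C
  haveI : Flat (Spec.map c) := by
    rw [HasRingHomProperty.Spec_iff (P := @Flat)]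
    exact RingHom.flat_algebraMap_iff.2
      (inferInstance : Module.Flat Γ(Y, W) (MvPolynomial (Fin n) Γ(Y, W)))
  haveI : LocallyOfFinitePresentation (Spec.map c) := by
    rw [HasRingHomProperty.Spec_iff (P := @LocallyOfFinitePresentation)]
    exact RingHom.finitePresentation_algebraMap.2
      (inferInstance : Algebra.FinitePresentation Γ(Y, W) (MvPolynomial (Fin n) Γ(Y, W)))
  refine ⟨U, W, hUW, n, φ, Spec.map c ≫ hW.fromSpec, hxU, hU, hW, hφ, inferInstance, inferInstance,
    isClosedImmersion_chartImm hU φ hφ.1, ?_⟩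
  have h2 : c ≫ CommRingCat.ofHom φ = f.appLE W U hUW := CommRingCat.hom_ext hφ.2
  simp only [DerSch.chartImm, Category.assoc]
  erw [← Spec.map_comp_assoc, h2, IsAffineOpen.SpecMap_appLE_fromSpec f hW hU hUW,
    ← hU.isoSpec_hom_fromSpec, hU.isoSpec_hom, Category.assoc]

/-- composites of finitely pseudo-coherent morphisms -/
theorem npc_comp {Y : Scheme.{u}} (f : X ⟶ Y) (g : Y ⟶ S) [LocallyOfFiniteType f] [LocallyOfFiniteType g]
    {r s : ℤ} (hf : DerSch.IsNPseudoCoherent f r) (hg : DerSch.IsNPseudoCoherent g s) :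
    DerSch.IsNPseudoCoherent (f ≫ g) (max r s) := by
  choose U W hUW n φ p hx hU hW hφ hpf hpp hci hcomp using exists_affineSpace_factor f
  refine rel_of_cover (f ≫ g) U (eq_top_iff.2 fun x _ => Opens.mem_iSup.2 ⟨x, hx x⟩) fun x => ?_
  haveI := hpf x
  haveI := hpp x
  haveI := hci x
  haveI := Groth.DerivedCoh.KFlat.hasLpull (p x)
  have hpg : DerSch.IsPseudoCoherentRel (p x ≫ g) s (DCoh.inD _ (Coh.structureModule _)) := by
    obtain ⟨e⟩ := nonempty_Lpull_structure (p x)
    exact rel_of_iso e (rel_Lpull (p x) (Groth.PCohHom.morPC_of_flat_lfp _) g (isQCohD_structure Y) hg)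
  rw [← Category.assoc, ← hcomp x, Category.assoc]
  refine rel_of_rel_push _ _ (rel_of_pcD _ hpg (pcD_chart_of_rel hf (hU x) (hW x) (hφ x)) ?_)
  refine below_pd _ (Groth.DerivedCoh.PCoh.below_rd _ fun k hk => ?_)
  exact Groth.PCohPunctual.homology_single_isZero _ (show k ≠ 0 by omega)

end Groth.RelPC
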