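import Groth.Agent.RelPC.TorIndepBC
import Groth.Agent.DerivedCoh.RelAmp.ExternalAmp

/-!
Relative pseudo-coherence of external tensor products.
-/

set_option linter.style.haveILetI false

universe u

open CategoryTheory CategoryTheory.Limits AlgebraicGeometry HomologicalComplex

namespace Groth.RelPC

open Groth.DerivedCoh
open Groth.DerivedCoh.KFlat (IsKFlat tot pullCx)
open Groth.DerivedCoh.PCoh (Below)

attribute [local instance] HasDerivedCategory.standard hasLpull'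

variable {S X₁ Y₁ X₂ Y₂ X Y : Scheme.{u}}

theorem below_Lpull (f : X ⟶ Y) {K : DCoh.D Y} {b : ℤ} (h : Below (b + 1) K) :
    Below (b + 1) ((DCoh.Lpull f).obj K) := by
  obtain ⟨P, hd, -, hK, ⟨e⟩⟩ := exists_flat_model K h
  exact fun k hk => (below_Q_of_isZero
    (fun i (hi : b + 1 ≤ i) => (Scheme.Modules.pullback f).map_isZero (hd i (by omega))) k hk).of_iso
    ((DerivedCategory.homologyFunctor _ k).mapIso
      ((DCoh.Lpull f).mapIso e.symm ≪≫ KFlat.lpullQIso f P hK))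

theorem below_toD_iff {C : CochainComplex X.Modules ℤ} {b : ℤ} :
    Below (b + 1) (DCoh.toD X C) ↔ ∀ i, b < i → C.ExactAt i := by
  refine ⟨fun h i hi => ?_, fun h k hk => ?_⟩
  · rw [HomologicalComplex.exactAt_iff_isZero_homology]
    exact (h i (by omega)).of_iso ((DerivedCategory.homologyFunctorFactors _ i).app C).symm
  · exact ((HomologicalComplex.exactAt_iff_isZero_homology _ _).1 (h k (by omega))).of_iso
      ((DerivedCategory.homologyFunctorFactors _ k).app C)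

/-- a complex of relative tor amplitude `[a, b]` is exact outside -/
theorem exactAt_of_hasTorAmplitude (f : X ⟶ Y) {C : CochainComplex X.Modules ℤ} {a b : ℤ}
    (h : DerSch.HasTorAmplitude f a b C) {i : ℤ} (hi : i < a ∨ b < i) : C.ExactAt i := by
  refine StalkAmp.exactAt_of_stalk C i fun x => ?_
  rw [← DAlg.exactAt_restrictCx_iff (f.stalkMap x).hom]
  obtain ⟨E, hE, -, ⟨e⟩⟩ := h x
  refine ExactAt.of_iso ?_ ((Functor.mapHomologicalComplexCompIso (Iso.refl (KFlat.stk x ⋙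
    ModuleCat.restrictScalars (f.stalkMap x).hom)) (ComplexShape.up ℤ)).app C)
  rw [exactAt_iff_isZero_homology]
  exact (HomologicalComplex.ExactAt.of_isZero (hE i hi)).isZero_homology.of_iso
    (((DerivedCategory.homologyFunctorFactors _ i).app _).symm ≪≫
      (DerivedCategory.homologyFunctor _ i).mapIso e.symm ≪≫
        (DerivedCategory.homologyFunctorFactors _ i).app _)

theorem below_of_hasTorAmplitude (f : X ⟶ Y) {C : CochainComplex X.Modules ℤ} {a b : ℤ}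
    (h : DerSch.HasTorAmplitude f a b C) : Below (b + 1) (DCoh.toD X C) :=
  below_toD_iff.2 fun _ hi => exactAt_of_hasTorAmplitude f h (.inr hi)

theorem isQCohD_of_relAll (f : X ⟶ Y) {K : DCoh.D X} (h : DerSch.IsPseudoCoherentRelAll f K) :
    DCoh.IsQCohD K := fun i => isQCoh_hd_of_rel (h (i - 1)) (by omega)

theorem nonempty_Lpull_unitCx (f : X ⟶ Y) :
    Nonempty ((DCoh.Lpull f).obj (DCoh.toD Y (DerSch.unitCx Y)) ≅ DCoh.toD X (DerSch.unitCx X)) :=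
  ⟨KFlat.lpullQIso f _ (RelAmp.isKFlat_unitCx Y) ≪≫ DerivedCategory.Q.mapIso (RelAmp.pullUnitCxIso f)⟩

/-- external tensor products, flat second factor -/
theorem rel_external (f₁ : X₁ ⟶ Y₁) (q₁ : Y₁ ⟶ S) (f₂ : X₂ ⟶ Y₂) (q₂ : Y₂ ⟶ S) [Flat q₂] [Flat (f₂ ≫ q₂)]
    (pX₁ : X ⟶ X₁) (pX₂ : X ⟶ X₂) (hX : IsPullback pX₁ pX₂ (f₁ ≫ q₁) (f₂ ≫ q₂))
    (pY₁ : Y ⟶ Y₁) (pY₂ : Y ⟶ Y₂) (hY : IsPullback pY₁ pY₂ q₁ q₂)
    (f : X ⟶ Y) (hf₁ : f ≫ pY₁ = pX₁ ≫ f₁) (hf₂ : f ≫ pY₂ = pX₂ ≫ f₂)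
    [LocallyOfFiniteType f₁] [LocallyOfFiniteType f₂] {a₁ b₁ a₂ b₂ : ℤ}
    {E₁ : DCoh.D X₁} (hpc₁ : DerSch.IsPseudoCoherentRel f₁ a₁ E₁) (hb₁ : Below (b₁ + 1) E₁)
    {E₂ : DCoh.D X₂} (hq₂ : DCoh.IsQCohD E₂) (hpc₂ : DerSch.IsPseudoCoherentRel f₂ a₂ E₂)
    (hb₂ : Below (b₂ + 1) E₂) (K₂ : CochainComplex X.Modules ℤ) [DCoh.HasLTensorCx K₂]
    (e : DCoh.toD X K₂ ≅ (DCoh.Lpull pX₂).obj E₂) :
    DerSch.IsPseudoCoherentRel f (max (a₁ + b₂) (a₂ + b₁))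
        ((DCoh.LTensorCx K₂).obj ((DCoh.Lpull pX₁).obj E₁)) ∧
      ((DCoh.LTensorCx K₂).obj ((DCoh.Lpull pX₁).obj E₁)).IsLE (b₁ + b₂) := by
  obtain ⟨F⟩ := RelAmp.nonempty_factor f₁ q₁ f₂ q₂ pX₁ pX₂ hX pY₁ pY₂ hY f hf₁ hf₂
  haveI : Flat pY₁ := MorphismProperty.of_isPullback hY.flip inferInstance
  haveI : LocallyOfFiniteType F.v := MorphismProperty.of_isPullback F.fst inferInstance
  haveI : LocallyOfFiniteType F.u := MorphismProperty.of_isPullback F.snd inferInstance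
  have hu : DerSch.IsPseudoCoherentRel F.u a₂ (DCoh.toD X K₂) :=
    rel_of_iso e.symm (rel_Lpull_torIndep F.snd F.base hq₂ hpc₂)
  have hbu : Below (b₂ + 1) (DCoh.toD X K₂) := fun k hk =>
    (below_Lpull pX₂ hb₂ k hk).of_iso ((DerivedCategory.homologyFunctor _ k).mapIso e)
  obtain ⟨h, hle⟩ := rel_ltensor F.u F.v K₂ hu hbu _ (rel_Lpull_sq F.fst hpc₁) (below_Lpull F.m₁ hb₁)
  obtain ⟨c⟩ := KFlat.Lpull_comp_iso F.u F.m₁
  let i : (DCoh.LTensorCx K₂).obj ((DCoh.Lpull F.u).obj ((DCoh.Lpull F.m₁).obj E₁)) ≅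
      (DCoh.LTensorCx K₂).obj ((DCoh.Lpull pX₁).obj E₁) :=
    (DCoh.LTensorCx K₂).mapIso (c.app E₁ ≪≫ eqToIso (by
      have key : ∀ {p q : X ⟶ X₁}, p = q → (DCoh.Lpull p).obj E₁ = (DCoh.Lpull q).obj E₁ := by
        rintro p q rfl; rfl
      exact key F.u_m₁))
  rw [F.comp, max_comm, add_comm b₂ a₁] at h
  rw [add_comm b₂ b₁] at hle
  refine ⟨rel_of_iso i h, (DerivedCategory.isLE_iff _ _).2 fun k hk => ?_⟩
  exact ((DerivedCategory.isLE_iff _ _).1 hle k hk).of_iso ((DerivedCategory.homologyFunctor _ k).mapIso i.symm)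

/-- products of pseudo-coherent morphisms -/
theorem npc_prod (f₁ : X₁ ⟶ Y₁) (q₁ : Y₁ ⟶ S) (f₂ : X₂ ⟶ Y₂) (q₂ : Y₂ ⟶ S) [Flat q₂] [Flat (f₂ ≫ q₂)]
    (pX₁ : X ⟶ X₁) (pX₂ : X ⟶ X₂) (hX : IsPullback pX₁ pX₂ (f₁ ≫ q₁) (f₂ ≫ q₂))
    (pY₁ : Y ⟶ Y₁) (pY₂ : Y ⟶ Y₂) (hY : IsPullback pY₁ pY₂ q₁ q₂)
    (f : X ⟶ Y) (hf₁ : f ≫ pY₁ = pX₁ ≫ f₁) (hf₂ : f ≫ pY₂ = pX₂ ≫ f₂)
    [LocallyOfFiniteType f₁] [LocallyOfFiniteType f₂] {n : ℤ}
    (h₁ : DerSch.IsNPseudoCoherent f₁ n) (h₂ : DerSch.IsNPseudoCoherent f₂ n) :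
    DerSch.IsNPseudoCoherent f n := by
  obtain ⟨F⟩ := RelAmp.nonempty_factor f₁ q₁ f₂ q₂ pX₁ pX₂ hX pY₁ pY₂ hY f hf₁ hf₂
  haveI : Flat pY₁ := MorphismProperty.of_isPullback hY.flip inferInstance
  haveI : LocallyOfFiniteType F.v := MorphismProperty.of_isPullback F.fst inferInstance
  haveI : LocallyOfFiniteType F.u := MorphismProperty.of_isPullback F.snd inferInstance
  obtain ⟨e₁⟩ := nonempty_Lpull_unitCx F.m₁
  obtain ⟨e₂⟩ := nonempty_Lpull_unitCx pX₂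
  have hv : DerSch.IsNPseudoCoherent F.v n := rel_of_iso e₁ (rel_Lpull_sq F.fst h₁)
  have hu : DerSch.IsNPseudoCoherent F.u n :=
    rel_of_iso e₂ (rel_Lpull_torIndep F.snd F.base (isQCohD_structure X₂) h₂)
  have h := npc_comp F.u F.v hu hv
  rw [F.comp, max_self] at h
  exact h

end Groth.RelPC
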