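import Groth.Agent.RelPC.ExternalPC

/-!
External tensor products, flat first factor.
-/

set_option linter.style.haveILetI false

universe u

open CategoryTheory CategoryTheory.Limits AlgebraicGeometry HomologicalComplex

namespace Groth.RelPC

open Groth.DerivedCoh
open Groth.DerivedCoh.KFlat (IsKFlat tot pullCx)
open Groth.DerivedCoh.PCoh (Below)

attribute [local instance] HasDerivedCategory.standard hasLpull'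

variable {S X₁ Y₁ X₂ Y₂ X Y : Scheme.{u}}

/-- pseudo-coherence of an external tensor product, flat first factor -/
theorem rel_external_left (f₁ : X₁ ⟶ Y₁) (q₁ : Y₁ ⟶ S) (f₂ : X₂ ⟶ Y₂) (q₂ : Y₂ ⟶ S) [Flat q₁] [Flat (f₁ ≫ q₁)]
    (pX₁ : X ⟶ X₁) (pX₂ : X ⟶ X₂) (hX : IsPullback pX₁ pX₂ (f₁ ≫ q₁) (f₂ ≫ q₂))
    (pY₁ : Y ⟶ Y₁) (pY₂ : Y ⟶ Y₂) (hY : IsPullback pY₁ pY₂ q₁ q₂)
    (f : X ⟶ Y) (hf₁ : f ≫ pY₁ = pX₁ ≫ f₁) (hf₂ : f ≫ pY₂ = pX₂ ≫ f₂)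
    [LocallyOfFiniteType f₁] [LocallyOfFiniteType f₂] {a₁ b₁ a₂ b₂ : ℤ}
    {E₁ : DCoh.D X₁} (hq₁ : DCoh.IsQCohD E₁) (hpc₁ : DerSch.IsPseudoCoherentRel f₁ a₁ E₁) (hb₁ : Below (b₁ + 1) E₁)
    {E₂ : DCoh.D X₂} (hpc₂ : DerSch.IsPseudoCoherentRel f₂ a₂ E₂)
    (hb₂ : Below (b₂ + 1) E₂) (K₂ : CochainComplex X.Modules ℤ) [DCoh.HasLTensorCx K₂]
    (e : DCoh.toD X K₂ ≅ (DCoh.Lpull pX₂).obj E₂) :
    DerSch.IsPseudoCoherentRel f (max (a₁ + b₂) (b₁ + a₂))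
      ((DCoh.LTensorCx K₂).obj ((DCoh.Lpull pX₁).obj E₁)) := by
  obtain ⟨F⟩ := RelAmp.nonempty_factor f₂ q₂ f₁ q₁ pX₂ pX₁ hX.flip pY₂ pY₁ hY.flip f hf₂ hf₁
  haveI : Flat pY₂ := MorphismProperty.of_isPullback hY inferInstance
  haveI : LocallyOfFiniteType F.v := MorphismProperty.of_isPullback F.fst inferInstance
  haveI : LocallyOfFiniteType F.u := MorphismProperty.of_isPullback F.snd inferInstance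
  obtain ⟨P₁, hd₁, hfl₁, hK₁, ⟨e₁⟩⟩ := exists_flat_model E₁ hb₁
  obtain ⟨P, hd, hfl, hK, ⟨eP⟩⟩ := exists_flat_model ((DCoh.Lpull F.m₁).obj E₂) (below_Lpull F.m₁ hb₂)
  let C₁ := (pullCx pX₁).obj P₁
  let i₁ : DCoh.toD X C₁ ≅ (DCoh.Lpull pX₁).obj E₁ :=
    (KFlat.lpullQIso pX₁ P₁ hK₁).symm ≪≫ (DCoh.Lpull pX₁).mapIso e₁
  have hu : DerSch.IsPseudoCoherentRel F.u a₁ (DCoh.toD X C₁) :=
    rel_of_iso i₁.symm (rel_Lpull_torIndep F.snd F.base hq₁ hpc₁)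
  have hbu : Below (b₁ + 1) (DCoh.toD X C₁) := fun k hk =>
    (below_Lpull pX₁ hb₁ k hk).of_iso ((DerivedCategory.homologyFunctor _ k).mapIso i₁)
  have h := rel_tot_pull F.u F.v C₁ hu hbu P hK hd hfl (rel_of_iso eP.symm (rel_Lpull_sq F.fst hpc₂))
  rw [F.comp] at h
  have hflip := RelAmp.isKFlat_flip_of_isKFlat (KFlat.isKFlat_pullCx pX₁ P₁ hK₁)
  have := KFlat.isIso_ltcxCounit_app K₂ C₁ hflip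
  obtain ⟨c⟩ := KFlat.Lpull_comp_iso F.u F.m₁
  let i₂ : DCoh.toD X ((pullCx F.u).obj P) ≅ DCoh.toD X K₂ :=
    (KFlat.lpullQIso F.u P hK).symm ≪≫ (DCoh.Lpull F.u).mapIso eP ≪≫ c.app E₂ ≪≫ eqToIso (by
      have key : ∀ {p q : X ⟶ X₂}, p = q → (DCoh.Lpull p).obj E₂ = (DCoh.Lpull q).obj E₂ := by
        rintro p q rfl; rfl
      exact key F.u_m₁) ≪≫ e.symm
  obtain ⟨j⟩ := RelAmp.nonempty_totR_iso C₁ hflip i₂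
  exact rel_of_iso (j ≪≫ (asIso ((KFlat.ltcxCounit K₂).app C₁)).symm ≪≫ (DCoh.LTensorCx K₂).mapIso i₁) h

/-- bounds of an external tensor product, flat first factor -/
theorem exactAt_external_hd (f₁ : X₁ ⟶ Y₁) (q₁ : Y₁ ⟶ S) (f₂ : X₂ ⟶ Y₂) (q₂ : Y₂ ⟶ S)
    [Flat q₁] [Flat (f₁ ≫ q₁)]
    (pX₁ : X ⟶ X₁) (pX₂ : X ⟶ X₂) (hX : IsPullback pX₁ pX₂ (f₁ ≫ q₁) (f₂ ≫ q₂))
    (pY₁ : Y ⟶ Y₁) (pY₂ : Y ⟶ Y₂) (hY : IsPullback pY₁ pY₂ q₁ q₂)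
    (f : X ⟶ Y) (hf₁ : f ≫ pY₁ = pX₁ ≫ f₁) (hf₂ : f ≫ pY₂ = pX₂ ≫ f₂)
    (E₁ : CochainComplex X₁.Modules ℤ) (a₁ b₁ : ℤ) (h₁ : DerSch.HasTorAmplitude f₁ a₁ b₁ E₁)
    (E₂ : CochainComplex X₂.Modules ℤ) (a₂ b₂ : ℤ) (hE₂ : ∀ i, i < a₂ ∨ b₂ < i → E₂.ExactAt i)
    (K₂ : CochainComplex X.Modules ℤ) [DCoh.HasLTensorCx K₂]
    (e : DCoh.toD X K₂ ≅ (DCoh.Lpull pX₂).obj (DCoh.toD X₂ E₂)) {i : ℤ} (hi : i < a₁ + a₂ ∨ b₁ + b₂ < i) :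
    IsZero (DCoh.HD ((DCoh.LTensorCx K₂).obj ((DCoh.Lpull pX₁).obj (DCoh.toD X₁ E₁))) i) := by
  let C₁ := (pullCx pX₁).obj ((KFlat.flatResolution X₁).obj E₁)
  have hflip := RelAmp.isKFlat_flip_of_isKFlat
    (KFlat.isKFlat_pullCx pX₁ _ (KFlat.flatResolution_isKFlat E₁))
  have := KFlat.isIso_ltcxCounit_app K₂ C₁ hflip
  obtain ⟨j⟩ := RelAmp.nonempty_totR_iso C₁ hflip (e ≪≫ RelAmp.lpullResIso pX₂ E₂)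
  refine KFlat.isZero_hd_of_iso ((DCoh.LTensorCx K₂).mapIso (RelAmp.lpullResIso pX₁ E₁) ≪≫
    asIso ((KFlat.ltcxCounit K₂).app C₁) ≪≫ j) ?_
  exact (KFlat.isZero_hd_toD_iff _ i).2 (RelAmp.exactAt_external f₁ q₁ f₂ q₂ pX₁ pX₂ hX pY₁ pY₂ hY f hf₁ hf₂
    E₁ a₁ b₁ h₁ E₂ a₂ b₂ hE₂ hi)

end Groth.RelPC
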