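import Groth.Agent.RelPC.FlatBC
import Groth.Agent.DerivedCoh.PCohDescent.Main
import Mathlib.AlgebraicGeometry.Morphisms.Flat
import Mathlib.AlgebraicGeometry.Morphisms.QuasiSeparated

/-!
Descent of relative pseudo-coherence along flat surjective quasi-compact base changes.
-/

universe u

open CategoryTheory CategoryTheory.Limits AlgebraicGeometry TopologicalSpace
open Groth.KTheory.Perf (Rd)

namespace Groth.RelPC

attribute [local instance] HasDerivedCategory.standard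

/-- Pseudo-coherence descends along a finite flat jointly surjective family with quasi-compact sources. -/
theorem pcD_of_Lpull_family {P : Scheme.{u}} [QuasiSeparatedSpace P] {J : Type u} [Finite J] {Z : J → Scheme.{u}}
    [∀ j, CompactSpace (Z j)] (p : ∀ j, Z j ⟶ P) [∀ j, Flat (p j)] [∀ j, DCoh.HasLpull (p j)]
    (hp : ∀ x, ∃ j z, p j z = x) {m : ℤ} {K : DCoh.D P}
    (hK : ∀ j, DCoh.IsPseudoCoherentD m ((DCoh.Lpull (p j)).obj K)) : DCoh.IsPseudoCoherentD m K := by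
  have hL : ∀ {A B : Scheme.{u}} (f : A ⟶ B), DCoh.HasLpull f := fun f => Groth.DerivedCoh.KFlat.hasLpull f
  let q := Sigma.desc p
  haveI : Flat q := by
    haveI : IsZariskiLocalAtSource @Flat.{u} :=
      HasRingHomProperty.instIsZariskiLocalAtSource (P := @Flat.{u})
    rw [IsZariskiLocalAtSource.iff_of_openCover (P := @Flat.{u}) (sigmaOpenCover Z)]
    intro j
    have e : Sigma.ι Z (show J from j) ≫ q = p j := Sigma.ι_desc p j
    exact (show Flat (Sigma.ι Z (show J from j) ≫ q) from e ▸ ‹∀ j, Flat (p j)› j)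
  haveI : Surjective q := ⟨fun x => by
    obtain ⟨j, z, rfl⟩ := hp x
    exact ⟨Sigma.ι Z j z, by rw [← Scheme.Hom.comp_apply, Sigma.ι_desc]⟩⟩
  haveI : CompactSpace (∐ Z :) := (sigmaMk Z).compactSpace
  haveI : QuasiCompact q := inferInstance
  haveI := hL q
  refine (Groth.DerivedCoh.PCohDescent.pcoh_descends_qc q K m).2 (Groth.DerivedCoh.PCoh.isPseudoCoherentD_of_local fun z => ?_)
  obtain ⟨j, w, hw⟩ := (sigmaOpenCover Z).exists_eq z
  refine ⟨(Sigma.ι Z j).opensRange, ⟨w, hw⟩, pcD_rd_opensRange _ ?_⟩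
  haveI := hL (Sigma.ι Z j)
  haveI := hL (Sigma.ι Z j ≫ q)
  obtain ⟨a⟩ := nonempty_Lpull_rd (Sigma.ι Z j) ((DCoh.Lpull q).obj K)
  obtain ⟨b⟩ := Groth.DerivedCoh.KFlat.Lpull_comp_iso (Sigma.ι Z j) q
  refine Groth.DerivedCoh.PCoh.isPseudoCoherentD_of_iso (?_ ≪≫ (b.app K).symm ≪≫ a) (hK j)
  exact eqToIso (by congr 2; exact (Sigma.ι_desc p j).symm)

/-- Relative pseudo-coherence descends along flat surjective quasi-compact base changes. -/
theorem rel_of_Lpull_flat {X S X' S' : Scheme.{u}} {g : X' ⟶ X} {f' : X' ⟶ S'} {f : X ⟶ S} {h : S' ⟶ S}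
    (sq : IsPullback g f' f h) [LocallyOfFiniteType f] [Flat h] [Surjective h] [QuasiCompact h]
    [DCoh.HasLpull g] {m : ℤ} {E : DCoh.D X}
    (hE : DerSch.IsPseudoCoherentRel f' m ((DCoh.Lpull g).obj E)) : DerSch.IsPseudoCoherentRel f m E := by
  have hL : ∀ {A B : Scheme.{u}} (f : A ⟶ B), DCoh.HasLpull f := fun f => Groth.DerivedCoh.KFlat.hasLpull f
  refine rel_map fun U V n φ eU _ hφ => ?_
  obtain ⟨T, hT, hcov⟩ := isCompact_and_isOpen_iff_finite_and_eq_biUnion_affineOpens.1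
    ⟨h.isCompact_preimage V.2.isCompact, (h ⁻¹ᵁ (V : S.Opens)).2⟩
  haveI : Finite T := hT.to_subtype
  have eV : ∀ j : T, (j.1 : S'.Opens) ≤ h ⁻¹ᵁ (V : S.Opens) := fun j x hx =>
    hcov.ge (Set.mem_iUnion₂.2 ⟨j.1, j.2, hx⟩)
  let μ := fun j : T => Spec.map (CommRingCat.ofHom
    (MvPolynomial.map (σ := Fin n) (h.appLE V j.1 (eV j)).hom))
  have hfl : ∀ j, Flat (Spec.map (h.appLE (V : S.Opens) (j : T).1 (eV j))) := fun j => by
    rw [HasRingHomProperty.Spec_iff (P := @Flat)]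
    exact HasRingHomProperty.appLE @Flat h inferInstance V j.1 (eV j)
  have sqP : ∀ j, IsPullback (μ j) (Spec.map (CommRingCat.ofHom MvPolynomial.C))
      (Spec.map (CommRingCat.ofHom MvPolynomial.C)) (Spec.map (h.appLE (V : S.Opens) (j : T).1 (eV j))) := fun j =>
    isPullback_SpecMap_of_isPushout _ _ _ _ (isPushout_mvPolynomial_map (h.appLE V j.1 (eV j)).hom n)
  haveI : ∀ j, Flat (μ j) := fun j => MorphismProperty.of_isPullback (sqP j).flip (hfl j)
  haveI : ∀ j, DCoh.HasLpull (μ j) := fun j => hL _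
  refine pcD_of_Lpull_family (J := T) μ (fun x => ?_) fun j => ?_
  · let r := Spec.map (CommRingCat.ofHom MvPolynomial.C) x
    obtain ⟨v, hv⟩ : ∃ v, h v = V.2.fromSpec r := h.surjective _
    have hvV : v ∈ h ⁻¹ᵁ (V : S.Opens) := by
      show h v ∈ (V : S.Opens)
      rw [hv]
      exact V.2.range_fromSpec.le ⟨r, rfl⟩
    obtain ⟨j, hjT, hvj⟩ := Set.mem_iUnion₂.1 (hcov.le hvV)
    obtain ⟨w, hw⟩ : ∃ w, j.2.fromSpec w = v := j.2.range_fromSpec.ge hvj
    have hr : r = Spec.map (h.appLE (V : S.Opens) j.1 (eV ⟨j, hjT⟩)) w := by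
      haveI := V.2.isOpenImmersion_fromSpec
      apply V.2.fromSpec.isOpenEmbedding.injective
      rw [← hv, ← hw, ← Scheme.Hom.comp_apply, ← Scheme.Hom.comp_apply, IsAffineOpen.SpecMap_appLE_fromSpec h V.2 j.2]
    obtain ⟨z, hz, -⟩ := Scheme.Pullback.exists_preimage_pullback x w hr
    refine ⟨⟨j, hjT⟩, (sqP ⟨j, hjT⟩).isoPullback.inv z, ?_⟩
    rw [← Scheme.Hom.comp_apply, (sqP ⟨j, hjT⟩).isoPullback_inv_fst]
    exact hz
  · let U' := g ⁻¹ᵁ (U : X.Opens) ⊓ f' ⁻¹ᵁ (j.1 : S'.Opens)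
    have hU' : IsAffineOpen U' :=
      letI : IsAffine _ := U.2
      letI : IsAffine _ := V.2
      letI : IsAffine _ := j.1.2
      .of_isIso (Scheme.Hom.isPullback_resLE sq (eV j) eU rfl).isoPullback.hom
    obtain ⟨φ', hφ', hp, sq'⟩ := exists_chart_square sq U.2 V.2 j.1.2 eU (eV j) hU' rfl φ hφ
    haveI := isClosedImmersion_chartImm hU' φ' hφ'.1
    haveI := hL (g.resLE (U : X.Opens) U' inf_le_left)
    haveI := hL U'.ι
    haveI := hL (U : X.Opens).ι
    haveI := hL (U'.ι ≫ g)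
    haveI := hL (g.resLE (U : X.Opens) U' inf_le_left ≫ (U : X.Opens).ι)
    obtain ⟨a⟩ := nonempty_Lpull_pd sq' ((Rd (U : X.Opens).ι).obj E)
    obtain ⟨b⟩ := nonempty_Lpull_rd U'.ι ((DCoh.Lpull g).obj E)
    obtain ⟨b'⟩ := nonempty_Lpull_rd (U : X.Opens).ι E
    obtain ⟨c⟩ := Groth.DerivedCoh.KFlat.Lpull_comp_iso U'.ι g
    obtain ⟨c'⟩ := Groth.DerivedCoh.KFlat.Lpull_comp_iso (g.resLE (U : X.Opens) U' inf_le_left) (U : X.Opens).ι
    have key : (DCoh.Lpull (U'.ι ≫ g)).obj E ≅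
        (DCoh.Lpull (g.resLE (U : X.Opens) U' inf_le_left ≫ (U : X.Opens).ι)).obj E :=
      eqToIso (by congr 2; exact (Scheme.Hom.resLE_comp_ι g _).symm)
    refine Groth.DerivedCoh.PCoh.isPseudoCoherentD_of_iso (a ≪≫ (Pd _).mapIso ?_).symm
      (pcD_chart_of_rel hE hU' j.1.2 hφ')
    exact (DCoh.Lpull _).mapIso b'.symm ≪≫ c'.app E ≪≫ key.symm ≪≫ (c.app E).symm ≪≫ b

end Groth.RelPC
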