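import Groth.Agent.RelPC.Rel

/-!
Relative pseudo-coherence and open immersions into the source.
-/

universe u

open CategoryTheory CategoryTheory.Limits AlgebraicGeometry TopologicalSpace
open Groth.KTheory.Perf (Rd Rc rdQIso nonempty_rdComp)

namespace Groth.RelPC

attribute [local instance] HasDerivedCategory.standard

theorem pcD_rd_iso_iff {P Q : Scheme.{u}} (e : Q ⟶ P) [IsIso e] (m : ℤ) (K : DCoh.D P) :
    DCoh.IsPseudoCoherentD m ((Rd e).obj K) ↔ DCoh.IsPseudoCoherentD m K :=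
  ⟨fun h => Groth.DerivedCoh.PCoh.isPseudoCoherentD_of_local fun y =>
    ⟨e.opensRange, ⟨(inv e) y, by rw [← Scheme.Hom.comp_apply, IsIso.inv_hom_id]; rfl⟩, pcD_rd_opensRange e h⟩,
    pcD_rd e⟩

variable {U X Y : Scheme.{u}} (j : U ⟶ X) [IsOpenImmersion j] (f : X ⟶ Y) [LocallyOfFiniteType f]

theorem chartOn_image {W : U.Opens} {V : Y.Opens} (hW : IsAffineOpen W) (hV : IsAffineOpen V)
    (h : j ''ᵁ W ≤ f ⁻¹ᵁ V) (m : ℤ) (E : DCoh.D X) :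
    ChartOn (j ≫ f) m ((Rd j).obj E) W V ↔ ChartOn f m E (j ''ᵁ W) V := by
  have hjW : IsAffineOpen (j ''ᵁ W) := hW.image_of_isOpenImmersion j
  obtain ⟨n, φ, hφ⟩ := exists_chart h (f.finiteType_appLE hV hjW h)
  have e : W ≤ j ⁻¹ᵁ (j ''ᵁ W) := (j.preimage_image_eq W).ge
  let a := j.appLE (j ''ᵁ W) W e
  haveI : IsIso a := by
    rw [show a = (j.appIso W).hom from (Scheme.Hom.appIso_hom' j W).symm]
    infer_instance
  have h' : W ≤ (j ≫ f) ⁻¹ᵁ V := e.trans (j.preimage_mono h)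
  have hψ : DerSch.IsChart (j ≫ f) W V h' (a.hom.comp φ) := by
    refine ⟨(ConcreteCategory.bijective_of_isIso a).2.comp hφ.1, ?_⟩
    rw [RingHom.comp_assoc, hφ.2]
    exact congrArg CommRingCat.Hom.hom (Scheme.Hom.appLE_comp_appLE j f V (j ''ᵁ W) W h e)
  haveI := isClosedImmersion_chartImm hjW φ hφ.1
  haveI := isClosedImmersion_chartImm hW (a.hom.comp φ) hψ.1
  rw [chartOn_iff hW _ _ hψ, chartOn_iff hjW _ _ hφ, chartPC_iff hW, chartPC_iff hjW]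
  have hres : j.resLE (j ''ᵁ W) W e = (j.isoImage W).hom := by
    rw [← cancel_mono (j ''ᵁ W).ι, Scheme.Hom.resLE_comp_ι, Scheme.Hom.isoImage_hom_ι]
  haveI : IsIso (j.resLE (j ''ᵁ W) W e) := hres ▸ inferInstance
  have w : j.resLE (j ''ᵁ W) W e ≫ DerSch.chartImm (j ''ᵁ W) φ = DerSch.chartImm W (a.hom.comp φ) ≫ 𝟙 _ := by
    rw [Category.comp_id, DerSch.chartImm, ← Scheme.Opens.toSpecΓ_SpecMap_appLE_assoc, ← Spec.map_comp]
    rfl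
  obtain ⟨s⟩ := nonempty_rdPd_square (DerSch.chartImm (j ''ᵁ W) φ) (DerSch.chartImm W (a.hom.comp φ)) (𝟙 _)
    (j.resLE (j ''ᵁ W) W e) w (fun x _ => ⟨(inv (j.resLE (j ''ᵁ W) W e)) x, by
      rw [← Scheme.Hom.comp_apply, IsIso.inv_hom_id]; rfl⟩) ((Rd (j ''ᵁ W).ι).obj E)
  obtain ⟨c₁⟩ := nonempty_rdComp (k := j.resLE (j ''ᵁ W) W e) (j := (j ''ᵁ W).ι) (l := W.ι ≫ j)
    (Scheme.Hom.resLE_comp_ι j e).symm E
  obtain ⟨c₂⟩ := nonempty_rdComp (k := W.ι) (j := j) (l := W.ι ≫ j) rfl E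
  rw [← pcD_rd_iso_iff (𝟙 _) m ((Pd (DerSch.chartImm (j ''ᵁ W) φ)).obj _)]
  exact ⟨Groth.DerivedCoh.PCoh.isPseudoCoherentD_of_iso ((Pd _).mapIso (c₂.symm ≪≫ c₁) ≪≫ s.symm),
    Groth.DerivedCoh.PCoh.isPseudoCoherentD_of_iso (s ≪≫ (Pd _).mapIso (c₁.symm ≪≫ c₂))⟩

theorem rel_rd {m : ℤ} {E : DCoh.D X} (hE : DerSch.IsPseudoCoherentRel f m E) :
    DerSch.IsPseudoCoherentRel (j ≫ f) m ((Rd j).obj E) := by
  refine rel_of_local fun x => ?_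
  obtain ⟨V, hV, hxV, -⟩ := exists_isAffineOpen_mem_and_subset (U := (⊤ : Y.Opens)) (x := f (j x)) trivial
  obtain ⟨W, hW, hxW, hWV⟩ := exists_isAffineOpen_mem_and_subset (U := (j ≫ f) ⁻¹ᵁ V) (x := x) hxV
  have h : j ''ᵁ W ≤ f ⁻¹ᵁ V := by
    rintro _ ⟨y, hy, rfl⟩; exact hWV hy
  exact ⟨W, V, hxW, hW, hV, (chartOn_image j f hW hV h m E).2
    (chartOn_of_rel hE (hW.image_of_isOpenImmersion j) hV h)⟩

theorem rel_of_cover {m : ℤ} {E : DCoh.D X} {ι : Type*} (O : ι → X.Opens) (hO : ⨆ i, O i = ⊤)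
    (hE : ∀ i, DerSch.IsPseudoCoherentRel ((O i).ι ≫ f) m ((Rd (O i).ι).obj E)) :
    DerSch.IsPseudoCoherentRel f m E := by
  refine rel_of_local fun x => ?_
  obtain ⟨i, hi⟩ := Opens.mem_iSup.1 (hO.ge (Opens.mem_top x))
  obtain ⟨V, hV, hxV, -⟩ := exists_isAffineOpen_mem_and_subset (U := (⊤ : Y.Opens)) (x := f x) trivial
  obtain ⟨W, hW, hxW, hWV⟩ := exists_isAffineOpen_mem_and_subset (U := ((O i).ι ≫ f) ⁻¹ᵁ V) (x := (⟨x, hi⟩ : O i)) hxV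
  have h : (O i).ι ''ᵁ W ≤ f ⁻¹ᵁ V := by
    rintro _ ⟨y, hy, rfl⟩; exact hWV hy
  exact ⟨(O i).ι ''ᵁ W, V, ⟨⟨x, hi⟩, hxW, rfl⟩, hW.image_of_isOpenImmersion _, hV,
    (chartOn_image (O i).ι f hW hV h m E).1 (chartOn_of_rel (hE i) hW hV (fun y hy => hWV hy))⟩

end Groth.RelPC
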