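import Groth.Agent.DAlg.RelPCFinite
import Groth.Agent.DAlg.RelPCBaseChange

/-!
Descent of relative pseudo-coherence along finite projective faithfully flat algebras.
-/

universe u

open CategoryTheory CategoryTheory.Limits CategoryTheory.Pretriangulated MonoidalCategory

attribute [local instance] HasDerivedCategory.standard
set_option linter.style.haveILetI false

namespace Groth.RelPC

open Groth.DAlg Groth.PCohPunctual Groth.DerivedCoh Groth.DAlg.KFlatMod

variable {A C : Type u} [CommRing A] [CommRing C] [Algebra A C]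

/-- With a retraction of `A → C`, an object is a retract of the restriction of its base change. -/
theorem exists_retract_lBaseChange [DRing.HasLBaseChange (algebraMap A C)] (s : C →ₗ[A] A) (hs : s 1 = 1)
    (K : Dual.D A) :
    ∃ (i : K ⟶ (DRing.restrictD (algebraMap A C)).obj ((DRing.LBaseChange (algebraMap A C)).obj K))
      (p : (DRing.restrictD (algebraMap A C)).obj ((DRing.LBaseChange (algebraMap A C)).obj K) ⟶ K),
      i ≫ p = 𝟙 K := by
  let RB : ModuleCat.{u} A := (ModuleCat.restrictScalars (algebraMap A C)).obj (ModuleCat.of C C)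
  let a : 𝟙_ (ModuleCat.{u} A) ⟶ RB := ModuleCat.ofHom (X := ((𝟙_ (ModuleCat.{u} A) : ModuleCat.{u} A) : Type u)) (Y := (RB : Type u))
    { toFun := fun r => algebraMap A C r
      map_add' := map_add _
      map_smul' := fun r x => map_mul (algebraMap A C) r x }
  let b : RB ⟶ 𝟙_ (ModuleCat.{u} A) := ModuleCat.ofHom (X := (RB : Type u)) (Y := ((𝟙_ (ModuleCat.{u} A) : ModuleCat.{u} A) : Type u))
    { toFun := fun c => s c
      map_add' := fun x y => map_add s x y
      map_smul' := fun r x =>
        (congrArg s (Algebra.smul_def r (show C from x)).symm).trans (s.map_smul r (show C from x)) }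
  have hab : a ≫ b = 𝟙 _ := by
    refine ModuleCat.hom_ext (LinearMap.ext fun r => ?_)
    show s (algebraMap A C r) = r
    rw [Algebra.algebraMap_eq_smul_one, map_smul, hs, smul_eq_mul, mul_one]
  obtain ⟨P, hP, -, ⟨e⟩⟩ := exists_kProjective_rep K
  haveI := hP
  let G := ModuleCat.extendScalars.{u, u, u} (algebraMap A C) ⋙ ModuleCat.restrictScalars.{u} (algebraMap A C)
  let E : G ≅ (T A).obj RB := extResNatIso (algebraMap A C)
  let U : (T A).obj (𝟙_ (ModuleCat.{u} A)) ≅ 𝟭 _ :=
    leftUnitorNatIso (ModuleCat.{u} A)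
  let ι : 𝟭 _ ⟶ G := U.inv ≫ (T A).map a ≫ E.inv
  let π : G ⟶ 𝟭 _ := E.hom ≫ (T A).map b ≫ U.hom
  have hιπ : ι ≫ π = 𝟙 _ := by
    simp only [ι, π, Category.assoc, Iso.inv_hom_id_assoc]
    rw [← (T A).map_comp_assoc, hab, CategoryTheory.Functor.map_id, Category.id_comp, Iso.inv_hom_id]
  haveI : ((T A).obj RB).Additive := inferInstance
  haveI : G.Additive := inferInstance
  let cx := ComplexShape.up ℤ
  let I : P ⟶ (G.mapHomologicalComplex cx).obj P :=
    (Functor.mapHomologicalComplexIdIso _ cx).inv.app P ≫ (NatTrans.mapHomologicalComplex ι cx).app P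
  let PP : (G.mapHomologicalComplex cx).obj P ⟶ P :=
    (NatTrans.mapHomologicalComplex π cx).app P ≫ (Functor.mapHomologicalComplexIdIso _ cx).hom.app P
  have hIP : I ≫ PP = 𝟙 P := by
    refine HomologicalComplex.hom_ext _ _ fun k => ?_
    have := congr_app hιπ (P.X k)
    simp only [I, PP, HomologicalComplex.comp_f, HomologicalComplex.id_f] at this ⊢
    erw [Category.id_comp, Category.comp_id]
    exact this
  let c : DerivedCategory.Q.obj ((G.mapHomologicalComplex cx).obj P) ≅
      (DRing.restrictD (algebraMap A C)).obj ((DRing.LBaseChange (algebraMap A C)).obj K) :=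
    (resQIso (algebraMap A C) (extCx (algebraMap A C) P)).symm ≪≫
      (DRing.restrictD (algebraMap A C)).mapIso ((lBaseChangeIso (algebraMap A C) P).symm ≪≫
        (DRing.LBaseChange (algebraMap A C)).mapIso e)
  refine ⟨e.inv ≫ DerivedCategory.Q.map I ≫ c.hom, c.inv ≫ DerivedCategory.Q.map PP ≫ e.hom, ?_⟩
  simp only [Category.assoc, Iso.hom_inv_id_assoc]
  rw [← Functor.map_comp_assoc, hIP, CategoryTheory.Functor.map_id, Category.id_comp]
  exact e.inv_hom_id

/-- Relative pseudo-coherence descends along finite algebras with a retraction. -/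
theorem relPC_of_retraction {R : Type u} [CommRing R] [Algebra R A] [Algebra R C] [IsScalarTower R A C]
    [Algebra.FiniteType R A] [Module.Finite A C] [DRing.HasLBaseChange (algebraMap A C)] (s : C →ₗ[A] A)
    (hs : s 1 = 1) (K : Dual.D A) {m : ℤ}
    (h : DerCA.IsRelPseudoCoherent R C m ((DRing.LBaseChange (algebraMap A C)).obj K)) :
    DerCA.IsRelPseudoCoherent R A m K := by
  rw [relPC_iff_restrict_of_finite (R := R) (A := A) (B := C)] at h
  obtain ⟨n, α, hα⟩ := Algebra.FiniteType.iff_quotient_mvPolynomial''.mp ‹Algebra.FiniteType R A›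
  obtain ⟨i, p, hip⟩ := exists_retract_lBaseChange s hs K
  rw [relPC_iff hα] at h ⊢
  let F := DRing.restrictD (α : MvPolynomial (Fin n) R →+* A)
  obtain ⟨Z, v, w, hT⟩ := distinguished_cocone_triangle i
  haveI : IsSplitMono i := ⟨⟨⟨p, hip⟩⟩⟩
  have h0 : w = 0 := Triangle.mor₃_eq_zero_of_mono₁ _ hT (inferInstanceAs (Mono i))
  have hT' := F.map_distinguished _ hT
  obtain ⟨e, -, -⟩ := exists_iso_binaryBiproduct_of_distTriang _ hT' (by
    show F.map w ≫ _ = 0
    rw [h0, Functor.map_zero]
    exact zero_comp)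
  exact ((pcn_biprod_iff (isAdditiveSub_finFree _) (isQuasiStable_finFree _) (isQuasiLiftable_finFree _) m _ _).1
    (h.of_iso e)).1

end Groth.RelPC
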