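import Groth.Agent.RelPC.Sections
import Groth.Agent.RelPC.Retract
import Groth.Agent.RelPC.Open
import Groth.Agent.PCohHom.FppfSource
import Groth.Agent.Misc4.QCohTildeD
import Groth.Agent.Misc4.QCohDColim
import Groth.Agent.S7071

/-!
Relative pseudo-coherence is fppf local on the source.
-/

universe u

open CategoryTheory CategoryTheory.Limits AlgebraicGeometry TopologicalSpace
open Groth.KTheory.Perf (Rd)

namespace Groth.RelPC

attribute [local instance] HasDerivedCategory.standard preservesFiniteLimits_tilde'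

theorem hasLpull_all {A B : Scheme.{u}} (f : A ⟶ B) : DCoh.HasLpull f := Groth.DerivedCoh.KFlat.hasLpull f

theorem hasLBase_all {A B : Type u} [CommRing A] [CommRing B] (φ : A →+* B) : DRing.HasLBaseChange φ :=
  Groth.DAlg.hasLBaseChange φ

attribute [local instance] hasLpull_all hasLBase_all

variable {X X' S : Scheme.{u}}

theorem exists_sec {E : DCoh.D X} (hE : DCoh.IsQCohD E) {U : X.Opens} (hU : IsAffineOpen U) :
    ∃ M, IsSec E hU M := by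
  obtain ⟨M, ⟨e⟩⟩ := (Groth.Misc4.QCohTildeD.isQCohD_iff _ _).1
    (Groth.Misc4.QCohDPerf.isQCohD_restrict hU.fromSpec hE)
  exact ⟨M, ⟨e.symm⟩⟩

theorem relPCModuleAll_of_pcHom {A B : Type u} [CommRing A] [CommRing B] [Algebra A B]
    (h : MoreMor.IsPseudoCoherentHom A B) : DerCA.IsRelPseudoCoherentModuleAll A B B := fun m =>
  (Groth.Agent.S7071.result A B h m _).2
    (Groth.DAlg.isPseudoCoherent'_iff_forall.1
      (Groth.PCohHom.pc_iff.2 fun n => Groth.PCohHom.fpk_of_free (M := B) n) m)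

/-- Inverse image along a pseudo-coherent morphism. -/
theorem rel_Lpull (g : X' ⟶ X) (hg : Groth.PCohHom.MorPC g) [LocallyOfFiniteType g] (p : X ⟶ S)
    [LocallyOfFiniteType p] [DCoh.HasLpull g] {m : ℤ} {E : DCoh.D X} (hE : DCoh.IsQCohD E)
    (h : DerSch.IsPseudoCoherentRel p m E) :
    DerSch.IsPseudoCoherentRel (g ≫ p) m ((DCoh.Lpull g).obj E) := by
  refine rel_of_local fun x => ?_
  obtain ⟨V, hV, hxV, -⟩ := exists_isAffineOpen_mem_and_subset (show p (g x) ∈ (⊤ : S.Opens) from trivial)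
  obtain ⟨U, hU, hxU, hUV⟩ := exists_isAffineOpen_mem_and_subset (show g x ∈ p ⁻¹ᵁ V from hxV)
  obtain ⟨U', hU', hxU', hU'U⟩ := exists_isAffineOpen_mem_and_subset (show x ∈ g ⁻¹ᵁ U from hxU)
  have hU'V : U' ≤ (g ≫ p) ⁻¹ᵁ V := fun y hy => hUV (hU'U hy)
  obtain ⟨M, hM⟩ := exists_sec hE hU
  refine ⟨U', V, hxU', hU', hV, (chartOn_iff_sec hU' hV hU'V m (isSec_Lpull g hU' hU hU'U hM)).2 ?_⟩
  have hM' := (chartOn_iff_sec hU hV hUV m hM).1 (chartOn_of_rel h hU hV hUV)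
  letI := (p.appLE V U hUV).hom.toAlgebra
  letI := (g.appLE U U' hU'U).hom.toAlgebra
  letI := ((g ≫ p).appLE V U' hU'V).hom.toAlgebra
  haveI : IsScalarTower Γ(S, V) Γ(X, U) Γ(X', U') := .of_algebraMap_eq'
    (congrArg CommRingCat.Hom.hom (Scheme.Hom.appLE_comp_appLE g p V U U' hUV hU'U)).symm
  haveI : Algebra.FiniteType Γ(S, V) Γ(X, U) := p.finiteType_appLE hV hU hUV
  haveI : Algebra.FiniteType Γ(X, U) Γ(X', U') := g.finiteType_appLE hU hU' hU'U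
  exact Groth.DAlg.relPC_lBaseChange (relPCModuleAll_of_pcHom
    ((Groth.PCohHom.morPC_iff g).1 hg U' U hU' hU hU'U)) M hM'

/-- Descent along finite locally free covers. -/
theorem rel_of_finLocFree (π : X' ⟶ X) (hπ : Mor2.IsFinLocFree π) [Surjective π] (p : X ⟶ S)
    [LocallyOfFiniteType p] [DCoh.HasLpull π] {m : ℤ} {E : DCoh.D X} (hE : DCoh.IsQCohD E)
    (h : DerSch.IsPseudoCoherentRel (π ≫ p) m ((DCoh.Lpull π).obj E)) :
    DerSch.IsPseudoCoherentRel p m E := by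
  obtain ⟨_, _, _⟩ := hπ
  refine rel_of_local fun x => ?_
  obtain ⟨V, hV, hxV, -⟩ := exists_isAffineOpen_mem_and_subset (show p x ∈ (⊤ : S.Opens) from trivial)
  obtain ⟨U, hU, hxU, hUV⟩ := exists_isAffineOpen_mem_and_subset (show x ∈ p ⁻¹ᵁ V from hxV)
  have hU' : IsAffineOpen (π ⁻¹ᵁ U) := hU.preimage π
  have hU'V : π ⁻¹ᵁ U ≤ (π ≫ p) ⁻¹ᵁ V := π.preimage_mono hUV
  obtain ⟨M, hM⟩ := exists_sec hE hU
  refine ⟨U, V, hxU, hU, hV, (chartOn_iff_sec hU hV hUV m hM).2 ?_⟩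
  have hM' := (chartOn_iff_sec hU' hV hU'V m (isSec_Lpull π hU' hU le_rfl hM)).1
    (chartOn_of_rel h hU' hV hU'V)
  have hff := Groth.AlgSpCartier.faithfullyFlat_appLE π hU hU' le_rfl fun y hy => by
    obtain ⟨w, rfl⟩ := π.surjective y
    exact ⟨w, hy, rfl⟩
  letI := (p.appLE V U hUV).hom.toAlgebra
  letI := (π.appLE U (π ⁻¹ᵁ U) le_rfl).hom.toAlgebra
  letI := ((π ≫ p).appLE V (π ⁻¹ᵁ U) hU'V).hom.toAlgebra
  haveI : IsScalarTower Γ(S, V) Γ(X, U) Γ(X', π ⁻¹ᵁ U) := .of_algebraMap_eq'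
    (congrArg CommRingCat.Hom.hom (Scheme.Hom.appLE_comp_appLE π p V U (π ⁻¹ᵁ U) hUV le_rfl)).symm
  haveI : Algebra.FiniteType Γ(S, V) Γ(X, U) := p.finiteType_appLE hV hU hUV
  haveI : Module.FaithfullyFlat Γ(X, U) Γ(X', π ⁻¹ᵁ U) := hff
  haveI : Algebra.FinitePresentation Γ(X, U) Γ(X', π ⁻¹ᵁ U) := π.finitePresentation_appLE hU hU' le_rfl
  haveI : Module.Finite Γ(X, U) Γ(X', π ⁻¹ᵁ U) := by
    have h3 := π.finite_app U hU
    rw [← Scheme.Hom.appLE_eq_app] at h3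
    exact h3
  haveI : Module.FinitePresentation Γ(X, U) Γ(X', π ⁻¹ᵁ U) :=
    Module.FinitePresentation.of_finite_of_finitePresentation _ _
  haveI : Module.Projective Γ(X, U) Γ(X', π ⁻¹ᵁ U) := Module.Flat.projective_of_finitePresentation
  obtain ⟨s, hs⟩ := Groth.PCohHom.exists_retraction (B := Γ(X, U)) (C := Γ(X', π ⁻¹ᵁ U))
  exact relPC_of_retraction s hs M hM'

/-- Relative pseudo-coherence descends along fppf covers of the source. -/
theorem rel_of_fppf {ι : Type u} (Xi : ι → Scheme.{u}) (g : ∀ i, Xi i ⟶ X) [∀ i, Flat (g i)]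
    [∀ i, LocallyOfFinitePresentation (g i)] (hcov : ∀ x : X, ∃ (i : ι) (y : Xi i), (g i).base y = x)
    (p : X ⟶ S) [LocallyOfFiniteType p] {m : ℤ} {E : DCoh.D X} (hE : DCoh.IsQCohD E)
    (h : ∀ i, DerSch.IsPseudoCoherentRel (g i ≫ p) m ((DCoh.Lpull (g i)).obj E)) :
    DerSch.IsPseudoCoherentRel p m E := by
  let F : PreZeroHypercover.{u} X := ⟨ι, Xi, g⟩
  have key : ∀ x : X, ∃ U : X.Opens, x ∈ U ∧
      DerSch.IsPseudoCoherentRel (U.ι ≫ p) m ((Rd U.ι).obj E) := by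
    intro x
    obtain ⟨U, W, π, hxU, hπ, _, hW⟩ := Groth.Agent.S7198.result F (fun i => inferInstanceAs (Flat (g i)))
      (fun i => inferInstanceAs (LocallyOfFinitePresentation (g i))) (fun s => hcov s) x
    obtain ⟨_, _, _⟩ := hπ
    obtain ⟨a⟩ := nonempty_Lpull_rd U.ι E
    have hEU : DCoh.IsQCohD ((Rd U.ι).obj E) := Groth.Misc4.QCohDPerf.isQCohD_restrict U.ι hE
    let EW := (DCoh.Lpull π).obj ((Rd U.ι).obj E)
    have hEW : DCoh.IsQCohD EW := Groth.Misc4.QCohDColim.isQCohD_Lpull π hEU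
    refine ⟨U, hxU, rel_of_finLocFree π ⟨‹_›, ‹_›, ‹_›⟩ (U.ι ≫ p) hEU ?_⟩
    choose W' T ρ i r hw hρ hρs hr using hW
    refine rel_of_cover (π ≫ U.ι ≫ p) W' (eq_top_iff.2 fun w _ => Opens.mem_iSup.2 ⟨w, hw w⟩) fun w => ?_
    haveI := hρs w
    obtain ⟨_, _, _⟩ := hρ w
    refine rel_of_finLocFree (ρ w) (hρ w) ((W' w).ι ≫ π ≫ U.ι ≫ p)
      (Groth.Misc4.QCohDPerf.isQCohD_restrict (W' w).ι hEW) ?_
    have hr' : r w ≫ g (i w) = ρ w ≫ (W' w).ι ≫ π ≫ U.ι := hr w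
    have h1 : Groth.PCohHom.MorPC (r w ≫ g (i w)) := hr' ▸ Groth.PCohHom.morPC_of_flat_lfp _
    have hpc : Groth.PCohHom.MorPC (r w) :=
      Groth.PCohHom.morPC_cancel h1 (Groth.PCohHom.morPC_of_flat_lfp _)
    haveI : LocallyOfFiniteType (r w ≫ g (i w)) := by rw [hr']; infer_instance
    haveI : LocallyOfFiniteType (r w) := locallyOfFiniteType_of_comp (r w) (g (i w))
    have h2 := rel_Lpull (r w) hpc (g (i w) ≫ p) (Groth.Misc4.QCohDColim.isQCohD_Lpull (g (i w)) hE) (h (i w))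
    obtain ⟨c₁⟩ := Groth.DerivedCoh.KFlat.Lpull_comp_iso (r w) (g (i w))
    obtain ⟨c₂⟩ := Groth.DerivedCoh.KFlat.Lpull_comp_iso (ρ w) (W' w).ι
    obtain ⟨c₃⟩ := Groth.DerivedCoh.KFlat.Lpull_comp_iso (ρ w ≫ (W' w).ι) π
    obtain ⟨c₄⟩ := Groth.DerivedCoh.KFlat.Lpull_comp_iso ((ρ w ≫ (W' w).ι) ≫ π) U.ι
    obtain ⟨b⟩ := nonempty_Lpull_rd (W' w).ι EW
    have q : (DCoh.Lpull (r w ≫ g (i w))).obj E ≅ (DCoh.Lpull (((ρ w ≫ (W' w).ι) ≫ π) ≫ U.ι)).obj E :=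
      eqToIso (by congr 2)
    have e : (DCoh.Lpull (r w)).obj ((DCoh.Lpull (g (i w))).obj E) ≅
        (DCoh.Lpull (ρ w)).obj ((Rd (W' w).ι).obj EW) :=
      c₁.app E ≪≫ q ≪≫ (c₄.app E).symm ≪≫ (DCoh.Lpull _).mapIso a ≪≫ (c₃.app _).symm ≪≫
        (c₂.app EW).symm ≪≫ (DCoh.Lpull (ρ w)).mapIso b
    have hp : r w ≫ g (i w) ≫ p = ρ w ≫ (W' w).ι ≫ π ≫ U.ι ≫ p := by
      rw [← Category.assoc, hr']; simp
    rw [hp] at h2
    exact rel_of_iso e h2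
  choose U hxU hU using key
  exact rel_of_cover p U (eq_top_iff.2 fun x _ => Opens.mem_iSup.2 ⟨x, hxU x⟩) hU

end Groth.RelPC
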