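import Groth.Agent.RelPC.Closed

/-!
Direct images along closed immersions and cartesian squares with open immersions.
-/

universe u

open CategoryTheory CategoryTheory.Limits AlgebraicGeometry TopologicalSpace
open Groth.KTheory.Perf (Rd Rc rdQIso exists_rep nonempty_rdComp)
open Groth.DerivedCoh.PCoh (Below)

namespace Groth.RelPC

attribute [local instance] HasDerivedCategory.standard

variable {X P U V : Scheme.{u}} (i : X ⟶ P) (i' : U ⟶ V) (j : V ⟶ P) (j' : U ⟶ X)
  [IsOpenImmersion j] [IsOpenImmersion j'] (w : j' ≫ i = i' ≫ j)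

/-- The base change map for open immersions. -/
noncomputable def squareNat :
    Scheme.Modules.pushforward i ⋙ Scheme.Modules.restrictFunctor j ⟶
      Scheme.Modules.restrictFunctor j' ⋙ Scheme.Modules.pushforward i' :=
  let τ : Scheme.Modules.pushforward j' ⋙ Scheme.Modules.pushforward i ≅
      Scheme.Modules.pushforward i' ⋙ Scheme.Modules.pushforward j :=
    Scheme.Modules.pushforwardComp j' i ≪≫ Scheme.Modules.pushforwardCongr w ≪≫
      (Scheme.Modules.pushforwardComp i' j).symm
  let R := Scheme.Modules.restrictFunctor j'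
  let β : Scheme.Modules.pushforward i ⟶ (R ⋙ Scheme.Modules.pushforward i') ⋙ Scheme.Modules.pushforward j :=
    (Functor.leftUnitor _).inv ≫
      Functor.whiskerRight (Scheme.Modules.restrictAdjunction j').unit (Scheme.Modules.pushforward i) ≫
      (Functor.associator _ _ _).hom ≫ Functor.whiskerLeft R τ.hom ≫ (Functor.associator _ _ _).inv
  Functor.whiskerRight β (Scheme.Modules.restrictFunctor j) ≫ (Functor.associator _ _ _).hom ≫
    Functor.whiskerLeft (R ⋙ Scheme.Modules.pushforward i')
      (Scheme.Modules.restrictAdjunction j).counit ≫ (Functor.rightUnitor _).hom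

lemma isIso_squareNat (hr : i ⁻¹ᵁ j.opensRange ≤ j'.opensRange) : IsIso (squareNat i i' j j' w) := by
  haveI : ∀ M, IsIso ((squareNat i i' j j' w).app M) := fun M => by
    haveI : IsIso ((Scheme.Modules.restrictFunctor j).map ((Scheme.Modules.pushforward i).map
        ((Scheme.Modules.restrictAdjunction j').unit.app M))) :=
      Groth.CohTwo.isIso_of_app_bijective _ fun W => by
        have h1 : i ⁻¹ᵁ (j ''ᵁ W) ≤ j' ''ᵁ (j' ⁻¹ᵁ (i ⁻¹ᵁ (j ''ᵁ W))) := by
          rw [Scheme.Hom.image_preimage_eq_opensRange_inf]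
          exact le_inf ((i.preimage_mono (j.image_le_opensRange W)).trans hr) le_rfl
        have key : ∀ {A B : X.Opens} (h : A ≤ B), B ≤ A → Function.Bijective (Groth.CohTwo.res M h) :=
          fun {A B} h h' => by
            obtain rfl := le_antisymm h h'
            rw [show (Groth.CohTwo.res M h : Γ(M, A) → Γ(M, A)) = id from funext (Groth.CohTwo.res_rfl M h)]
            exact Function.bijective_id
        exact key (j'.image_preimage_le _) h1
    simp only [squareNat, NatTrans.comp_app, Functor.whiskerRight_app, Functor.whiskerLeft_app,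
      Functor.leftUnitor_inv_app, Functor.rightUnitor_hom_app, Functor.associator_hom_app,
      Functor.associator_inv_app, Category.id_comp, Category.comp_id, Iso.trans_hom, Iso.symm_hom,
      Functor.map_comp]
    infer_instance
  exact NatIso.isIso_of_isIso_app _

include w in
/-- `(i_* K)|_V ≅ i'_*(K|_U)` for a cartesian square. -/
theorem nonempty_rdPd_square (hr : i ⁻¹ᵁ j.opensRange ≤ j'.opensRange) [IsClosedImmersion i]
    [IsClosedImmersion i'] (K : DCoh.D X) :
    Nonempty ((Rd j).obj ((Pd i).obj K) ≅ (Pd i').obj ((Rd j').obj K)) := by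
  haveI := isIso_squareNat i i' j j' w hr
  exact nonempty_mapDerived_square _ _ _ _ (asIso (squareNat i i' j j' w)) K

omit [IsOpenImmersion j'] in
/-- Pseudo-coherence over the range of an open immersion. -/
theorem pcD_rd_opensRange {m : ℤ} {K : DCoh.D P} (h : DCoh.IsPseudoCoherentD m ((Rd j).obj K)) :
    DCoh.IsPseudoCoherentD m ((Rd j.opensRange.ι).obj K) := by
  obtain ⟨c⟩ := nonempty_rdComp (k := j.isoOpensRange.inv) (j := j) (l := j.opensRange.ι)
    j.isoOpensRange_inv_comp.symm K
  exact Groth.DerivedCoh.PCoh.isPseudoCoherentD_of_iso c.symm (pcD_rd j.isoOpensRange.inv h)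

omit [IsOpenImmersion j] [IsOpenImmersion j'] in
/-- A direct image is pseudo-coherent away from the image. -/
theorem pcD_rd_compl [IsClosedImmersion i] (m : ℤ) (K : DCoh.D X) :
    DCoh.IsPseudoCoherentD m
      ((Rd (Scheme.Opens.ι (X := P) ⟨(Set.range i)ᶜ, i.isClosedEmbedding.isClosed_range.isOpen_compl⟩)).obj ((Pd i).obj K)) := by
  refine pcD_of_below fun k _ => ?_
  obtain ⟨c⟩ := nonempty_rdPd i (⟨(Set.range i)ᶜ, i.isClosedEmbedding.isClosed_range.isOpen_compl⟩ : P.Opens) K
  refine IsZero.of_iso ?_ ((DerivedCategory.homologyFunctor _ k).mapIso c)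
  refine (Scheme.Modules.pushforward _).map_isZero ?_ |>.of_iso (nonempty_hdPd _ _ k).some
  exact (Groth.QCohMod.isZero_iff_stalk _).2 fun x => (x.2 ⟨x.1, rfl⟩).elim

end Groth.RelPC
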