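import Groth.Agent.RelPC.Chart
import Groth.Agent.RelPC.Square
import Groth.Agent.PCohHom.Mor

/-!
Locality of the chart test: principal opens on the source and on the base, passage between affine pairs.
-/

universe u

open CategoryTheory CategoryTheory.Limits AlgebraicGeometry TopologicalSpace
open Groth.KTheory.Perf (Rd nonempty_rdComp)

namespace Groth.RelPC

attribute [local instance] HasDerivedCategory.standard

variable {X Y : Scheme.{u}}

/-- The chart test on the pair `U`, `V`. -/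
def ChartOn (f : X ⟶ Y) (m : ℤ) (E : DCoh.D X) (U : X.Opens) (V : Y.Opens) : Prop :=
  ∃ (h : U ≤ f ⁻¹ᵁ V) (n : ℕ) (φ : MvPolynomial (Fin n) Γ(Y, V) →+* Γ(X, U)),
    DerSch.IsChart f U V h φ ∧ DerSch.ChartPC m E U V φ

variable {f : X ⟶ Y}

theorem chartOn_iff {U : X.Opens} {V : Y.Opens} (hU : IsAffineOpen U) (h : U ≤ f ⁻¹ᵁ V) {n : ℕ}
    (φ : MvPolynomial (Fin n) Γ(Y, V) →+* Γ(X, U)) (hφ : DerSch.IsChart f U V h φ) (m : ℤ) (E : DCoh.D X) :
    ChartOn f m E U V ↔ DerSch.ChartPC m E U V φ :=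
  ⟨fun ⟨_, _, ψ, hψ, hE⟩ => (chartPC_congr hU ψ hψ.1 φ hφ.1 (hψ.2.trans hφ.2.symm) m E).1 hE,
    fun hE => ⟨h, n, φ, hφ, hE⟩⟩

theorem exists_chart {U : X.Opens} {V : Y.Opens} (h : U ≤ f ⁻¹ᵁ V) (hft : (f.appLE V U h).hom.FiniteType) :
    ∃ (n : ℕ) (φ : MvPolynomial (Fin n) Γ(Y, V) →+* Γ(X, U)), DerSch.IsChart f U V h φ := by
  letI := (f.appLE V U h).hom.toAlgebra
  obtain ⟨n, φ, hφ⟩ := Algebra.FiniteType.iff_quotient_mvPolynomial''.1 hft
  exact ⟨n, φ.toRingHom, hφ, φ.comp_algebraMap⟩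

theorem finiteType_of_chart {U : X.Opens} {V : Y.Opens} (h : U ≤ f ⁻¹ᵁ V) {n : ℕ}
    (φ : MvPolynomial (Fin n) Γ(Y, V) →+* Γ(X, U)) (hφ : DerSch.IsChart f U V h φ) :
    (f.appLE V U h).hom.FiniteType := by
  rw [← hφ.2]
  exact (RingHom.FiniteType.of_surjective φ hφ.1).comp
    (RingHom.finiteType_algebraMap.2 inferInstance : (algebraMap Γ(Y, V) (MvPolynomial (Fin n) Γ(Y, V))).FiniteType)

/-- A chart factored through a pseudo-coherent algebra `Q`. -/
theorem chartPC_iff_of_factor {U : X.Opens} {V : Y.Opens} (hU : IsAffineOpen U) {Q : Type u} [CommRing Q]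
    [Algebra Γ(Y, V) Q] (hQ : MoreMor.IsPseudoCoherentHom Γ(Y, V) Q) (q : Q →+* Γ(X, U))
    (hq : Function.Surjective q) [IsClosedImmersion (U.toSpecΓ ≫ Spec.map (CommRingCat.ofHom q))] {n : ℕ}
    (s : MvPolynomial (Fin n) Γ(Y, V) →ₐ[Γ(Y, V)] Q) (hs : Function.Surjective s) (m : ℤ) (E : DCoh.D X) :
    DerSch.ChartPC m E U V (q.comp s.toRingHom) ↔
      DCoh.IsPseudoCoherentD m ((Pd (U.toSpecΓ ≫ Spec.map (CommRingCat.ofHom q))).obj ((Rd U.ι).obj E)) := by
  haveI := isClosedImmersion_chartImm hU (q.comp s.toRingHom) (hq.comp hs)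
  haveI : IsClosedImmersion (Spec.map (CommRingCat.ofHom s.toRingHom)) :=
    IsClosedImmersion.spec_of_surjective _ hs
  rw [chartPC_iff hU]
  refine pcD_pd_comp_iff _ _ (pcImm_spec _ ((Groth.PCohHom.pcHom_iff_of_surjective
    (Groth.PCohHom.pcHom_mvPolynomial (pcHom_self _) n) s hs).1 hQ)) _ ?_ m _
  simp only [DerSch.chartImm, Category.assoc, ← Spec.map_comp]
  rfl

section BasicOpen

variable {U : X.Opens} {V : Y.Opens} (hU : IsAffineOpen U)

include hU in
/-- The chart test on a principal open of the source. -/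
theorem chartOn_basicOpen_iff (h : U ≤ f ⁻¹ᵁ V) {n : ℕ} (φ : MvPolynomial (Fin n) Γ(Y, V) →+* Γ(X, U))
    (hφ : DerSch.IsChart f U V h φ) [IsClosedImmersion (DerSch.chartImm U φ)] (G : MvPolynomial (Fin n) Γ(Y, V))
    (m : ℤ) (E : DCoh.D X) :
    ChartOn f m E (X.basicOpen (φ G)) V ↔
      DCoh.IsPseudoCoherentD m ((Rd (Spec.map (CommRingCat.ofHom
        (algebraMap (MvPolynomial (Fin n) Γ(Y, V)) (Localization.Away G))))).obj
          ((Pd (DerSch.chartImm U φ)).obj ((Rd U.ι).obj E))) := by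
  let P := MvPolynomial (Fin n) Γ(Y, V)
  let W := X.basicOpen (φ G)
  have hle : W ≤ U := X.basicOpen_le _
  haveI := hU.isLocalization_basicOpen (φ G)
  let res : Γ(X, U) →+* Γ(X, W) := (X.presheaf.map (homOfLE hle).op).hom
  have hu : IsUnit ((res.comp φ) G) := IsLocalization.Away.algebraMap_isUnit (S := Γ(X, W)) (φ G)
  let q : Localization.Away G →+* Γ(X, W) := IsLocalization.Away.lift G hu
  have hqc : q.comp (algebraMap P (Localization.Away G)) = res.comp φ := IsLocalization.Away.lift_comp G hu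
  have hq : Function.Surjective q := fun x => by
    obtain ⟨⟨a, _, k, rfl⟩, hx⟩ := IsLocalization.surj (Submonoid.powers (φ G)) x
    obtain ⟨p, rfl⟩ := hφ.1 a
    refine ⟨IsLocalization.mk' _ p (⟨G ^ k, k, rfl⟩ : Submonoid.powers G), ?_⟩
    apply (hu.pow k).mul_left_injective
    have h1 := (map_mul q _ _).symm.trans
      (congrArg q (IsLocalization.mk'_spec (Localization.Away G) p (⟨G ^ k, k, rfl⟩ : Submonoid.powers G)))
    have e := RingHom.congr_fun hqc
    have e1 : q (algebraMap P (Localization.Away G) (G ^ k)) = (res.comp φ) G ^ k := by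
      rw [map_pow, map_pow]; exact congrArg (· ^ k) (e G)
    refine (congrArg (q _ * ·) e1.symm).trans ((h1.trans (e p)).trans ?_)
    simpa [res, RingHom.algebraMap_toAlgebra] using hx.symm
  have hQ : MoreMor.IsPseudoCoherentHom Γ(Y, V) (Localization.Away G) :=
    Groth.PCohHom.pcHom_trans (Groth.PCohHom.pcHom_mvPolynomial (pcHom_self Γ(Y, V)) n)
      (Groth.PCohHom.pcHom_away G _)
  have := Groth.PCohHom.finiteType_of_pcHom hQ
  obtain ⟨k, s, hs⟩ := Algebra.FiniteType.iff_quotient_mvPolynomial''.1 this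
  have hW : IsAffineOpen W := hU.basicOpen _
  have hψ : DerSch.IsChart f W V (hle.trans h) (q.comp s.toRingHom) := by
    refine ⟨hq.comp hs, ?_⟩
    rw [RingHom.comp_assoc, show s.toRingHom.comp MvPolynomial.C =
      (algebraMap P (Localization.Away G)).comp (algebraMap Γ(Y, V) P) from
        s.comp_algebraMap.trans (IsScalarTower.algebraMap_eq _ _ _), ← RingHom.comp_assoc, hqc, RingHom.comp_assoc,
      show φ.comp (algebraMap Γ(Y, V) P) = _ from hφ.2]
    exact congrArg CommRingCat.Hom.hom (Scheme.Hom.appLE_map f h (homOfLE hle).op)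
  haveI : IsIso W.toSpecΓ := hW.isoSpec_hom ▸ inferInstance
  haveI := IsClosedImmersion.spec_of_surjective (CommRingCat.ofHom q) hq
  rw [chartOn_iff hW _ _ hψ, chartPC_iff_of_factor hW hQ q hq s hs]
  let j := Spec.map (CommRingCat.ofHom (algebraMap P (Localization.Away G)))
  haveI : IsOpenImmersion j := IsOpenImmersion.of_isLocalization G
  have w : X.homOfLE hle ≫ DerSch.chartImm U φ = (W.toSpecΓ ≫ Spec.map (CommRingCat.ofHom q)) ≫ j := by
    rw [DerSch.chartImm, ← Category.assoc, ← Scheme.Opens.toSpecΓ_SpecMap_presheaf_map W U hle]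
    simp only [j, Category.assoc, ← Spec.map_comp]
    rw [← CommRingCat.ofHom_comp, hqc]
    rfl
  have hr : DerSch.chartImm U φ ⁻¹ᵁ j.opensRange ≤ (X.homOfLE hle).opensRange := by
    rw [Scheme.opensRange_homOfLE,
      show j.opensRange = PrimeSpectrum.basicOpen G from
        Opens.ext (PrimeSpectrum.localization_away_comap_range (Localization.Away G) G)]
    exact le_of_eq (Scheme.Opens.toSpecΓ_preimage_basicOpen U (φ G))
  obtain ⟨e⟩ := nonempty_rdPd_square (DerSch.chartImm U φ) (W.toSpecΓ ≫ Spec.map (CommRingCat.ofHom q)) j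
    (X.homOfLE hle) w hr ((Rd U.ι).obj E)
  obtain ⟨c⟩ := nonempty_rdComp (k := X.homOfLE hle) (j := U.ι) (l := W.ι) (X.homOfLE_ι hle).symm E
  exact ⟨fun h => Groth.DerivedCoh.PCoh.isPseudoCoherentD_of_iso ((Pd _).mapIso c ≪≫ e.symm) h,
    fun h => Groth.DerivedCoh.PCoh.isPseudoCoherentD_of_iso (e ≪≫ (Pd _).mapIso c.symm) h⟩

include hU in
theorem chartOn_basicOpen {m : ℤ} {E : DCoh.D X} (hE : ChartOn f m E U V) (g : Γ(X, U)) :
    ChartOn f m E (X.basicOpen g) V := by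
  obtain ⟨h, n, φ, hφ, hE⟩ := hE
  obtain ⟨G, rfl⟩ := hφ.1 g
  haveI := isClosedImmersion_chartImm hU φ hφ.1
  haveI : IsOpenImmersion (Spec.map (CommRingCat.ofHom
    (algebraMap (MvPolynomial (Fin n) Γ(Y, V)) (Localization.Away G)))) := IsOpenImmersion.of_isLocalization G
  exact (chartOn_basicOpen_iff hU h φ hφ G m E).2 (pcD_rd _ ((chartPC_iff hU φ m E).1 hE))

include hU in
theorem chartOn_of_cover (h : U ≤ f ⁻¹ᵁ V) (hft : (f.appLE V U h).hom.FiniteType) {m : ℤ} {E : DCoh.D X}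
    {ι : Type*} (g : ι → Γ(X, U)) (hg : U ≤ ⨆ i, X.basicOpen (g i)) (hE : ∀ i, ChartOn f m E (X.basicOpen (g i)) V) :
    ChartOn f m E U V := by
  obtain ⟨n, φ, hφ⟩ := exists_chart h hft
  haveI := isClosedImmersion_chartImm hU φ hφ.1
  refine ⟨h, n, φ, hφ, (chartPC_iff hU φ m E).2 (Groth.DerivedCoh.PCoh.isPseudoCoherentD_of_local fun y => ?_)⟩
  by_cases hy : y ∈ Set.range (DerSch.chartImm U φ)
  · obtain ⟨x, rfl⟩ := hy
    obtain ⟨i, hi⟩ := Opens.mem_iSup.1 (hg x.2)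
    obtain ⟨G, hG⟩ := hφ.1 (g i)
    haveI : IsOpenImmersion (Spec.map (CommRingCat.ofHom
      (algebraMap (MvPolynomial (Fin n) Γ(Y, V)) (Localization.Away G)))) := IsOpenImmersion.of_isLocalization G
    refine ⟨(Spec.map (CommRingCat.ofHom
      (algebraMap (MvPolynomial (Fin n) Γ(Y, V)) (Localization.Away G)))).opensRange, ?_,
      pcD_rd_opensRange _ ((chartOn_basicOpen_iff hU h φ hφ G m E).1 (by rw [hG]; exact hE i))⟩
    rw [show (Spec.map (CommRingCat.ofHom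
        (algebraMap (MvPolynomial (Fin n) Γ(Y, V)) (Localization.Away G)))).opensRange = PrimeSpectrum.basicOpen G from
      Opens.ext (PrimeSpectrum.localization_away_comap_range (Localization.Away G) G)]
    change x ∈ DerSch.chartImm U φ ⁻¹ᵁ PrimeSpectrum.basicOpen G
    exact (Scheme.Opens.toSpecΓ_preimage_basicOpen U (φ G)).ge (by rw [hG]; exact hi)
  · exact ⟨⟨(Set.range (DerSch.chartImm U φ))ᶜ, (DerSch.chartImm U φ).isClosedEmbedding.isClosed_range.isOpen_compl⟩,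
      hy, pcD_rd_compl _ m _⟩

end BasicOpen

/-- Principal opens of the base. -/
theorem chartOn_base_iff' {U : X.Opens} {V : Y.Opens} (hU : IsAffineOpen U)
    (hV : IsAffineOpen V) (r : Γ(Y, V)) (h : U ≤ f ⁻¹ᵁ Y.basicOpen r)
    (hft : (f.appLE (Y.basicOpen r) U h).hom.FiniteType) (m : ℤ) (E : DCoh.D X) :
    ChartOn f m E U (Y.basicOpen r) ↔ ChartOn f m E U V := by
  haveI := hV.isLocalization_basicOpen r
  have h' : U ≤ f ⁻¹ᵁ V := h.trans (f.preimage_mono (Y.basicOpen_le r))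
  obtain ⟨n, φ, hφ⟩ := exists_chart h hft
  have hQ : MoreMor.IsPseudoCoherentHom Γ(Y, V) (MvPolynomial (Fin n) Γ(Y, Y.basicOpen r)) :=
    Groth.PCohHom.pcHom_mvPolynomial (Groth.PCohHom.pcHom_away r _) n
  have := Groth.PCohHom.finiteType_of_pcHom hQ
  obtain ⟨k, s, hs⟩ := Algebra.FiniteType.iff_quotient_mvPolynomial''.1 this
  have hψ : DerSch.IsChart f U V h' (φ.comp s.toRingHom) := by
    refine ⟨hφ.1.comp hs, ?_⟩
    rw [RingHom.comp_assoc, show s.toRingHom.comp MvPolynomial.C =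
      MvPolynomial.C.comp (algebraMap Γ(Y, V) Γ(Y, Y.basicOpen r)) from
        s.comp_algebraMap.trans rfl, ← RingHom.comp_assoc, hφ.2]
    exact congrArg CommRingCat.Hom.hom (Scheme.Hom.map_appLE f h (homOfLE (Y.basicOpen_le r)).op)
  haveI := isClosedImmersion_chartImm hU φ hφ.1
  haveI : IsClosedImmersion (U.toSpecΓ ≫ Spec.map (CommRingCat.ofHom φ)) := ‹IsClosedImmersion (DerSch.chartImm U φ)›
  rw [chartOn_iff hU _ _ hφ, chartOn_iff hU _ _ hψ, chartPC_iff hU, chartPC_iff_of_factor hU hQ φ hφ.1 s hs]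
  rfl

theorem chartOn_base_iff [LocallyOfFiniteType f] {U : X.Opens} {V : Y.Opens} (hU : IsAffineOpen U)
    (hV : IsAffineOpen V) (r : Γ(Y, V)) (h : U ≤ f ⁻¹ᵁ Y.basicOpen r) (m : ℤ) (E : DCoh.D X) :
    ChartOn f m E U (Y.basicOpen r) ↔ ChartOn f m E U V :=
  chartOn_base_iff' hU hV r h (f.finiteType_appLE (hV.basicOpen r) hU h) m E

/-- A chart cover gives the chart test on every pair of affine opens. -/
theorem chartOn_of_rel {m : ℤ} {E : DCoh.D X} (hE : DerSch.IsPseudoCoherentRel f m E) {U : X.Opens} {V : Y.Opens}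
    (hU : IsAffineOpen U) (hV : IsAffineOpen V) (h : U ≤ f ⁻¹ᵁ V) : ChartOn f m E U V := by
  obtain ⟨hf, 𝒱, h𝒱, hE⟩ := hE
  have key : ∀ x ∈ U, ∃ g : Γ(X, U), x ∈ X.basicOpen g ∧ ChartOn f m E (X.basicOpen g) V := by
    intro x hx
    have hx' : f x ∈ (⨆ V ∈ 𝒱, (V : Y.Opens)) := h𝒱 ▸ trivial
    simp only [Opens.mem_iSup] at hx'
    obtain ⟨A, hA, hxA⟩ := hx'
    obtain ⟨𝒰, h𝒰, hAE⟩ := hE A hA
    have hx'' : x ∈ (⨆ U ∈ 𝒰, (U : X.Opens)) := h𝒰 ▸ hxA
    simp only [Opens.mem_iSup] at hx''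
    obtain ⟨B, hB, hxB⟩ := hx''
    have hBA : (B : X.Opens) ≤ f ⁻¹ᵁ (A : Y.Opens) := by
      rw [← h𝒰]; exact le_iSup₂_of_le B hB le_rfl
    obtain ⟨r, r', hr, hxr⟩ := exists_basicOpen_le_affine_inter hV A.2 (f x) ⟨h hx, hxA⟩
    have hb : ChartOn f m E (B : X.Opens) A := ⟨hBA, hAE B hB hBA⟩
    have h₁ := chartOn_basicOpen B.2 hb (f.appLE A B hBA r')
    have hle : X.basicOpen (f.appLE A B hBA r') ≤ f ⁻¹ᵁ Y.basicOpen r' := by
      rw [Scheme.basicOpen_appLE]; exact inf_le_right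
    have h₂ := (chartOn_base_iff (B.2.basicOpen _) A.2 r' hle m E).2 h₁
    have hxU₂ : x ∈ X.basicOpen (f.appLE A B hBA r') := by
      rw [Scheme.basicOpen_appLE]; exact ⟨hxB, hr ▸ hxr⟩
    obtain ⟨g, g', hg, hxg⟩ := exists_basicOpen_le_affine_inter hU (B.2.basicOpen _) x ⟨hx, hxU₂⟩
    refine ⟨g, hxg, ?_⟩
    rw [hg]
    have h₃ := chartOn_basicOpen (B.2.basicOpen _) h₂ g'
    rw [← hr] at h₃
    exact (chartOn_base_iff ((B.2.basicOpen _).basicOpen g') hV r
      (hr ▸ (X.basicOpen_le g').trans hle) m E).1 h₃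
  choose g hxg hg using key
  exact chartOn_of_cover hU h (f.finiteType_appLE hV hU h) (fun x : U => g x.1 x.2)
    (fun x hx => Opens.mem_iSup.2 ⟨⟨x, hx⟩, hxg x hx⟩) fun x => hg x.1 x.2

end Groth.RelPC
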