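import Groth.Agent.RelPC.TensorRel
import Groth.Agent.KTheory.RelPCBounded

/-!
Inverse images along pseudo-coherent morphisms, without quasi-coherence.
-/

set_option linter.style.haveILetI false

universe u

open CategoryTheory CategoryTheory.Limits AlgebraicGeometry HomologicalComplex TopologicalSpace

namespace Groth.RelPC

open Groth.DerivedCoh
open Groth.DerivedCoh.KFlat (pullCx)
open Groth.KTheory.Perf (Rd)
open Groth.DerivedCoh.PCoh (Below)

attribute [local instance] HasDerivedCategory.standard hasLpull'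

variable {X Y S : Scheme.{u}}

/-- `Lf^*` of a relatively pseudo-coherent object along a pseudo-coherent morphism -/
theorem rel_Lpull_pc (f : X ⟶ Y) (g : Y ⟶ S) [LocallyOfFiniteType f] [LocallyOfFiniteType g]
    (hf : ∀ n : ℤ, DerSch.IsNPseudoCoherent f n) {m : ℤ} {E : DCoh.D Y}
    (hE : DerSch.IsPseudoCoherentRel g m E) :
    DerSch.IsPseudoCoherentRel (f ≫ g) m ((DCoh.Lpull f).obj E) := by
  choose W hW hxW hWt using fun x : X =>
    exists_isAffineOpen_mem_and_subset (U := (⊤ : Y.Opens)) (x := f x) trivial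
  refine rel_of_cover (f ≫ g) (fun x => f ⁻¹ᵁ W x)
    (eq_top_iff.2 fun x _ => Opens.mem_iSup.2 ⟨x, hxW x⟩) fun x => ?_
  let j := (f ⁻¹ᵁ W x).ι
  let f' := f ∣_ W x
  have hj : f' ≫ (W x).ι = j ≫ f := morphismRestrict_ι f (W x)
  haveI : IsAffine (W x : Scheme.{u}) := hW x
  have hG : DerSch.IsPseudoCoherentRel ((W x).ι ≫ g) m ((Rd (W x).ι).obj E) := rel_rd (W x).ι g hE
  obtain ⟨B, hB⟩ := Groth.KTheory.RelPC.exists_isLE_of_isPseudoCoherentRel _ _ _ hG
  obtain ⟨P, hd, hfl, hK, ⟨e⟩⟩ := exists_flat_model ((Rd (W x).ι).obj E) (d := B)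
    fun k hk => DerivedCategory.isZero_of_isLE _ B k (by omega)
  have hU : DerSch.IsPseudoCoherentRel f' (m - B) (DCoh.toD _ (DerSch.unitCx (f ⁻¹ᵁ W x : Scheme.{u}))) := by
    refine (pcMor_cancel_iff f' (W x).ι _ _).1 ?_
    rw [hj]
    exact rel_structure_rd (hf (m - B)) (f ⁻¹ᵁ W x)
  have hb : Below (0 + 1) (DCoh.toD _ (DerSch.unitCx (f ⁻¹ᵁ W x : Scheme.{u}))) := fun k hk =>
    Groth.PCohPunctual.homology_single_isZero _ (show k ≠ 0 by omega)
  have h1 := rel_tot_pull f' ((W x).ι ≫ g) _ hU hb P hK hd hfl (rel_of_iso e.symm hG)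
  rw [← Category.assoc, hj, Category.assoc, show max (m - B + B) (0 + m) = m by omega] at h1
  obtain ⟨c₁⟩ := KFlat.Lpull_comp_iso f' (W x).ι
  obtain ⟨c₂⟩ := KFlat.Lpull_comp_iso j f
  obtain ⟨d₁⟩ := nonempty_Lpull_rd (W x).ι E
  obtain ⟨d₂⟩ := nonempty_Lpull_rd j ((DCoh.Lpull f).obj E)
  refine rel_of_iso ?_ h1
  exact DerivedCategory.Q.mapIso (Duality.brIso _ _ ≪≫ Duality.totUnitIso (P := (pullCx f').obj P)) ≪≫
    (KFlat.lpullQIso f' P hK).symm ≪≫ (DCoh.Lpull f').mapIso (e ≪≫ d₁.symm) ≪≫ c₁.app E ≪≫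
    eqToIso (by congr 2) ≪≫ (c₂.app E).symm ≪≫ d₂

end Groth.RelPC
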