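import Groth.Agent.DerivedCoh.RelAmp.Tensor
import Groth.Agent.DerivedCoh.PerfPush.ProperSupp
import Groth.Agent.DerivedCoh.KFlat.LpullComp
import Mathlib.Algebra.Homology.DerivedCategory.ShortExact
import Mathlib.Algebra.Homology.HomologySequenceLemmas
import Mathlib.Algebra.Homology.HomologicalComplexBiprod

/-!
`Rf_*(Lf^*(-) ⊗^L F)` sends short exact sequences of modules to distinguished triangles.
-/

set_option linter.style.haveILetI false

universe u

open CategoryTheory CategoryTheory.Limits AlgebraicGeometry HomologicalComplex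
open CategoryTheory.Pretriangulated

namespace Groth.RelPC

open Groth.DerivedCoh
open Groth.DerivedCoh.KFlat (IsKFlat tot totL pullCx T)

attribute [local instance] HasDerivedCategory.standard

local notation "up" => ComplexShape.up ℤ

variable {X Y : Scheme.{u}}

/-- `H(p) ≫ H(i) = 1` if the complement of `X` in `X ⊞ Z` is acyclic -/
theorem quasiIso_biprod_fst {C : Type*} [Category* C] [Abelian C] (A B : CochainComplex C ℤ)
    (hB : B.Acyclic) : QuasiIso (biprod.fst : A ⊞ B ⟶ A) := by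
  refine ⟨fun i => (quasiIsoAt_iff_isIso_homologyMap _ _).2
    ⟨⟨homologyMap (biprod.inl : A ⟶ A ⊞ B) i, ?_, ?_⟩⟩⟩
  · have hz : homologyMap ((biprod.snd : A ⊞ B ⟶ B) ≫ (biprod.inr : B ⟶ A ⊞ B)) i = 0 := by
      rw [homologyMap_comp, ((exactAt_iff_isZero_homology _ _).1 (hB i)).eq_of_tgt
        (homologyMap (biprod.snd : A ⊞ B ⟶ B) i) 0, zero_comp]
    rw [← homologyMap_comp, ← add_zero (homologyMap _ i), ← hz, ← homologyMap_add, biprod.total,
      homologyMap_id]
  · rw [← homologyMap_comp, biprod.inl_fst, homologyMap_id]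

/-- K-flatness of an extension split in each degree -/
theorem isKFlat_of_splitting (S : ShortComplex (CochainComplex Y.Modules ℤ))
    (σ : ∀ n, (S.map (HomologicalComplex.eval Y.Modules up n)).Splitting) :
    (IsKFlat (T Y) S.X₁ → IsKFlat (T Y) S.X₂ → IsKFlat (T Y) S.X₃) ∧
    (IsKFlat (T Y) S.X₁ → IsKFlat (T Y) S.X₃ → IsKFlat (T Y) S.X₂) := by
  have h := KFlat.isKFlat_two_of_three (T Y) S fun M q => ((σ q).map ((T Y).obj M)).shortExact
  exact ⟨h.1, h.2.1⟩

/-- a short exact sequence of modules has a K-flat resolution which is split in each degree -/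
theorem exists_split_resolution (S : ShortComplex Y.Modules) (hS : S.ShortExact) :
    ∃ (S₀ : ShortComplex (CochainComplex Y.Modules ℤ))
      (τ : S₀ ⟶ S.map (single Y.Modules up 0)),
      Nonempty (∀ n, (S₀.map (HomologicalComplex.eval Y.Modules up n)).Splitting) ∧
      (QuasiIso τ.τ₁ ∧ QuasiIso τ.τ₂ ∧ QuasiIso τ.τ₃) ∧
      IsKFlat (T Y) S₀.X₁ ∧ IsKFlat (T Y) S₀.X₂ ∧ IsKFlat (T Y) S₀.X₃ := by
  let R := KFlat.flatResolution Y
  let s := single Y.Modules up 0
  let P₁ := R.obj (s.obj S.X₁)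
  let P₂ := R.obj (s.obj S.X₂)
  let φ : P₁ ⟶ P₂ := R.map (s.map S.f)
  let Z := CochainComplex.mappingCone (𝟙 P₁)
  let i : P₁ ⟶ P₂ ⊞ Z := biprod.lift φ (CochainComplex.mappingCone.inr (𝟙 P₁))
  let r : ∀ n, (P₂ ⊞ Z).X n ⟶ P₁.X n := fun n =>
    (biprod.snd : P₂ ⊞ Z ⟶ Z).f n ≫
      (CochainComplex.mappingCone.snd (𝟙 P₁)).v n n (add_zero n)
  have hr : ∀ n, i.f n ≫ r n = 𝟙 _ := fun n => by
    dsimp only [i, r]
    rw [← Category.assoc, ← HomologicalComplex.comp_f, biprod.lift_snd]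
    exact CochainComplex.mappingCone.inr_f_snd_v (𝟙 P₁) n
  let S₀ : ShortComplex (CochainComplex Y.Modules ℤ) :=
    ShortComplex.mk i (cokernel.π i) (cokernel.condition i)
  have hex : S₀.Exact := ShortComplex.exact_cokernel i
  let σ : ∀ n, (S₀.map (HomologicalComplex.eval Y.Modules up n)).Splitting := fun n =>
    ShortComplex.Splitting.ofExactOfRetraction _ (hex.map (HomologicalComplex.eval Y.Modules up n)) (r n)
      (hr n) (show Epi ((cokernel.π i).f n) by infer_instance)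
  have hmono : Mono i := HomologicalComplex.mono_of_mono_f i fun n =>
    (SplitMono.mk (r n) (hr n)).mono
  have hS₀ : S₀.ShortExact :=
    { exact := hex
      mono_f := hmono
      epi_g := inferInstanceAs (Epi (cokernel.π i)) }
  haveI := KFlat.flatResolution_quasiIso (s.obj S.X₁)
  haveI := KFlat.flatResolution_quasiIso (s.obj S.X₂)
  have hZ : Z.Acyclic := KFlat.acyclic_mappingCone_of_quasiIso (𝟙 P₁)
  haveI := quasiIso_biprod_fst P₂ Z hZ
  let ψ₁ : P₁ ⟶ s.obj S.X₁ := (KFlat.flatResolutionAug Y).app _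
  let ψ₂ : P₂ ⊞ Z ⟶ s.obj S.X₂ := biprod.fst ≫ (KFlat.flatResolutionAug Y).app _
  haveI : QuasiIso ψ₁ := by dsimp only [ψ₁]; infer_instance
  haveI : QuasiIso ψ₂ := by dsimp only [ψ₂]; infer_instance
  have h12 : ψ₁ ≫ s.map S.f = i ≫ ψ₂ := by
    dsimp only [ψ₁, ψ₂, i]
    rw [← Category.assoc, biprod.lift_fst]
    exact ((KFlat.flatResolutionAug Y).naturality (s.map S.f)).symm
  have h0 : i ≫ ψ₂ ≫ s.map S.g = 0 := by
    rw [← Category.assoc, ← h12, Category.assoc, ← Functor.map_comp, S.zero, Functor.map_zero, comp_zero]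
  let ψ₃ : cokernel i ⟶ s.obj S.X₃ := cokernel.desc i (ψ₂ ≫ s.map S.g) h0
  let τ : S₀ ⟶ S.map s := ShortComplex.homMk ψ₁ ψ₂ ψ₃ h12 (cokernel.π_desc i _ h0).symm
  have hτ₃ : QuasiIso τ.τ₃ :=
    HomologicalComplex.HomologySequence.quasiIso_τ₃ τ hS₀ (hS.map_of_exact s)
      (inferInstanceAs (QuasiIso ψ₁)) (inferInstanceAs (QuasiIso ψ₂))
  have hP₁ : IsKFlat (T Y) P₁ := KFlat.flatResolution_isKFlat _
  have hE : IsKFlat (T Y) (P₂ ⊞ Z) := by
    let S₁ : ShortComplex (CochainComplex Y.Modules ℤ) :=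
      ShortComplex.mk (biprod.inl : P₂ ⟶ P₂ ⊞ Z) biprod.snd biprod.inl_snd
    let σ₁ : S₁.Splitting :=
      { r := biprod.fst
        s := biprod.inr
        f_r := biprod.inl_fst
        s_g := biprod.inr_snd
        id := biprod.total }
    exact (isKFlat_of_splitting S₁ fun n => σ₁.map _).2 (KFlat.flatResolution_isKFlat _)
      (hP₁.mappingCone (T Y) (𝟙 P₁) hP₁)
  exact ⟨S₀, τ, ⟨σ⟩, ⟨inferInstanceAs (QuasiIso ψ₁), inferInstanceAs (QuasiIso ψ₂), hτ₃⟩,
    hP₁, hE, (isKFlat_of_splitting S₀ σ).1 hP₁ hE⟩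

/-- `Lf^*` on complexes -/
noncomputable def pullCounitQ (f : X ⟶ Y) [DCoh.HasLpull f] :
    DerivedCategory.Q ⋙ DCoh.Lpull f ⟶ pullCx f ⋙ DerivedCategory.Q :=
  (Functor.isoWhiskerRight (DerivedCategory.quotientCompQhIso Y.Modules).symm (DCoh.Lpull f)).hom ≫
    Functor.whiskerLeft (HomotopyCategory.quotient Y.Modules up) (KFlat.pullCounit f) ≫
    (Functor.isoWhiskerLeft (pullCx f) (DerivedCategory.quotientCompQhIso X.Modules)).hom

theorem isIso_pullCounitQ_app (f : X ⟶ Y) [DCoh.HasLpull f] (P : CochainComplex Y.Modules ℤ)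
    (hP : IsKFlat (T Y) P) : IsIso ((pullCounitQ f).app P) := by
  haveI : IsIso ((Functor.whiskerLeft (HomotopyCategory.quotient Y.Modules up) (KFlat.pullCounit f)).app P) :=
    KFlat.isIso_pullCounit_app f P hP
  dsimp only [pullCounitQ]
  rw [NatTrans.comp_app, NatTrans.comp_app]
  infer_instance

/-- `Lf^*(-) ⊗^L F` on complexes -/
noncomputable def ltensorPullCounit (f : X ⟶ Y) (F : CochainComplex X.Modules ℤ) [DCoh.HasLpull f]
    [DCoh.HasLTensorCx F] :
    DerivedCategory.Q ⋙ DCoh.Lpull f ⋙ DCoh.LTensorCx F ⟶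
      pullCx f ⋙ totL (T X) F ⋙ DerivedCategory.Q :=
  Functor.whiskerRight (pullCounitQ f) (DCoh.LTensorCx F) ≫
    Functor.whiskerLeft (pullCx f) (KFlat.ltcxCounit F)

theorem isIso_ltensorPullCounit_app (f : X ⟶ Y) (F : CochainComplex X.Modules ℤ) [DCoh.HasLpull f]
    [DCoh.HasLTensorCx F] (P : CochainComplex Y.Modules ℤ) (hP : IsKFlat (T Y) P) :
    IsIso ((ltensorPullCounit f F).app P) := by
  haveI := isIso_pullCounitQ_app f P hP
  haveI := KFlat.isIso_ltcxCounit_app F _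
    (RelAmp.isKFlat_flip_of_isKFlat (KFlat.isKFlat_pullCx f P hP))
  exact inferInstanceAs (IsIso ((DCoh.LTensorCx F).map ((pullCounitQ f).app P) ≫
    (KFlat.ltcxCounit F).app ((pullCx f).obj P)))

/-- `Rf_*(Lf^*(-) ⊗^L F)` of a short exact sequence of modules completes to a distinguished triangle -/
theorem exists_distinguished_ltensor_push {Z : Scheme.{u}} (f : X ⟶ Y) (g : X ⟶ Z)
    (F : CochainComplex X.Modules ℤ) [DCoh.HasLpull f] [DCoh.HasLTensorCx F] [DCoh.HasRpush g]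
    (S : ShortComplex Y.Modules) (hS : S.ShortExact) :
    let Φ := DerivedCategory.singleFunctor Y.Modules 0 ⋙ DCoh.Lpull f ⋙ DCoh.LTensorCx F ⋙ DCoh.Rpush g
    ∃ c, Triangle.mk (Φ.map S.f) (Φ.map S.g) c ∈ distTriang _ := by
  intro Φ
  obtain ⟨S₀, τ, ⟨σ⟩, ⟨h₁, h₂, h₃⟩, k₁, k₂, k₃⟩ := exists_split_resolution S hS
  let Ψ := DCoh.Lpull f ⋙ DCoh.LTensorCx F
  let σ' := DerivedCategory.singleFunctorIsoCompQ Y.Modules 0
  let γ := ltensorPullCounit f F
  haveI := isIso_ltensorPullCounit_app f F S₀.X₁ k₁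
  haveI := isIso_ltensorPullCounit_app f F S₀.X₂ k₂
  haveI := isIso_ltensorPullCounit_app f F S₀.X₃ k₃
  haveI := (DerivedCategory.isIso_Q_map_iff_quasiIso _ _).2 h₁
  haveI := (DerivedCategory.isIso_Q_map_iff_quasiIso _ _).2 h₂
  haveI := (DerivedCategory.isIso_Q_map_iff_quasiIso _ _).2 h₃
  let G := pullCx f ⋙ totL (T X) F
  let η₁ : DerivedCategory.Q.obj (G.obj S₀.X₁) ≅ Ψ.obj ((DerivedCategory.singleFunctor Y.Modules 0).obj S.X₁) :=
    (asIso (γ.app S₀.X₁)).symm ≪≫ Ψ.mapIso (asIso (DerivedCategory.Q.map τ.τ₁) ≪≫ (σ'.app S.X₁).symm)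
  let η₂ : DerivedCategory.Q.obj (G.obj S₀.X₂) ≅ Ψ.obj ((DerivedCategory.singleFunctor Y.Modules 0).obj S.X₂) :=
    (asIso (γ.app S₀.X₂)).symm ≪≫ Ψ.mapIso (asIso (DerivedCategory.Q.map τ.τ₂) ≪≫ (σ'.app S.X₂).symm)
  let η₃ : DerivedCategory.Q.obj (G.obj S₀.X₃) ≅ Ψ.obj ((DerivedCategory.singleFunctor Y.Modules 0).obj S.X₃) :=
    (asIso (γ.app S₀.X₃)).symm ≪≫ Ψ.mapIso (asIso (DerivedCategory.Q.map τ.τ₃) ≪≫ (σ'.app S.X₃).symm)
  have key : ∀ {A B : CochainComplex Y.Modules ℤ} {M N : Y.Modules} (a : A ⟶ B) (m : M ⟶ N)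
      (tA : A ⟶ (single Y.Modules up 0).obj M) (tB : B ⟶ (single Y.Modules up 0).obj N)
      [IsIso (γ.app A)] [IsIso (γ.app B)],
      tA ≫ (single Y.Modules up 0).map m = a ≫ tB →
      DerivedCategory.Q.map (G.map a) ≫ inv (γ.app B) ≫ Ψ.map (DerivedCategory.Q.map tB ≫ σ'.inv.app N) =
        (inv (γ.app A) ≫ Ψ.map (DerivedCategory.Q.map tA ≫ σ'.inv.app M)) ≫
          Ψ.map ((DerivedCategory.singleFunctor Y.Modules 0).map m) := by
    intro A B M N a m tA tB _ _ h
    have n1 : DerivedCategory.Q.map (G.map a) ≫ inv (γ.app B) =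
        inv (γ.app A) ≫ Ψ.map (DerivedCategory.Q.map a) := by
      rw [IsIso.eq_inv_comp, ← Category.assoc, IsIso.comp_inv_eq]
      exact (γ.naturality a).symm
    rw [← Category.assoc, n1, Category.assoc, Category.assoc, ← Functor.map_comp, ← Functor.map_comp]
    congr 2
    have n2 := σ'.inv.naturality m
    have h' : DerivedCategory.Q.map tA ≫ DerivedCategory.Q.map ((single Y.Modules up 0).map m) =
        DerivedCategory.Q.map a ≫ DerivedCategory.Q.map tB :=
      ((DerivedCategory.Q.map_comp _ _).symm.trans (congrArg DerivedCategory.Q.map h)).trans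
        (DerivedCategory.Q.map_comp _ _)
    exact ((Category.assoc _ _ _).symm.trans ((congrArg (· ≫ σ'.inv.app N) h'.symm).trans
      ((Category.assoc _ _ _).trans (congrArg (DerivedCategory.Q.map tA ≫ ·) n2)))).trans
        (Category.assoc _ _ _).symm
  have hG : (S₀.map G).ShortExact :=
    KFlat.shortExact_totL (T X) F (S₀.map (pullCx f)) fun p q =>
      (((σ p).map (Scheme.Modules.pullback f)).map ((T X).flip.obj (F.X q))).shortExact
  obtain ⟨c, hc⟩ := PerfPush.exists_distinguished g _ (DerivedCategory.triangleOfSES_distinguished hG)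
  let a₁ := (DCoh.Rpush g).mapIso η₁
  let a₂ := (DCoh.Rpush g).mapIso η₂
  let a₃ := (DCoh.Rpush g).mapIso η₃
  refine ⟨a₃.inv ≫ c ≫ a₁.hom⟦(1 : ℤ)⟧', isomorphic_distinguished _ hc _
    (Triangle.isoMk _ _ a₁.symm a₂.symm a₃.symm ?_ ?_ ?_)⟩
  · change (DCoh.Rpush g).map (Ψ.map ((DerivedCategory.singleFunctor Y.Modules 0).map S.f)) ≫ a₂.inv =
      a₁.inv ≫ (DCoh.Rpush g).map (DerivedCategory.Q.map (G.map S₀.f))
    rw [Iso.comp_inv_eq, Category.assoc, Iso.eq_inv_comp]
    dsimp only [a₁, a₂, Functor.mapIso_hom]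
    rw [← Functor.map_comp, ← Functor.map_comp]
    exact congrArg _ (key S₀.f S.f τ.τ₁ τ.τ₂ τ.comm₁₂).symm
  · change (DCoh.Rpush g).map (Ψ.map ((DerivedCategory.singleFunctor Y.Modules 0).map S.g)) ≫ a₃.inv =
      a₂.inv ≫ (DCoh.Rpush g).map (DerivedCategory.Q.map (G.map S₀.g))
    rw [Iso.comp_inv_eq, Category.assoc, Iso.eq_inv_comp]
    dsimp only [a₂, a₃, Functor.mapIso_hom]
    rw [← Functor.map_comp, ← Functor.map_comp]
    exact congrArg _ (key S₀.g S.g τ.τ₂ τ.τ₃ τ.comm₂₃).symm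
  · change (a₃.inv ≫ c ≫ a₁.hom⟦(1 : ℤ)⟧') ≫ a₁.inv⟦(1 : ℤ)⟧' = a₃.inv ≫ c
    exact (Category.assoc _ _ _).trans (congrArg (a₃.inv ≫ ·) ((Category.assoc _ _ _).trans
      ((congrArg (c ≫ ·) (((shiftFunctor _ (1 : ℤ)).map_comp _ _).symm.trans
        ((congrArg _ a₁.hom_inv_id).trans ((shiftFunctor _ (1 : ℤ)).map_id _)))).trans (Category.comp_id c))))

/-- a half exact functor is additive -/
theorem additive_of_halfExact {C D : Type*} [Category* C] [Abelian C] [Category* D] [Abelian D] (F : C ⥤ D)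
    (h : ∀ S : ShortComplex C, S.ShortExact →
      ∃ w : F.map S.f ≫ F.map S.g = 0, (ShortComplex.mk _ _ w).Exact) : F.Additive := by
  have hZ : ∀ Z : C, IsZero Z → IsZero (F.obj Z) := fun Z hZ => by
    have hS : (ShortComplex.mk (𝟙 Z) (𝟙 Z) (hZ.eq_of_src _ _)).ShortExact :=
      { exact := ShortComplex.exact_of_isZero_X₂ _ hZ }
    obtain ⟨w, -⟩ := h _ hS
    rw [IsZero.iff_id_eq_zero]
    simpa using w
  haveI : F.PreservesZeroMorphisms := ⟨fun A B => by
    obtain ⟨Z, hZ'⟩ := HasZeroObject.zero (C := C)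
    rw [show (0 : A ⟶ B) = (0 : A ⟶ Z) ≫ (0 : Z ⟶ B) from comp_zero.symm, F.map_comp]
    rw [(hZ Z hZ').eq_of_tgt (F.map (0 : A ⟶ Z)) 0, zero_comp]⟩
  have total : ∀ A : C, F.map (biprod.fst : A ⊞ A ⟶ A) ≫ F.map biprod.inl +
      F.map (biprod.snd : A ⊞ A ⟶ A) ≫ F.map biprod.inr = 𝟙 _ := fun A => by
    let σ : (ShortComplex.mk (biprod.inl : A ⟶ A ⊞ A) biprod.snd biprod.inl_snd).Splitting :=
      { r := biprod.fst
        s := biprod.inr
        f_r := biprod.inl_fst
        s_g := biprod.inr_snd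
        id := biprod.total }
    obtain ⟨w, hw⟩ := h _ σ.shortExact
    haveI : Mono (F.map (biprod.inl : A ⟶ A ⊞ A)) :=
      (SplitMono.mk (F.map biprod.fst) (by rw [← F.map_comp, biprod.inl_fst, F.map_id])).mono
    let e := 𝟙 (F.obj (A ⊞ A)) - (F.map (biprod.fst : A ⊞ A ⟶ A) ≫ F.map biprod.inl +
      F.map (biprod.snd : A ⊞ A ⟶ A) ≫ F.map biprod.inr)
    have he : e ≫ F.map (biprod.snd : A ⊞ A ⟶ A) = 0 := by
      dsimp only [e]
      rw [Preadditive.sub_comp, Preadditive.add_comp, Category.assoc, Category.assoc, ← F.map_comp biprod.inl,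
        ← F.map_comp biprod.inr, biprod.inl_snd, biprod.inr_snd, F.map_zero, F.map_id, comp_zero,
        Category.comp_id, Category.id_comp, zero_add, sub_self]
    have he' : e ≫ F.map (biprod.fst : A ⊞ A ⟶ A) = 0 := by
      dsimp only [e]
      rw [Preadditive.sub_comp, Preadditive.add_comp, Category.assoc, Category.assoc, ← F.map_comp biprod.inl,
        ← F.map_comp biprod.inr, biprod.inl_fst, biprod.inr_fst, F.map_zero, F.map_id, comp_zero,
        Category.comp_id, Category.id_comp, add_zero, sub_self]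
    haveI : Mono (ShortComplex.mk _ _ w).f := ‹Mono (F.map (biprod.inl : A ⟶ A ⊞ A))›
    obtain ⟨t, ht⟩ := hw.lift' e he
    have ht0 : t = 0 := by
      have h' := congrArg (· ≫ F.map (biprod.fst : A ⊞ A ⟶ A)) ht
      simpa [Category.assoc, ← F.map_comp, he'] using h'
    have he0 : e = 0 := by rw [← ht, ht0, zero_comp]
    exact (sub_eq_zero.1 he0).symm
  refine ⟨fun {A B a b} => ?_⟩
  have h1 : ∀ (c : A ⊞ A ⟶ B), F.map c =
      F.map biprod.fst ≫ F.map (biprod.inl ≫ c) + F.map biprod.snd ≫ F.map (biprod.inr ≫ c) := fun c => by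
    rw [F.map_comp, F.map_comp, ← Category.assoc, ← Category.assoc, ← Preadditive.add_comp, total,
      Category.id_comp]
  calc F.map (a + b) = F.map (biprod.lift (𝟙 A) (𝟙 A) ≫ biprod.desc a b) := by
        rw [biprod.lift_desc, Category.id_comp, Category.id_comp]
    _ = _ := by
      rw [F.map_comp, h1 (biprod.desc a b), biprod.inl_desc, biprod.inr_desc, Preadditive.comp_add]
      simp only [← Category.assoc, ← F.map_comp, biprod.lift_fst, biprod.lift_snd, Category.id_comp]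

/-- right exactness in one degree is left exactness in the next one -/
theorem preserves_iff_succ {A B : Type*} [Category* A] [Abelian A] [Category* B] [Abelian B]
    [HasDerivedCategory B] (Φ : A ⥤ DerivedCategory B)
    (h : ∀ S : ShortComplex A, S.ShortExact →
      ∃ c, Triangle.mk (Φ.map S.f) (Φ.map S.g) c ∈ distTriang _) (p : ℤ) :
    PreservesFiniteColimits (Φ ⋙ DerivedCategory.homologyFunctor B p) ↔
      PreservesFiniteLimits (Φ ⋙ DerivedCategory.homologyFunctor B (p + 1)) := by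
  have hex : ∀ (n : ℤ) (S : ShortComplex A), S.ShortExact →
      ∃ w : (Φ ⋙ DerivedCategory.homologyFunctor B n).map S.f ≫
        (Φ ⋙ DerivedCategory.homologyFunctor B n).map S.g = 0, (ShortComplex.mk _ _ w).Exact :=
    fun n S hS => by
      obtain ⟨c, hc⟩ := h S hS
      exact ⟨_, DerivedCategory.HomologySequence.exact₂ _ hc n⟩
  haveI := additive_of_halfExact _ (hex p)
  haveI := additive_of_halfExact _ (hex (p + 1))
  rw [Functor.preservesFiniteLimits_iff_forall_exact_map_and_mono,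
    Functor.preservesFiniteColimits_iff_forall_exact_map_and_epi]
  refine ⟨fun h' S hS => ?_, fun h' S hS => ?_⟩ <;> obtain ⟨c, hc⟩ := h S hS
  · exact ⟨(hex (p + 1) S hS).2, (DerivedCategory.HomologySequence.mono_homologyMap_mor₁_iff _ hc p (p + 1)).2
      ((DerivedCategory.HomologySequence.epi_homologyMap_mor₂_iff _ hc p (p + 1)).1 (h' S hS).2)⟩
  · exact ⟨(hex p S hS).2, (DerivedCategory.HomologySequence.epi_homologyMap_mor₂_iff _ hc p (p + 1)).2
      ((DerivedCategory.HomologySequence.mono_homologyMap_mor₁_iff _ hc p (p + 1)).1 (h' S hS).2)⟩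

end Groth.RelPC
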