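import Groth.Agent.RelPC.Comp
import Groth.Agent.RelPC.QCoh
import Groth.Agent.DerivedCoh.PerfPush.ProperSupp
import Groth.Agent.DerivedCoh.PCohDescent.Noetherian
import Groth.Agent.DerivedCoh.RelAmp.PushAmp
import Groth.Agent.PCohHom.PerfStalk
import Groth.Agent.S1503

/-!
Derived direct images along proper morphisms over locally Noetherian bases: pseudo-coherence, perfectness.
-/

set_option linter.style.haveILetI false

universe u

open CategoryTheory CategoryTheory.Limits AlgebraicGeometry TopologicalSpace TensorProduct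

namespace Groth.RelPC

open Groth.DerivedCoh
open Groth.KTheory.Perf (Rd Rc rdQIso)

attribute [local instance] HasDerivedCategory.standard

variable {X Y S : Scheme.{u}}

/-- over a locally Noetherian base relative pseudo-coherence is the absolute one -/
theorem relAll_iff_pcD [IsLocallyNoetherian S] (p : X ⟶ S) [LocallyOfFiniteType p] (E : DCoh.D X) :
    DerSch.IsPseudoCoherentRelAll p E ↔ ∀ m : ℤ, DCoh.IsPseudoCoherentD m E :=
  forall_congr' fun m => rel_abs_iff p ((Groth.Agent.S1503.result p).2 inferInstance) m E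

/-- on a Noetherian scheme pseudo-coherent means bounded above with coherent cohomology -/
theorem coh_of_pcD [IsNoetherian X] {E : DCoh.D X} (hE : ∀ m : ℤ, DCoh.IsPseudoCoherentD m E) :
    DCoh.IsCohD E ∧ ∃ b : ℤ, E.IsLE b := by
  have h := fun m => (PCohDescent.pcoh_iff_coherent E
    (fun i => isQCoh_hd_of_pcD (hE (i - 1)) (by omega)) m).1 (hE m)
  exact ⟨fun i => (h i).1 i le_rfl, (h 0).2⟩

theorem cohSupp_of_proper (f : X ⟶ Y) [IsProper f] [IsLocallyNoetherian X] {M : X.Modules}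
    (hM : Coh.IsCoh M) : PerfPush.cohSupp f M :=
  ⟨hM, Groth.CohC3.isClosed_support_of_isCoh _ hM, inferInstance⟩

/-- bounded coherent objects have bounded coherent proper direct images -/
theorem coh_Rpush (f : X ⟶ Y) [IsProper f] [IsNoetherian Y] [DCoh.HasRpush f] (E : DCoh.D X) (a b : ℤ)
    [E.IsGE a] [E.IsLE b] (hE : DCoh.IsCohD E) :
    DCoh.IsCohD ((DCoh.Rpush f).obj E) ∧ ∃ b' : ℤ, ((DCoh.Rpush f).obj E).IsLE b' :=
  haveI : IsLocallyNoetherian X := LocallyOfFiniteType.isLocallyNoetherian f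
  PerfPush.rpush_bounded f E a b fun i => cohSupp_of_proper f (hE i)

/-- proper direct images of bounded below pseudo-coherent objects are pseudo-coherent -/
theorem pcD_Rpush_of_proper (f : X ⟶ Y) [IsProper f] [IsLocallyNoetherian Y] [DCoh.HasRpush f]
    (E : DCoh.D X) (a : ℤ) [E.IsGE a] (hE : ∀ m : ℤ, DCoh.IsPseudoCoherentD m E) (m : ℤ) :
    DCoh.IsPseudoCoherentD m ((DCoh.Rpush f).obj E) := by
  refine PCoh.isPseudoCoherentD_of_local fun y => ?_
  obtain ⟨Y', hY, hyY, -⟩ := exists_isAffineOpen_mem_and_subset (show y ∈ (⊤ : Y.Opens) from trivial)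
  haveI : IsAffine (Y' : Scheme.{u}) := hY
  haveI : IsLocallyNoetherian (Y' : Scheme.{u}) := LocallyOfFiniteType.isLocallyNoetherian Y'.ι
  haveI : IsNoetherian (Y' : Scheme.{u}) := {}
  haveI : IsProper (f ∣_ Y') := MorphismProperty.of_isPullback (isPullback_morphismRestrict f Y').flip ‹IsProper f›
  haveI : IsLocallyNoetherian (f ⁻¹ᵁ Y' : Scheme.{u}) := LocallyOfFiniteType.isLocallyNoetherian (f ∣_ Y')
  haveI : CompactSpace (f ⁻¹ᵁ Y' : Scheme.{u}) := QuasiCompact.compactSpace_of_compactSpace (f ∣_ Y')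
  haveI : IsNoetherian (f ⁻¹ᵁ Y' : Scheme.{u}) := {}
  haveI : DCoh.HasRpush (f ∣_ Y') := Groth.Misc4.PushRestrict.hasRightDerived _
  obtain ⟨c⟩ := Groth.Misc4.PushRestrict.restrictD_Rpush_iso f Y'
  refine ⟨Y', hyY, PCoh.isPseudoCoherentD_of_iso (c.app E).symm ?_⟩
  let E' := (Rd (f ⁻¹ᵁ Y').ι).obj E
  obtain ⟨hcoh, b, hb⟩ := coh_of_pcD (E := E') fun n => pcD_rd _ (hE n)
  haveI : E'.IsLE b := hb
  haveI : E'.IsGE a := (DerivedCategory.isGE_iff _ _).2 fun i hi =>
    ((Scheme.Modules.restrictFunctor (f ⁻¹ᵁ Y').ι).map_isZero (E.isZero_of_isGE a i hi)).of_iso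
      (Groth.KTheory.Perf.nonempty_hdRd (f ⁻¹ᵁ Y').ι E i).some
  obtain ⟨h1, h2⟩ := coh_Rpush (f ∣_ Y') E' a b hcoh
  exact (PCohDescent.pcoh_iff_coherent _ (fun i => (h1 i).1) m).2 ⟨fun i _ => h1 i, h2⟩

/-- the same, relative to a locally Noetherian base -/
theorem relAll_Rpush_of_proper [IsLocallyNoetherian S] (p : X ⟶ S) (q : Y ⟶ S) [LocallyOfFiniteType p]
    [LocallyOfFiniteType q] (f : X ⟶ Y) [IsProper f] [DCoh.HasRpush f] (E : DCoh.D X) (a : ℤ) [E.IsGE a]
    (hE : DerSch.IsPseudoCoherentRelAll p E) :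
    DerSch.IsPseudoCoherentRelAll q ((DCoh.Rpush f).obj E) :=
  haveI : IsLocallyNoetherian Y := LocallyOfFiniteType.isLocallyNoetherian q
  (relAll_iff_pcD q _).2 (pcD_Rpush_of_proper f E a ((relAll_iff_pcD p E).1 hE))

section perfect

variable {A B : Type u} [CommRing A] [CommRing B] [Algebra A B]

open Groth.DAlg Groth.KoszulLCI Groth.PCohHom in
/-- the local rings of an algebra of tor dimension at most `d` have tor dimension at most `d` -/
theorem torAmp_localization {d : ℕ} (hd : DRing.HasTorAmplitudeIn A (-(d : ℤ)) 0 (Dual.inD A B))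
    (p : Ideal A) [p.IsPrime] (q : Ideal B) [q.IsPrime]
    (Ap Bq : Type u) [CommRing Ap] [CommRing Bq] [Algebra A Ap] [IsLocalization.AtPrime Ap p]
    [Algebra B Bq] [IsLocalization.AtPrime Bq q] [Algebra A Bq] [IsScalarTower A B Bq] [Algebra Ap Bq]
    [IsScalarTower A Ap Bq] : DRing.HasTorAmplitudeIn Ap (-(d : ℤ)) 0 (Dual.inD Ap Bq) := by
  let P := MvPolynomial B A
  let φ : P →ₐ[A] B := MvPolynomial.aeval id
  have hφ : Function.Surjective φ := fun b => ⟨MvPolynomial.X b, MvPolynomial.aeval_X _ _⟩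
  let _ := φ.toRingHom.toAlgebra
  have : IsScalarTower A P B := IsScalarTower.of_algebraMap_eq fun a => (φ.commutes a).symm
  let _ : Algebra P Bq := ((algebraMap B Bq).comp (algebraMap P B)).toAlgebra
  have : IsScalarTower P B Bq := IsScalarTower.of_algebraMap_eq fun _ => rfl
  have : IsScalarTower A P Bq := IsScalarTower.of_algebraMap_eq fun a => by
    show algebraMap A Bq a = algebraMap B Bq (algebraMap P B (algebraMap A P a))
    rw [← IsScalarTower.algebraMap_apply A P B, ← IsScalarTower.algebraMap_apply A B Bq]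
  let Pq := Localization.AtPrime (q.comap (algebraMap P B))
  have : Module.Flat P Pq := IsLocalization.flat _ (q.comap (algebraMap P B)).primeCompl
  have h1 := torAmp_tensor_flat (R := A) (P := P) Pq d B hd
  have h2 := hasTorAmp_congr
    ((tensorLocEquiv (P := P) hφ q Bq Pq).restrictScalars A) h1
  have : Module.Flat A Ap := IsLocalization.flat _ p.primeCompl
  exact hasTorAmp_congr (IsLocalization.moduleLid p.primeCompl Ap Bq)
    (hasTorAmp_baseChange Ap Bq h2)

end perfect

open Groth.DAlg Groth.KoszulLCI Groth.PCohHom in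
/-- perfect morphisms are locally of finite tor dimension -/
theorem locFiniteTorDim_of_perfectMor (f : X ⟶ Y) (hf : MoreMor.IsPerfectMor f) :
    DerSch.LocFiniteTorDim f := fun x => by
  obtain ⟨U, hU, hfx, -⟩ := exists_isAffineOpen_mem_and_subset (x := f x) (U := ⊤) trivial
  obtain ⟨V, hV, hx, hVU⟩ := exists_isAffineOpen_mem_and_subset (x := x) (U := f ⁻¹ᵁ U) hfx
  have hP := hf V U hV hU hVU
  let _ := (f.appLE U V hVU).hom.toAlgebra
  obtain ⟨d, hd⟩ := (hasFiniteTorDim_iff _).1 hP.2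
  refine ⟨V, -(d : ℤ), 0, hx, fun y hy => ?_⟩
  refine (Groth.Misc13.TorDimFactor.hasTorAmplitudeAt_unit_iff f y _ _).2 ?_
  let _ := Y.presheaf.algebra_section_stalk ⟨f y, hVU hy⟩
  have := hU.isLocalization_stalk ⟨f y, hVU hy⟩
  let _ := X.presheaf.algebra_section_stalk ⟨y, hy⟩
  have := hV.isLocalization_stalk ⟨y, hy⟩
  let _ := (f.stalkMap y).hom.toAlgebra
  let _ : Algebra Γ(Y, U) (X.presheaf.stalk y) :=
    ((algebraMap Γ(X, V) (X.presheaf.stalk y)).comp (f.appLE U V hVU).hom).toAlgebra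
  have : IsScalarTower Γ(Y, U) Γ(X, V) (X.presheaf.stalk y) := IsScalarTower.of_algebraMap_eq fun _ => rfl
  have : IsScalarTower Γ(Y, U) (Y.presheaf.stalk (f y)) (X.presheaf.stalk y) :=
    IsScalarTower.of_algebraMap_eq fun a => by
      change X.presheaf.germ V y hy ((f.appLE U V hVU) a) = (f.stalkMap y) (Y.presheaf.germ U (f y) (hVU hy) a)
      rw [Scheme.Hom.germ_stalkMap_apply, Scheme.Hom.appLE, CommRingCat.comp_apply,
        TopCat.Presheaf.germ_res_apply]
  exact torAmp_localization hd (hU.primeIdealOf ⟨f y, hVU hy⟩).asIdeal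
    (hV.primeIdealOf ⟨y, hy⟩).asIdeal _ _

/-- perfect objects of a locally Noetherian target -/
theorem isPerfect_Rpush_of_proper (f : X ⟶ Y) [IsProper f] [IsLocallyNoetherian Y] [DCoh.HasRpush f]
    (hf : MoreMor.IsPerfectMor f) (E : DCoh.D X) (a : ℤ) [E.IsGE a] (hE : DCoh.IsPerfect E) :
    DCoh.IsPerfect ((DCoh.Rpush f).obj E) := by
  obtain ⟨hpc, htor⟩ := (PCoh.isPerfect_iff_pseudoCoherent E).1 hE
  refine (PCoh.isPerfect_iff_pseudoCoherent _).2 ⟨pcD_Rpush_of_proper f E a hpc, ?_⟩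
  exact (RelAmp.locHasFiniteTorDim_iff_locAmp _).2
    (RelAmp.locAmp_Rpush' f (𝟙 Y) f (Category.comp_id f) E
      (fun i => isQCoh_hd_of_pcD (hpc (i - 1)) (by omega))
      (RelAmp.locAmp_comp_id f (locFiniteTorDim_of_perfectMor f hf)
        ((RelAmp.locHasFiniteTorDim_iff_locAmp _).1 htor)))

end Groth.RelPC
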