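import Groth.Agent.RelPC.NoethPush
import Groth.Agent.DerivedCoh.PerfPush.Reduce

/-!
Perfectness of derived direct images of bounded coherent objects with proper support and finite tor dimension.
-/

set_option linter.style.haveILetI false

universe u

open CategoryTheory CategoryTheory.Limits AlgebraicGeometry TopologicalSpace

namespace Groth.RelPC

open Groth.DerivedCoh
open Groth.KTheory.Perf (Rd Rc rdQIso)

attribute [local instance] HasDerivedCategory.standard

variable {X S : Scheme.{u}}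

theorem isCompact_of_isProperOver [CompactSpace S] (f : X ⟶ S) {Z : Set X} (h : ClSub.IsProperOver f Z) :
    IsCompact Z := by
  obtain ⟨hc, hp⟩ := h
  let L := Scheme.IdealSheafData.vanishingIdeal (⟨Z, hc⟩ : TopologicalSpace.Closeds X)
  haveI : IsProper (L.subschemeι ≫ f) := hp
  haveI : CompactSpace L.subscheme := QuasiCompact.compactSpace_of_compactSpace (L.subschemeι ≫ f)
  have := isCompact_range L.subschemeι.base.hom.continuous
  rwa [show Set.range (fun y => L.subschemeι.base y) = Z by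
    refine (Scheme.IdealSheafData.range_subschemeι L).trans ?_
    exact Scheme.IdealSheafData.coe_support_vanishingIdeal _] at this

theorem isPerfect_Rpush_of_properSupp [IsNoetherian S] (f : X ⟶ S) [LocallyOfFiniteType f] [DCoh.HasRpush f]
    (E : DCoh.D X) (hcoh : DCoh.IsCohD E) (a b : ℤ) (hbd : ∀ i, (i < a ∨ b < i) → IsZero (DCoh.HD E i))
    (hsupp : ∀ i, ClSub.IsProperOver f (CohB1.support (DCoh.HD E i))) (htor : RelAmp.LocAmp f E) :
    DCoh.IsPerfect ((DCoh.Rpush f).obj E) := by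
  haveI : IsLocallyNoetherian X := LocallyOfFiniteType.isLocallyNoetherian f
  let T : Set X := ⋃ i ∈ Finset.Icc a b, CohB1.support (DCoh.HD E i)
  have hTs : ∀ i, CohB1.support (DCoh.HD E i) ⊆ T := fun i x hx => by
    by_cases hi : i ∈ Finset.Icc a b
    · exact Set.mem_iUnion₂.2 ⟨i, hi, hx⟩
    · refine absurd hx ((Groth.CohTwo.notMem_support_iff _ x).2
        (AddCommGrpCat.subsingleton_of_isZero ((Groth.QCohMod.stalk x).map_isZero (hbd i ?_))))
      simp only [Finset.mem_Icc, not_and_or, not_le] at hi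
      exact hi
  have hTcl : IsClosed T :=
    (Finset.Icc a b).finite_toSet.isClosed_biUnion fun i _ => (hsupp i).1
  have hTc : IsCompact T :=
    (Finset.Icc a b).finite_toSet.isCompact_biUnion fun i _ => isCompact_of_isProperOver f (hsupp i)
  choose V hV hxV using fun x : X => show ∃ V : X.Opens, IsAffineOpen V ∧ x ∈ V by
    obtain ⟨V, hV, hx, -⟩ := exists_isAffineOpen_mem_and_subset (x := x) (U := ⊤) trivial
    exact ⟨V, hV, hx⟩
  obtain ⟨t, ht⟩ := hTc.elim_finite_subcover (fun x => (V x : Set X)) (fun x => (V x).2)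
    (fun x _ => Set.mem_iUnion.2 ⟨x, hxV x⟩)
  let U : X.Opens := t.sup V
  have hTU : T ⊆ (U : Set X) := fun x hx => by
    obtain ⟨y, hy, hxy⟩ := Set.mem_iUnion₂.1 (ht hx)
    exact (Finset.le_sup (f := V) hy) hxy
  have hUc : IsCompact (U : Set X) := by
    show IsCompact ((t.sup V : X.Opens) : Set X)
    rw [TopologicalSpace.Opens.coe_finset_sup, Finset.sup_set_eq_biUnion]
    exact t.finite_toSet.isCompact_biUnion fun y _ => (hV y).isCompact
  haveI : CompactSpace (U : Scheme.{u}) := isCompact_iff_compactSpace.1 hUc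
  haveI : IsLocallyNoetherian (U : Scheme.{u}) := LocallyOfFiniteType.isLocallyNoetherian U.ι
  haveI : IsNoetherian (U : Scheme.{u}) := {}
  haveI : DCoh.HasRpush U.ι := Groth.Misc4.PushRestrict.hasRightDerived _
  haveI : DCoh.HasRpush (U.ι ≫ f) := Groth.Misc4.PushRestrict.hasRightDerived _
  haveI : QuasiSeparated (U.ι ≫ f) := inferInstance
  haveI : QuasiCompact (U.ι ≫ f) := inferInstance
  obtain ⟨e⟩ := PerfPush.nonempty_iso_Rpush_restrict U T hTcl hTU E hTs
  obtain ⟨c⟩ := KFlat.Rpush_comp_iso U.ι f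
  let E' := (Rd U.ι).obj E
  have hd : ∀ i, Nonempty (DCoh.HD E' i ≅ (Scheme.Modules.restrictFunctor U.ι).obj (DCoh.HD E i)) :=
    fun i => Groth.KTheory.Perf.nonempty_hdRd U.ι E i
  haveI : E'.IsGE a := (DerivedCategory.isGE_iff _ _).2 fun i hi =>
    ((Scheme.Modules.restrictFunctor U.ι).map_isZero (hbd i (Or.inl hi))).of_iso (hd i).some
  haveI : E'.IsLE b := (DerivedCategory.isLE_iff _ _).2 fun i hi =>
    ((Scheme.Modules.restrictFunctor U.ι).map_isZero (hbd i (Or.inr hi))).of_iso (hd i).some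
  have hcoh' : ∀ i, Coh.IsCoh (DCoh.HD E' i) := fun i =>
    haveI := (hcoh i).1
    Groth.QCohMod.isCoh_of_iso ((hd i).some ≪≫ (Scheme.Modules.restrictFunctorIsoPullback U.ι).app _).symm
      ⟨inferInstance, Groth.QCohMod.isFT_pullback U.ι _ (hcoh i).2⟩
  have hs' : ∀ i, PerfPush.cohSupp (U.ι ≫ f) (DCoh.HD E' i) := fun i => by
    refine ⟨hcoh' i, Groth.CohDev.isProperOver_mono _
      (PerfPush.isProperOver_open f U (hsupp i) ((hTs i).trans hTU))
      (Groth.CohC3.isClosed_support_of_isCoh _ (hcoh' i)) fun u hu => ?_⟩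
    by_contra hn
    refine hu ?_
    have hz : IsZero ((Groth.QCohMod.stalk (U.ι u)).obj (DCoh.HD E i)) :=
      @AddCommGrpCat.isZero_of_subsingleton _ ((Groth.CohTwo.notMem_support_iff _ (U.ι u)).1 hn)
    exact AddCommGrpCat.subsingleton_of_isZero ((hz.of_iso ((Scheme.Modules.restrictStalkNatIso U.ι u).app _)).of_iso
      ((Groth.QCohMod.stalk u).mapIso (hd i).some))
  obtain ⟨h1, h2⟩ := PerfPush.rpush_bounded (U.ι ≫ f) E' a b hs'
  refine Groth.KTheory.Perf.isPerfect_of_iso ((c.app _).symm ≪≫ (DCoh.Rpush f).mapIso e.symm)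
    ((PCoh.isPerfect_iff_pseudoCoherent _).2
      ⟨fun m => (PCohDescent.pcoh_iff_coherent _ (fun i => (h1 i).1) m).2 ⟨fun i _ => h1 i, h2⟩, ?_⟩)
  refine (RelAmp.locHasFiniteTorDim_iff_locAmp _).2
    (RelAmp.locAmp_Rpush' (U.ι ≫ f) (𝟙 S) (U.ι ≫ f) (Category.comp_id _) E' (fun i => (hcoh' i).1) fun u => ?_)
  obtain ⟨W, m, n, hxW, hW⟩ := htor (U.ι u)
  exact ⟨U.ι ⁻¹ᵁ W, m, n, hxW, fun y hy => (RelAmp.ampAt_rd_iff U.ι y f E m n).2 (hW _ hy)⟩

end Groth.RelPC
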