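import Groth.Agent.RelPC.TildePush

/-!
The chart test and relative pseudo-coherence over rings.
-/

universe u

open CategoryTheory CategoryTheory.Limits AlgebraicGeometry
open Groth.KTheory.Perf (Rd nonempty_rdComp)

namespace Groth.RelPC

attribute [local instance] HasDerivedCategory.standard

theorem nonempty_pdRd_iso {X P : Scheme.{u}} (e : X ⟶ P) [IsIso e] (L : DCoh.D P) :
    Nonempty ((Pd e).obj ((Rd e).obj L) ≅ L) := by
  obtain ⟨s⟩ := nonempty_rdPd_square (𝟙 P) e (𝟙 P) e (by rw [Category.comp_id])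
    (fun x _ => ⟨(inv e) x, by rw [← Scheme.Hom.comp_apply, IsIso.inv_hom_id]; rfl⟩) L
  obtain ⟨t⟩ := nonempty_mapDerived_id _ (Scheme.Modules.pushforwardId P) L
  obtain ⟨r⟩ := nonempty_mapDerived_id _ (Scheme.Modules.restrictFunctorId (X := P)) L
  exact ⟨s.symm ≪≫ (Rd (𝟙 P)).mapIso t ≪≫ r⟩

variable {X Y : Scheme.{u}} {f : X ⟶ Y}

/-- The chart test in terms of the module of derived sections. -/
theorem chartOn_iff_relPC [LocallyOfFiniteType f] {U : X.Opens} {V : Y.Opens} (hU : IsAffineOpen U)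
    (hV : IsAffineOpen V) (h : U ≤ f ⁻¹ᵁ V) [PreservesFiniteLimits (tilde.functor Γ(X, U))] (m : ℤ) (E : DCoh.D X)
    (M : Dual.D Γ(X, U)) (e : (Rd U.ι).obj E ≅ (Rd hU.isoSpec.hom).obj ((DCoh.tildeD Γ(X, U)).obj M)) :
    ChartOn f m E U V ↔
      (letI := (f.appLE V U h).hom.toAlgebra
       DerCA.IsRelPseudoCoherent Γ(Y, V) Γ(X, U) m M) := by
  letI := (f.appLE V U h).hom.toAlgebra
  haveI : IsIso U.toSpecΓ := hU.isoSpec_hom ▸ inferInstance
  have e' : (Rd U.ι).obj E ≅ (Rd U.toSpecΓ).obj ((DCoh.tildeD Γ(X, U)).obj M) := e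
  obtain ⟨p⟩ := nonempty_pdRd_iso U.toSpecΓ ((DCoh.tildeD Γ(X, U)).obj M)
  constructor
  · intro hE
    obtain ⟨n, φ, hφ⟩ := exists_chart (f := f) h (f.finiteType_appLE hV hU h)
    refine ⟨n, { φ with commutes' := fun r => RingHom.congr_fun hφ.2 r }, hφ.1, ?_⟩
    exact (chartPC_iff_via hU φ hφ.1 m E M (p.symm ≪≫ (Pd _).mapIso e'.symm)).1
      ((chartOn_iff hU h φ hφ m E).1 hE)
  · rintro ⟨n, a, ha, hM⟩
    exact ⟨h, n, a.toRingHom, ⟨ha, a.comp_algebraMap⟩,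
      (chartPC_iff_via hU a.toRingHom ha m E M (p.symm ≪≫ (Pd _).mapIso e'.symm)).2 hM⟩

end Groth.RelPC
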