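import Groth.Agent.RelPC.TotRel
import Groth.Agent.Misc4.ProjClosed
import Groth.Agent.DerivedCoh.RelAmp.Tensor

/-!
`E ⊗^L Lf^*F` is pseudo-coherent relative to a composite.
-/

set_option linter.style.haveILetI false

universe u

open CategoryTheory CategoryTheory.Limits AlgebraicGeometry HomologicalComplex TopologicalSpace

namespace Groth.RelPC

open Groth.DerivedCoh
open Groth.DerivedCoh.KFlat (IsKFlat tot pullCx pushCx)
open Groth.DerivedCoh.ExtZero (resCx)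
open Groth.KTheory.Perf (Rd Rc rdQIso)
open Groth.DerivedCoh.PCoh (Near Below)

attribute [local instance] HasDerivedCategory.standard

local notation "up" => ComplexShape.up ℤ

variable {X Y S : Scheme.{u}}

theorem hasLpull' {A B : Scheme.{u}} (f : A ⟶ B) : DCoh.HasLpull f := Groth.DerivedCoh.KFlat.hasLpull f

attribute [local instance] hasLpull'

/-- flat base change of relative pseudo-coherence along a cartesian square -/
theorem rel_Lpull_sq {X' S' : Scheme.{u}} {g : X' ⟶ X} {f' : X' ⟶ S'} {f : X ⟶ S} {h : S' ⟶ S}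
    (sq : IsPullback g f' f h) [Flat h] {m : ℤ} {E : DCoh.D X}
    (hE : DerSch.IsPseudoCoherentRel f m E) :
    DerSch.IsPseudoCoherentRel f' m ((DCoh.Lpull g).obj E) := by
  haveI := hE.1
  haveI : LocallyOfFiniteType f' := MorphismProperty.of_isPullback sq inferInstance
  refine rel_of_local fun x => ?_
  obtain ⟨V, hV, hxV, -⟩ := exists_isAffineOpen_mem_and_subset (show f (g x) ∈ (⊤ : S.Opens) from trivial)
  obtain ⟨U, hU, hxU, hUV⟩ := exists_isAffineOpen_mem_and_subset (show g x ∈ f ⁻¹ᵁ V from hxV)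
  obtain ⟨V', hV', hxV', hVV⟩ := exists_isAffineOpen_mem_and_subset
    (show f' x ∈ h ⁻¹ᵁ V from by
      show h (f' x) ∈ V
      rw [← Scheme.Hom.comp_apply, ← sq.w, Scheme.Hom.comp_apply]
      exact hxV)
  have hU' : IsAffineOpen (g ⁻¹ᵁ U ⊓ f' ⁻¹ᵁ V') :=
    letI : IsAffine _ := hU
    letI : IsAffine _ := hV
    letI : IsAffine _ := hV'
    .of_isIso (Scheme.Hom.isPullback_resLE sq hVV hUV rfl).isoPullback.hom
  exact ⟨g ⁻¹ᵁ U ⊓ f' ⁻¹ᵁ V', V', ⟨hxU, hxV'⟩, hU', hV', chartOn_Lpull_flat sq hU hV hV' hUV hVV hU' rfl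
    (chartOn_of_rel hE hU hV hUV)⟩

theorem pcMor_cancel_iff {T P : Scheme.{u}} (a : T ⟶ P) [LocallyOfFiniteType a] (b : P ⟶ S)
    [Flat b] [LocallyOfFinitePresentation b] (m : ℤ) (E : DCoh.D T) :
    DerSch.IsPseudoCoherentRel (a ≫ b) m E ↔ DerSch.IsPseudoCoherentRel a m E :=
  rel_trans_iff a b (pcMor_of_flat_lfp b) m E

/-- relative pseudo-coherence after pulling back to an affine space over an affine piece -/
theorem rel_Lpull_affineSpace {W : Y.Opens} (hW : IsAffineOpen W) (g : Y ⟶ S) (n : ℕ) {V : S.Opens}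
    (hV : IsAffineOpen V) (hWV : W ≤ g ⁻¹ᵁ V) {m : ℤ} {G : DCoh.D Y}
    (hG : DerSch.IsPseudoCoherentRel g m G) :
    DerSch.IsPseudoCoherentRel
      ((Spec.map (CommRingCat.ofHom (MvPolynomial.C (σ := Fin n) (R := Γ(Y, W)))) ≫ hW.fromSpec) ≫ g) m
      ((DCoh.Lpull (Spec.map (CommRingCat.ofHom (MvPolynomial.C (σ := Fin n) (R := Γ(Y, W)))) ≫ hW.fromSpec)).obj G) := by
  haveI := hG.1
  let a := g.appLE V W hWV
  let cW : Γ(Y, W) ⟶ CommRingCat.of (MvPolynomial (Fin n) Γ(Y, W)) := CommRingCat.ofHom MvPolynomial.C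
  let cV : Γ(S, V) ⟶ CommRingCat.of (MvPolynomial (Fin n) Γ(S, V)) := CommRingCat.ofHom MvPolynomial.C
  let b : Spec (CommRingCat.of (MvPolynomial (Fin n) Γ(Y, W))) ⟶ Spec (CommRingCat.of (MvPolynomial (Fin n) Γ(S, V))) :=
    Spec.map (CommRingCat.ofHom (MvPolynomial.map a.hom))
  haveI : Flat (Spec.map cV) := by
    rw [HasRingHomProperty.Spec_iff (P := @Flat)]
    exact RingHom.flat_algebraMap_iff.2
      (inferInstance : Module.Flat Γ(S, V) (MvPolynomial (Fin n) Γ(S, V)))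
  haveI : LocallyOfFinitePresentation (Spec.map cV) := by
    rw [HasRingHomProperty.Spec_iff (P := @LocallyOfFinitePresentation)]
    exact RingHom.finitePresentation_algebraMap.2
      (inferInstance : Algebra.FinitePresentation Γ(S, V) (MvPolynomial (Fin n) Γ(S, V)))
  have key : Spec.map a ≫ hV.fromSpec = hW.fromSpec ≫ g := IsAffineOpen.SpecMap_appLE_fromSpec g hV hW hWV
  have sq₁ : IsPullback (Spec.map cW) b (Spec.map a) (Spec.map cV) :=
    (isPullback_SpecMap_of_isPushout _ _ _ _ (isPushout_mvPolynomial_map a.hom n).flip)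
  have sq₂ : IsPullback (Spec.map cW) b (hW.fromSpec ≫ g) (Spec.map cV ≫ hV.fromSpec) := by
    refine ⟨⟨by rw [← key, sq₁.w_assoc]⟩, ⟨?_⟩⟩
    have hs : ∀ s : PullbackCone (hW.fromSpec ≫ g) (Spec.map cV ≫ hV.fromSpec),
        s.fst ≫ Spec.map a = s.snd ≫ Spec.map cV := fun s => by
      rw [← cancel_mono hV.fromSpec, Category.assoc, Category.assoc, key]
      exact s.condition
    exact PullbackCone.IsLimit.mk _ (fun s => sq₁.lift s.fst s.snd (hs s))
      (fun s => sq₁.lift_fst _ _ (hs s)) (fun s => sq₁.lift_snd _ _ (hs s))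
      fun s m h₁ h₂ => sq₁.hom_ext (h₁.trans (sq₁.lift_fst _ _ (hs s)).symm) (h₂.trans (sq₁.lift_snd _ _ (hs s)).symm)
  haveI : LocallyOfFiniteType b := by
    haveI : LocallyOfFiniteType (Spec.map a) := by
      rw [HasRingHomProperty.Spec_iff (P := @LocallyOfFiniteType)]
      exact g.finiteType_appLE hV hW hWV
    exact MorphismProperty.of_isPullback sq₁ inferInstance
  have h1 := (pcMor_cancel_iff b (Spec.map cV ≫ hV.fromSpec) m _).2
    (rel_Lpull_sq sq₂ (rel_rd hW.fromSpec g hG))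
  rw [show b ≫ Spec.map cV ≫ hV.fromSpec = (Spec.map cW ≫ hW.fromSpec) ≫ g by
    rw [Category.assoc, ← sq₂.w]] at h1
  obtain ⟨c⟩ := Groth.DerivedCoh.KFlat.Lpull_comp_iso (Spec.map cW) hW.fromSpec
  obtain ⟨d⟩ := nonempty_Lpull_rd hW.fromSpec G
  exact rel_of_iso ((DCoh.Lpull (Spec.map cW)).mapIso d.symm ≪≫ c.app G) h1

/-- restriction of complexes as inverse image -/
noncomputable def resPullCxIso {U : Scheme.{u}} (j : U ⟶ X) [IsOpenImmersion j] (C : CochainComplex X.Modules ℤ) :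
    (pullCx j).obj C ≅ (resCx j).obj C :=
  (NatIso.mapHomologicalComplex (Scheme.Modules.restrictFunctorIsoPullback j).symm up).app C

/-- `E ⊗^L Lf^*F` on models -/
theorem rel_tot_pull (f : X ⟶ Y) (g : Y ⟶ S) [LocallyOfFiniteType f] [LocallyOfFiniteType g]
    {a b c d : ℤ} (E : CochainComplex X.Modules ℤ) (hE : DerSch.IsPseudoCoherentRel f a (DCoh.toD X E))
    (hb : Below (b + 1) (DCoh.toD X E)) (P : CochainComplex Y.Modules ℤ)
    (hK : IsKFlat (KFlat.T Y) P) (hd : ∀ q, d < q → IsZero (P.X q)) (hfl : ∀ q, FlatMod.IsFlat (P.X q))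
    (hP : DerSch.IsPseudoCoherentRel g c (DCoh.toD Y P)) :
    DerSch.IsPseudoCoherentRel (f ≫ g) (max (a + d) (b + c))
      (DCoh.toD X (tot (KFlat.T X) E ((pullCx f).obj P))) := by
  refine rel_of_local fun x => ?_
  obtain ⟨V, hV, hxV, -⟩ := exists_isAffineOpen_mem_and_subset (U := (⊤ : S.Opens)) (x := g (f x)) trivial
  obtain ⟨W, hW, hxW, hWV⟩ := exists_isAffineOpen_mem_and_subset (U := g ⁻¹ᵁ V) (x := f x) hxV
  obtain ⟨U, hU, hxU, hUW⟩ := exists_isAffineOpen_mem_and_subset (U := f ⁻¹ᵁ W) (x := x) hxW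
  obtain ⟨n, φ, hφ⟩ := exists_chart (f := f) hUW (f.finiteType_appLE hW hU hUW)
  let i := DerSch.chartImm U φ
  haveI : IsClosedImmersion i := isClosedImmersion_chartImm hU φ hφ.1
  let cW : Γ(Y, W) ⟶ CommRingCat.of (MvPolynomial (Fin n) Γ(Y, W)) := CommRingCat.ofHom MvPolynomial.C
  let p := Spec.map cW ≫ hW.fromSpec
  have hip : i ≫ p = U.ι ≫ f := by
    have h2 : cW ≫ CommRingCat.ofHom φ = f.appLE W U hUW := CommRingCat.hom_ext hφ.2
    simp only [i, p, DerSch.chartImm, Category.assoc]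
    erw [← Spec.map_comp_assoc, h2, IsAffineOpen.SpecMap_appLE_fromSpec f hW hU hUW,
      ← hU.isoSpec_hom_fromSpec, hU.isoSpec_hom, Category.assoc]
  have hUV : U ≤ (f ≫ g) ⁻¹ᵁ V := hUW.trans (f.preimage_mono hWV)
  let P' := (pullCx p).obj P
  have hP' : DerSch.IsPseudoCoherentRel (p ≫ g) c (DCoh.toD _ P') :=
    rel_of_iso ((KFlat.lpullQIso p P hK)) (rel_Lpull_affineSpace hW g n hV hWV hP)
  haveI := hP'.1
  let E' := (resCx U.ι).obj E
  have hE' : DCoh.IsPseudoCoherentD a (DCoh.toD _ ((pushCx i).obj E')) :=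
    Groth.DerivedCoh.PCoh.isPseudoCoherentD_of_iso
      ((Pd i).mapIso (rdQIso U.ι E) ≪≫ pdQIso i E') (pcD_chart_of_rel hE hU hW hφ)
  have hbE' : Below (b + 1) (DCoh.toD _ ((pushCx i).obj E')) := fun k hk =>
    (below_pd i (Groth.DerivedCoh.PCoh.below_rd U.ι hb) k hk).of_iso
      ((DerivedCategory.homologyFunctor _ k).mapIso ((Pd i).mapIso (rdQIso U.ι E) ≪≫ pdQIso i E')).symm
  have h1 := rel_tot_of_pcD (h := p ≫ g) ((pushCx i).obj E') hE' hbE' P' (KFlat.isKFlat_pullCx p P hK)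
    (fun q hq => (Scheme.Modules.pullback p).map_isZero (hd q hq))
    (fun q => KFlat.isFlat_pullback p (hfl q)) hP'
  haveI := Groth.Misc4.ProjClosed.isIso_psi i E' P'
  have h2 : DerSch.IsPseudoCoherentRel (i ≫ p ≫ g) (max (a + d) (b + c))
      (DCoh.toD _ (tot (KFlat.T _) E' ((pullCx i).obj P'))) :=
    rel_of_rel_push i (p ≫ g) (rel_of_iso
      (DerivedCategory.Q.mapIso (asIso (Groth.Misc4.ProjCx.psi i E' P')) ≪≫ (pdQIso i _).symm) h1)
  let eP : (pullCx i).obj P' ≅ (resCx U.ι).obj ((pullCx f).obj P) :=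
    (KFlat.pullCxComp i p).app P ≪≫ eqToIso (by rw [hip]) ≪≫ ((KFlat.pullCxComp U.ι f).app P).symm ≪≫
      resPullCxIso U.ι _
  have h3 : DerSch.IsPseudoCoherentRel (U.ι ≫ f ≫ g) (max (a + d) (b + c))
      ((Rd U.ι).obj (DCoh.toD X (tot (KFlat.T X) E ((pullCx f).obj P)))) := by
    rw [← Category.assoc i p g, hip, Category.assoc] at h2
    exact rel_of_iso (DerivedCategory.Q.mapIso ((KFlat.totR (KFlat.T _) E').mapIso eP ≪≫
      Duality.rtR E U.ι ((pullCx f).obj P)) ≪≫ (rdQIso U.ι _).symm) h2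
  have hU' : U ≤ (f ≫ g) ⁻¹ᵁ V := hUV
  haveI : IsAffine (U : Scheme.{u}) := hU
  have h4 := chartOn_of_rel h3 (isAffineOpen_top (U : Scheme.{u})) hV (fun y _ => hUV y.2)
  refine ⟨U, V, hxU, hU, hV, ?_⟩
  have e : U.ι ''ᵁ (⊤ : (U : Scheme.{u}).Opens) = U := U.ι_image_top
  have h5 := (chartOn_image U.ι (f ≫ g) (isAffineOpen_top (U : Scheme.{u})) hV (by rw [e]; exact hUV) _ _).1 h4
  rwa [e] at h5

end Groth.RelPC

namespace Groth.RelPC

open Groth.DerivedCoh
open Groth.DerivedCoh.KFlat (IsKFlat tot pullCx)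
open Groth.DerivedCoh.PCoh (Below)

attribute [local instance] HasDerivedCategory.standard hasLpull'

variable {X Y S : Scheme.{u}}

/-- `Lf^*F ⊗^L E` on a flat model of `F` -/
theorem exists_ltensor_model (f : X ⟶ Y) (E : CochainComplex X.Modules ℤ) [DCoh.HasLTensorCx E]
    (F : DCoh.D Y) {d : ℤ} (hF : Below (d + 1) F) :
    ∃ P : CochainComplex Y.Modules ℤ, IsKFlat (KFlat.T Y) P ∧ (∀ q, d < q → IsZero (P.X q)) ∧
      (∀ q, FlatMod.IsFlat (P.X q)) ∧ Nonempty (DCoh.toD Y P ≅ F) ∧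
      Nonempty ((DCoh.LTensorCx E).obj ((DCoh.Lpull f).obj F) ≅
        DCoh.toD X (tot (KFlat.T X) E ((pullCx f).obj P))) := by
  obtain ⟨P, hd, hfl, hK, ⟨e⟩⟩ := exists_flat_model F hF
  have := KFlat.isIso_ltcxCounit_app E ((pullCx f).obj P)
    (Groth.DerivedCoh.RelAmp.isKFlat_flip_of_isKFlat (KFlat.isKFlat_pullCx f P hK))
  exact ⟨P, hK, hd, hfl, ⟨e⟩, ⟨(DCoh.LTensorCx E).mapIso ((DCoh.Lpull f).mapIso e.symm ≪≫ KFlat.lpullQIso f P hK) ≪≫
    asIso ((KFlat.ltcxCounit E).app ((pullCx f).obj P)) ≪≫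
    DerivedCategory.Q.mapIso (Duality.brIso ((pullCx f).obj P) E)⟩⟩

/-- `Lf^*F ⊗^L E` is pseudo-coherent relative to the composite and bounded above -/
theorem rel_ltensor (f : X ⟶ Y) (g : Y ⟶ S) [LocallyOfFiniteType f] [LocallyOfFiniteType g] {a b c d : ℤ}
    (E : CochainComplex X.Modules ℤ) (hE : DerSch.IsPseudoCoherentRel f a (DCoh.toD X E))
    (hb : Below (b + 1) (DCoh.toD X E)) (F : DCoh.D Y) (hF : DerSch.IsPseudoCoherentRel g c F)
    (hd : Below (d + 1) F) [DCoh.HasLTensorCx E] :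
    DerSch.IsPseudoCoherentRel (f ≫ g) (max (a + d) (b + c))
        ((DCoh.LTensorCx E).obj ((DCoh.Lpull f).obj F)) ∧
      ((DCoh.LTensorCx E).obj ((DCoh.Lpull f).obj F)).IsLE (b + d) := by
  obtain ⟨P, hK, hP0, hfl, ⟨e⟩, ⟨i⟩⟩ := exists_ltensor_model f E F hd
  refine ⟨rel_of_iso i.symm (rel_tot_pull f g E hE hb P hK hP0 hfl (rel_of_iso e.symm hF)), ?_⟩
  refine (DerivedCategory.isLE_iff _ _).2 fun k hk => ?_
  exact (below_tot (KFlat.isKFlat_pullCx f P hK) hb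
    (fun q hq => (Scheme.Modules.pullback f).map_isZero (hP0 q hq)) k (by omega)).of_iso
    ((DerivedCategory.homologyFunctor _ k).mapIso i)

end Groth.RelPC
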