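import Groth.Agent.RelPC.Comp
import Groth.Agent.DAlg.RelPC

/-!
`tilde` on derived categories and direct image along closed immersions of affine schemes.
-/

universe u

open CategoryTheory CategoryTheory.Limits AlgebraicGeometry

namespace Groth.RelPC

attribute [local instance] HasDerivedCategory.standard

theorem nonempty_tilde_push_nat {R R' : CommRingCat.{u}} (φ : R ⟶ R') :
    Nonempty (tilde.functor R' ⋙ Scheme.Modules.pushforward (Spec.map φ) ≅
      ModuleCat.restrictScalars φ.hom ⋙ tilde.functor R) := by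
  let F := tilde.functor R' ⋙ Scheme.Modules.pushforward (Spec.map φ)
  let ε : F ⋙ (moduleSpecΓFunctor (R := R) ⋙ tilde.functor R) ⟶ F ⋙ 𝟭 _ :=
    Functor.whiskerLeft F Scheme.Modules.fromTildeΓNatTrans
  haveI : ∀ M, IsIso (ε.app M) := fun M => by
    haveI : IsIso ((tilde.functor R').obj M).fromTildeΓ := isIso_fromTildeΓ_iff.mpr ⟨_, ⟨Iso.refl _⟩⟩
    exact isIso_fromTildeΓ_pushforward φ ((tilde.functor R').obj M)
  haveI : IsIso ε := NatIso.isIso_of_isIso_app ε
  exact ⟨F.rightUnitor.symm ≪≫ (asIso ε).symm ≪≫ (Functor.associator _ _ _).symm ≪≫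
    Functor.isoWhiskerRight (Functor.associator _ _ _ ≪≫
      Functor.isoWhiskerLeft _ (Groth.PropsBasic2.TildePullback.natIso φ).symm ≪≫
      (Functor.associator _ _ _).symm ≪≫
      Functor.isoWhiskerRight (tilde.toTildeΓNatIso (R := R')).symm _ ≪≫ Functor.leftUnitor _) (tilde.functor R)⟩

theorem nonempty_pdTilde {P A : Type u} [CommRing P] [CommRing A]
    [PreservesFiniteLimits (tilde.functor (CommRingCat.of A))] [PreservesFiniteLimits (tilde.functor (CommRingCat.of P))]
    (θ : P →+* A) [IsClosedImmersion (Spec.map (CommRingCat.ofHom θ))] (M : Dual.D A) :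
    Nonempty ((Pd (Spec.map (CommRingCat.ofHom θ))).obj ((DCoh.tildeD (CommRingCat.of A)).obj M) ≅
      (DCoh.tildeD (CommRingCat.of P)).obj ((DRing.restrictD θ).obj M)) := by
  haveI := Groth.DerivedCoh.TildeD.preservesFiniteColimits A
  haveI := Groth.DerivedCoh.TildeD.preservesFiniteColimits P
  obtain ⟨e⟩ := nonempty_tilde_push_nat (CommRingCat.ofHom θ)
  exact nonempty_mapDerived_square _ _ _ _ e M

/-- The chart test read on a module of derived sections. -/
theorem chartPC_iff_via {X Y : Scheme.{u}} {U : X.Opens} {V : Y.Opens} (hU : IsAffineOpen U)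
    [PreservesFiniteLimits (tilde.functor Γ(X, U))] {n : ℕ} (φ : MvPolynomial (Fin n) Γ(Y, V) →+* Γ(X, U))
    (hφ : Function.Surjective φ) (m : ℤ) (E : DCoh.D X) [IsClosedImmersion U.toSpecΓ] (M : Dual.D Γ(X, U))
    (e : (DCoh.tildeD Γ(X, U)).obj M ≅ (Pd U.toSpecΓ).obj ((Groth.KTheory.Perf.Rd U.ι).obj E)) :
    DerSch.ChartPC m E U V φ ↔
      DRing.IsPseudoCoherent (MvPolynomial (Fin n) Γ(Y, V)) m ((DRing.restrictD φ).obj M) := by
  haveI := isClosedImmersion_chartImm hU φ hφ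
  haveI := IsClosedImmersion.spec_of_surjective (CommRingCat.ofHom φ) hφ
  haveI := Groth.PropsBasic2.preservesFiniteLimits_tilde (R := CommRingCat.of (MvPolynomial (Fin n) Γ(Y, V)))
  obtain ⟨c⟩ := nonempty_pdComp U.toSpecΓ (Spec.map (CommRingCat.ofHom φ)) ((Groth.KTheory.Perf.Rd U.ι).obj E)
  obtain ⟨t⟩ := nonempty_pdTilde φ M
  rw [chartPC_iff hU, ← Groth.DerivedCoh.TildeD.isPseudoCoherentD_tildeD_iff]
  exact ⟨Groth.DerivedCoh.PCoh.isPseudoCoherentD_of_iso (c.symm ≪≫ (Pd _).mapIso e.symm ≪≫ t),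
    Groth.DerivedCoh.PCoh.isPseudoCoherentD_of_iso (t.symm ≪≫ (Pd _).mapIso e ≪≫ c)⟩

end Groth.RelPC
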