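import Groth.Agent.DAlg.RelPCTorIndep
import Groth.Agent.HTopHyper.HTor.BaseChange
import Groth.Agent.HTopHyper.HTor.TorFlat

/-!
Tor-independent change of rings for relative pseudo-coherence, for any pushout.
-/

universe u

open CategoryTheory CategoryTheory.Limits
open scoped TensorProduct

attribute [local instance] HasDerivedCategory.standard
set_option linter.style.haveILetI false

namespace Groth.RelPC

open MvPolynomial

/-- base change along a ring obtained from the base has no `Tor` -/
theorem subsingleton_tor_of_flat {B R C R' A : Type u} [CommRing B] [CommRing R] [CommRing C] [CommRing R']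
    [CommRing A] [Algebra B R] [Algebra B C] [Algebra R A] [Algebra B A] [IsScalarTower B R A]
    [Algebra R R'] [Algebra C R'] [Algebra B R'] [IsScalarTower B R R'] [IsScalarTower B C R']
    [Algebra.IsPushout B R C R'] [Module.Flat B R] [Module.Flat B A] (p : ℕ) (hp : 0 < p) :
    Subsingleton (DRing.Tor R p A R') := by
  obtain ⟨k, rfl⟩ := Nat.exists_eq_succ_of_ne_zero hp.ne'
  obtain ⟨φ, hφ⟩ := Groth.HTorLib.tor_baseChange_flat (A := B) (A' := R) A C (k + 1)
  haveI : Subsingleton (DRing.Tor B (k + 1) A C) := Groth.HTorLib.subsingleton_tor_of_flat_left A C k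
  haveI : Subsingleton (DRing.Tor R (k + 1) A (R ⊗[B] C)) := hφ.2.subsingleton
  let e : R ⊗[B] C ≃ₗ[R] R' := (Algebra.IsPushout.equiv B R C R').toLinearEquiv
  exact (((CategoryTheory.Tor (ModuleCat.{u} R) (k + 1)).obj (ModuleCat.of R A)).mapIso
    e.toModuleIso).toLinearEquiv.toEquiv.symm.subsingleton

attribute [local instance] MvPolynomial.algebraMvPolynomial

/-- Tor-independent change of the base ring, for any pushout -/
theorem relPC_baseChange_pushout {R A R' A' : Type u} [CommRing R] [CommRing A] [CommRing R'] [CommRing A']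
    [Algebra R A] [Algebra.FiniteType R A] [Algebra R R'] [Algebra A A'] [Algebra R' A'] [Algebra R A']
    [IsScalarTower R A A'] [IsScalarTower R R' A'] [Algebra.IsPushout R A R' A']
    (htor : ∀ p : ℕ, 0 < p → Subsingleton (DRing.Tor R p A R'))
    [DRing.HasLBaseChange (algebraMap A A')] (K : Dual.D A) {m : ℤ}
    (hK : DerCA.IsRelPseudoCoherent R A m K) :
    DerCA.IsRelPseudoCoherent R' A' m ((DRing.LBaseChange (algebraMap A A')).obj K) := by
  obtain ⟨n, α, hα⟩ := Algebra.FiniteType.iff_quotient_mvPolynomial''.mp ‹Algebra.FiniteType R A›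
  let β : MvPolynomial (Fin n) R' →ₐ[R'] A' := MvPolynomial.aeval fun i => algebraMap A A' (α (X i))
  have hmap : ∀ p, β (MvPolynomial.map (algebraMap R R') p) = algebraMap A A' (α p) := by
    intro p
    have : (β : MvPolynomial (Fin n) R' →+* A').comp (MvPolynomial.map (algebraMap R R')) =
        (algebraMap A A').comp (α : MvPolynomial (Fin n) R →+* A) := by
      refine MvPolynomial.ringHom_ext (fun r => ?_) fun i => ?_
      · show β (MvPolynomial.map _ (C r)) = algebraMap A A' (α (C r))
        rw [map_C, MvPolynomial.aeval_C, ← MvPolynomial.algebraMap_eq, AlgHom.commutes,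
          ← IsScalarTower.algebraMap_apply R R' A']
        exact IsScalarTower.algebraMap_apply R A A' r
      · show β (MvPolynomial.map _ (X i)) = algebraMap A A' (α (X i))
        rw [map_X, MvPolynomial.aeval_X]
    exact RingHom.congr_fun this p
  haveI : Algebra.IsPushout R R' A A' := Algebra.IsPushout.symm inferInstance
  have hβ : Function.Surjective β := by
    intro z
    induction z using (Algebra.IsPushout.out (R := R) (S := R') (R' := A) (S' := A')).inductionOn with
    | zero => exact ⟨0, map_zero _⟩
    | tmul a =>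
      obtain ⟨p, rfl⟩ := hα a
      exact ⟨MvPolynomial.map (algebraMap R R') p, hmap p⟩
    | smul r z hz =>
      obtain ⟨p, rfl⟩ := hz
      exact ⟨r • p, map_smul β r p⟩
    | add x y hx hy =>
      obtain ⟨p, rfl⟩ := hx
      obtain ⟨q, rfl⟩ := hy
      exact ⟨p + q, map_add _ _ _⟩
  letI : Algebra (MvPolynomial (Fin n) R) A := (α : MvPolynomial (Fin n) R →+* A).toAlgebra
  haveI : IsScalarTower R (MvPolynomial (Fin n) R) A :=
    IsScalarTower.of_algebraMap_eq fun r => (α.commutes r).symm
  letI : Algebra (MvPolynomial (Fin n) R') A' := (β : MvPolynomial (Fin n) R' →+* A').toAlgebra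
  letI : Algebra (MvPolynomial (Fin n) R) A' :=
    ((algebraMap A A').comp (α : MvPolynomial (Fin n) R →+* A)).toAlgebra
  haveI : IsScalarTower (MvPolynomial (Fin n) R) A A' := IsScalarTower.of_algebraMap_eq fun _ => rfl
  haveI : IsScalarTower (MvPolynomial (Fin n) R) (MvPolynomial (Fin n) R') A' :=
    IsScalarTower.of_algebraMap_eq fun p => (hmap p).symm
  haveI : IsScalarTower R' (MvPolynomial (Fin n) R') A' :=
    IsScalarTower.of_algebraMap_eq fun r => (β.commutes r).symm
  haveI : IsScalarTower R (MvPolynomial (Fin n) R) A' := IsScalarTower.of_algebraMap_eq fun r => by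
    show _ = algebraMap A A' (α (algebraMap R _ r))
    rw [AlgHom.commutes, ← IsScalarTower.algebraMap_apply]
  haveI : IsScalarTower R (MvPolynomial (Fin n) R') A' := IsScalarTower.of_algebraMap_eq fun r => by
    rw [IsScalarTower.algebraMap_apply R R' (MvPolynomial (Fin n) R'),
      ← IsScalarTower.algebraMap_apply R' (MvPolynomial (Fin n) R') A',
      ← IsScalarTower.algebraMap_apply]
  haveI : Algebra.IsPushout R R' (MvPolynomial (Fin n) R) (MvPolynomial (Fin n) R') := inferInstance
  haveI : Algebra.IsPushout R (MvPolynomial (Fin n) R) R' (MvPolynomial (Fin n) R') := inferInstance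
  haveI : Algebra.IsPushout (MvPolynomial (Fin n) R) A (MvPolynomial (Fin n) R') A' :=
    (Algebra.IsPushout.comp_iff R (MvPolynomial (Fin n) R) R' (MvPolynomial (Fin n) R')).1 inferInstance
  haveI : Algebra.IsPushout (MvPolynomial (Fin n) R) (MvPolynomial (Fin n) R') A A' :=
    Algebra.IsPushout.symm inferInstance
  exact (Groth.DAlg.relPC_iff hβ).2 (Groth.DAlg.pcn_res_lBaseChange_torIndep (R := R)
    (P := MvPolynomial (Fin n) R) (R' := R') (P' := MvPolynomial (Fin n) R') (A := A) (A' := A')
    (fun p => ModuleCat.isZero_iff_subsingleton.2 (htor (p + 1) (Nat.succ_pos p)))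
    ((Groth.DAlg.relPC_iff hα).1 hK))

end Groth.RelPC
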