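import Groth.Agent.RelPC.LpullRel
import Groth.Agent.RelPC.TorIndepRing

/-!
Tor-independent base change of relative pseudo-coherence.
-/

set_option linter.style.haveILetI false

universe u

open CategoryTheory CategoryTheory.Limits AlgebraicGeometry TopologicalSpace

namespace Groth.RelPC

open Groth.KTheory.Perf (Rd)

attribute [local instance] HasDerivedCategory.standard hasLpull' hasLBase_all

variable {B X₂ Y₂ T M X' : Scheme.{u}}

/-- base change along a projection out of a fibre product over a base over which source and target are flat -/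
theorem rel_Lpull_torIndep {g : X' ⟶ X₂} {u : X' ⟶ M} {f : X₂ ⟶ Y₂} {m : M ⟶ Y₂} {m₁ : M ⟶ T}
    {q : Y₂ ⟶ B} {r : T ⟶ B} (sq : IsPullback g u f m) (base : IsPullback m m₁ q r)
    [Flat q] [Flat (f ≫ q)] [LocallyOfFiniteType f] {a : ℤ} {E : DCoh.D X₂} (hq : DCoh.IsQCohD E)
    (hE : DerSch.IsPseudoCoherentRel f a E) :
    DerSch.IsPseudoCoherentRel u a ((DCoh.Lpull g).obj E) := by
  haveI : LocallyOfFiniteType u := MorphismProperty.of_isPullback sq inferInstance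
  refine rel_of_local fun x => ?_
  obtain ⟨Vb, hVb, hxVb, -⟩ := exists_isAffineOpen_mem_and_subset (U := (⊤ : B.Opens)) (x := q (m (u x))) trivial
  obtain ⟨V, hV, hxV, hVVb⟩ := exists_isAffineOpen_mem_and_subset (U := q ⁻¹ᵁ Vb) (x := m (u x)) hxVb
  obtain ⟨W, hW, hxW, hWVb⟩ := exists_isAffineOpen_mem_and_subset (U := r ⁻¹ᵁ Vb) (x := m₁ (u x)) (by
    show r (m₁ (u x)) ∈ Vb
    rw [← Scheme.Hom.comp_apply, ← base.w, Scheme.Hom.comp_apply]
    exact hxVb)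
  obtain ⟨U, hU, hxU, hUV⟩ := exists_isAffineOpen_mem_and_subset (U := f ⁻¹ᵁ V) (x := g x) (by
    show f (g x) ∈ V
    rw [← Scheme.Hom.comp_apply, sq.w, Scheme.Hom.comp_apply]
    exact hxV)
  let V' : M.Opens := m ⁻¹ᵁ V ⊓ m₁ ⁻¹ᵁ W
  have hV' : IsAffineOpen V' :=
    letI : IsAffine _ := hV
    letI : IsAffine _ := hVb
    letI : IsAffine _ := hW
    .of_isIso (Scheme.Hom.isPullback_resLE base hWVb hVVb rfl).isoPullback.hom
  have eV : V' ≤ m ⁻¹ᵁ V := inf_le_left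
  have eW : V' ≤ m₁ ⁻¹ᵁ W := inf_le_right
  let U' : X'.Opens := g ⁻¹ᵁ U ⊓ u ⁻¹ᵁ V'
  have hU' : IsAffineOpen U' :=
    letI : IsAffine _ := hU
    letI : IsAffine _ := hV
    letI : IsAffine _ := hV'
    .of_isIso (Scheme.Hom.isPullback_resLE sq eV hUV rfl).isoPullback.hom
  have eU : U' ≤ g ⁻¹ᵁ U := inf_le_left
  have eu : U' ≤ u ⁻¹ᵁ V' := inf_le_right
  have H₁ := (isIso_pushoutSection_iff base hWVb hVVb rfl).1
    (isIso_pushoutSection_of_isAffineOpen base hWVb hVVb rfl hVb hW hV)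
  have H₂ := (isIso_pushoutSection_iff sq eV hUV rfl).1
    (isIso_pushoutSection_of_isAffineOpen sq eV hUV rfl hV hV' hU)
  refine ⟨U', V', ⟨hxU, hxV, hxW⟩, hU', hV', ?_⟩
  obtain ⟨N, hN⟩ := exists_sec hq hU
  refine (chartOn_iff_sec hU' hV' eu a (isSec_Lpull g hU' hU eU hN)).2 ?_
  have hN' := (chartOn_iff_sec hU hV hUV a hN).1 (chartOn_of_rel hE hU hV hUV)
  have hqU : U ≤ (f ≫ q) ⁻¹ᵁ Vb := hUV.trans (f.preimage_mono hVVb)
  letI := (f.appLE V U hUV).hom.toAlgebra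
  letI := (q.appLE Vb V hVVb).hom.toAlgebra
  letI := (r.appLE Vb W hWVb).hom.toAlgebra
  letI := (m.appLE V V' eV).hom.toAlgebra
  letI := (m₁.appLE W V' eW).hom.toAlgebra
  letI := (u.appLE V' U' eu).hom.toAlgebra
  letI := (g.appLE U U' eU).hom.toAlgebra
  letI : Algebra Γ(B, Vb) Γ(X₂, U) := ((f ≫ q).appLE Vb U hqU).hom.toAlgebra
  letI : Algebra Γ(B, Vb) Γ(M, V') := ((algebraMap Γ(Y₂, V) Γ(M, V')).comp (algebraMap Γ(B, Vb) Γ(Y₂, V))).toAlgebra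
  letI : Algebra Γ(Y₂, V) Γ(X', U') := ((algebraMap Γ(X₂, U) Γ(X', U')).comp (algebraMap Γ(Y₂, V) Γ(X₂, U))).toAlgebra
  haveI : IsScalarTower Γ(B, Vb) Γ(Y₂, V) Γ(X₂, U) := .of_algebraMap_eq'
    (congrArg CommRingCat.Hom.hom (Scheme.Hom.appLE_comp_appLE f q Vb V U hVVb hUV)).symm
  haveI : IsScalarTower Γ(B, Vb) Γ(Y₂, V) Γ(M, V') := .of_algebraMap_eq' rfl
  haveI : IsScalarTower Γ(B, Vb) Γ(T, W) Γ(M, V') :=
    .of_algebraMap_eq' (congrArg CommRingCat.Hom.hom H₁.w)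
  haveI : IsScalarTower Γ(Y₂, V) Γ(X₂, U) Γ(X', U') := .of_algebraMap_eq' rfl
  haveI : IsScalarTower Γ(Y₂, V) Γ(M, V') Γ(X', U') :=
    .of_algebraMap_eq' (congrArg CommRingCat.Hom.hom H₂.w)
  haveI : Algebra.IsPushout Γ(B, Vb) Γ(Y₂, V) Γ(T, W) Γ(M, V') :=
    CommRingCat.isPushout_iff_isPushout.1 H₁
  haveI : Algebra.IsPushout Γ(Y₂, V) Γ(X₂, U) Γ(M, V') Γ(X', U') :=
    CommRingCat.isPushout_iff_isPushout.1 H₂
  haveI : Module.Flat Γ(B, Vb) Γ(Y₂, V) := q.flat_appLE hVb hV hVVb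
  haveI : Module.Flat Γ(B, Vb) Γ(X₂, U) := (f ≫ q).flat_appLE hVb hU hqU
  haveI : Algebra.FiniteType Γ(Y₂, V) Γ(X₂, U) := f.finiteType_appLE hV hU hUV
  exact relPC_baseChange_pushout (fun p hp =>
    subsingleton_tor_of_flat (B := Γ(B, Vb)) (R := Γ(Y₂, V)) (C := Γ(T, W)) (R' := Γ(M, V'))
      (A := Γ(X₂, U)) p hp) N hN'

end Groth.RelPC
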