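import Groth.Agent.RelPC.Compose
import Groth.Agent.DerivedCoh.TotInduction
import Groth.Agent.DerivedCoh.KFlat.Factor
import Groth.Agent.DerivedCoh.KFlat.SchemeFactor

/-!
Tensor products of a pseudo-coherent complex with a relatively pseudo-coherent one.
-/

set_option linter.style.haveILetI false
set_option linter.unusedSectionVars false

universe u

open CategoryTheory CategoryTheory.Limits CategoryTheory.Pretriangulated AlgebraicGeometry HomologicalComplex

namespace Groth.RelPC

open Groth.DerivedCoh (KFlat.T KFlat.IsKFlat KFlat.tot KFlat.totL)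
open Groth.DerivedCoh.ExtZero (resCx)
open Groth.KTheory.Perf (Rd Rc rdQIso)
open Groth.DerivedCoh.PCoh (Near Below)
open Groth.DerivedCoh

attribute [local instance] HasDerivedCategory.standard

local notation "up" => ComplexShape.up ℤ

variable {P S : Scheme.{u}} {h : P ⟶ S} [LocallyOfFiniteType h] {m : ℤ}

theorem below_Q_of_isZero {C : CochainComplex P.Modules ℤ} {n : ℤ} (hC : ∀ i, n ≤ i → IsZero (C.X i)) :
    Below n (DCoh.toD P C) := fun k hk =>
  ((HomologicalComplex.exactAt_iff_isZero_homology _ _).1 (.of_isZero (hC k hk))).of_iso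
    ((DerivedCategory.homologyFunctorFactors _ k).app C)

theorem rel_ses {Sc : ShortComplex (CochainComplex P.Modules ℤ)} (hS : Sc.ShortExact)
    (h₁ : DerSch.IsPseudoCoherentRel h m (DCoh.toD P Sc.X₁))
    (h₃ : DerSch.IsPseudoCoherentRel h m (DCoh.toD P Sc.X₃)) :
    DerSch.IsPseudoCoherentRel h m (DCoh.toD P Sc.X₂) :=
  rel_obj₂ _ (DerivedCategory.triangleOfSES_distinguished hS) h₁ h₃

variable (M : CochainComplex P.Modules ℤ) {c : ℤ}

theorem rel_tot_zero {A : CochainComplex P.Modules ℤ} (hA : ∀ p, IsZero (A.X p)) :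
    DerSch.IsPseudoCoherentRel h m (DCoh.toD P (KFlat.tot (KFlat.T P) A M)) := by
  refine rel_of_below fun k _ => (DerivedCategory.homologyFunctor _ k).map_isZero
    (DerivedCategory.Q.map_isZero ?_)
  rw [IsZero.iff_id_eq_zero]
  refine HomologicalComplex.hom_ext _ _ fun n => mapBifunctor.hom_ext fun p q _ => ?_
  exact (((KFlat.T P).flip.obj (M.X q)).map_isZero (hA p)).eq_of_src _ _

theorem rel_tot_single_unit (hM : DerSch.IsPseudoCoherentRel h c (DCoh.toD P M)) (j : ℤ) (hj : c + j ≤ m) :
    DerSch.IsPseudoCoherentRel h m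
      (DCoh.toD P (KFlat.tot (KFlat.T P) ((single P.Modules up j).obj (Coh.structureModule P)) M)) := by
  let S₀ := (single P.Modules up 0).obj (Coh.structureModule P)
  let e₁ : (single P.Modules up j).obj (Coh.structureModule P) ≅ S₀⟦-j⟧ :=
    (((CochainComplex.singleFunctors P.Modules).shiftIso (-j) j 0 (by omega)).app
      (Coh.structureModule P)).symm
  let e₂ : DCoh.toD P (KFlat.tot (KFlat.T P) S₀ M) ≅ DCoh.toD P M :=
    DerivedCategory.Q.mapIso (Duality.brIso S₀ M ≪≫ Duality.totUnitIso (P := M))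
  exact rel_of_iso ((DerivedCategory.Q.commShiftIso (-j)).symm.app _ ≪≫
      DerivedCategory.Q.mapIso ((CochainComplex.mapBifunctorShift₁Iso S₀ M (KFlat.T P) (-j)).symm ≪≫
        (KFlat.totL (KFlat.T P) M).mapIso e₁.symm))
    (rel_mono (rel_shift (rel_of_iso e₂.symm hM) (-j) (c + j) (by omega)) hj)

theorem rel_tot_single_free (hM : DerSch.IsPseudoCoherentRel h c (DCoh.toD P M)) (j : ℤ) (hj : c + j ≤ m) :
    ∀ n : ℕ, DerSch.IsPseudoCoherentRel h m
      (DCoh.toD P (KFlat.tot (KFlat.T P) ((single P.Modules up j).obj (FlatMod.freeMod P n)) M))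
  | 0 => by
    refine rel_tot_zero M fun p => ?_
    have hz : IsZero (FlatMod.freeMod P 0) := by
      rw [IsZero.iff_id_eq_zero]
      exact Sigma.hom_ext _ _ fun i => i.elim0
    exact ((eval P.Modules up p).map_isZero ((single P.Modules up j).map_isZero hz))
  | n + 1 => by
    let O := Coh.structureModule P
    let ι := fun i => Sigma.ι (fun _ : Fin (n + 1) => O) i
    let Sc : ShortComplex P.Modules := ShortComplex.mk (X₁ := O) (X₂ := FlatMod.freeMod P (n + 1))
      (X₃ := FlatMod.freeMod P n) (ι 0)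
      (Sigma.desc (Fin.cases 0 fun i => Sigma.ι (fun _ : Fin n => O) i))
      (by exact Sigma.ι_desc _ _)
    let sp : Sc.Splitting :=
      { r := Sigma.desc (Fin.cases (𝟙 O) fun _ => 0)
        s := Sigma.desc fun i => ι i.succ
        f_r := Sigma.ι_desc _ _
        s_g := Sigma.hom_ext _ _ fun i => by
          rw [Sigma.ι_desc_assoc]
          exact (Sigma.ι_desc _ _).trans (Category.comp_id _).symm
        id := Sigma.hom_ext _ _ fun i => by
          rw [Preadditive.comp_add, ← Category.assoc, ← Category.assoc]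
          erw [Sigma.ι_desc, Sigma.ι_desc]
          induction i using Fin.cases with
          | zero => simp only [Fin.cases_zero, zero_comp, add_zero]
                    exact (Category.comp_id _).symm
          | succ i => simp only [Fin.cases_succ, zero_comp, zero_add]
                      erw [Sigma.ι_desc]
                      exact (Category.comp_id _).symm }
    have hS : ((Sc.map (single P.Modules up j)).map (KFlat.totL (KFlat.T P) M)).ShortExact :=
      KFlat.shortExact_totL (KFlat.T P) M _ fun p q =>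
        (((sp.map (single P.Modules up j)).map (eval P.Modules up p)).map
          ((KFlat.T P).flip.obj (M.X q))).shortExact
    exact rel_ses hS (rel_tot_single_unit M hM j hj) (rel_tot_single_free hM j hj n)

/-- `E ⊗ M` for a bounded complex `E` of finite free modules -/
theorem rel_tot_free (hM : DerSch.IsPseudoCoherentRel h c (DCoh.toD P M)) (E : CochainComplex P.Modules ℤ)
    {a b : ℤ} (hab : DCoh.VanishesOutside E a b) (hb : c + b ≤ m)
    (hfree : ∀ i ∈ Finset.Icc a b, ∃ n : ℕ, Nonempty (E.X i ≅ FlatMod.freeMod P n)) :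
    DerSch.IsPseudoCoherentRel h m (DCoh.toD P (KFlat.tot (KFlat.T P) E M)) := by
  have hge : ∀ (d : ℕ) (k : ℤ), b < k + d →
      DerSch.IsPseudoCoherentRel h m (DCoh.toD P (KFlat.tot (KFlat.T P) (KFlat.ge E k) M)) := by
    intro d
    induction d with
    | zero =>
      intro k hk
      refine rel_tot_zero M fun p => ?_
      by_cases hp : k ≤ p
      · exact (hab p (.inr (by omega))).of_iso (@asIso _ _ _ _ (KFlat.geι E k p) (KFlat.isIso_geι E hp))
      · exact KFlat.isZero_geX E (by omega)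
    | succ d ih =>
      intro k hk
      have hS : ((KFlat.geSC E k).map (KFlat.totL (KFlat.T P) M)).ShortExact :=
        KFlat.shortExact_totL (KFlat.T P) M _ fun p q =>
          ((KFlat.geSplitting E k p).map ((KFlat.T P).flip.obj (M.X q))).shortExact
      refine rel_ses hS (ih (k + 1) (by omega)) ?_
      by_cases hk' : k ∈ Finset.Icc a b
      · obtain ⟨n, ⟨e⟩⟩ := hfree k hk'
        let e' : KFlat.tot (KFlat.T P) ((single P.Modules up k).obj (FlatMod.freeMod P n)) M ≅
            KFlat.tot (KFlat.T P) ((single P.Modules up k).obj (E.X k)) M :=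
          (KFlat.totL (KFlat.T P) M).mapIso ((single P.Modules up k).mapIso e.symm)
        have h₃ : DerSch.IsPseudoCoherentRel h m
            (DCoh.toD P (KFlat.tot (KFlat.T P) ((single P.Modules up k).obj (E.X k)) M)) :=
          rel_of_iso (DerivedCategory.Q.mapIso e') (rel_tot_single_free M hM k
            (by simp only [Finset.mem_Icc] at hk'; omega) n)
        exact h₃
      · simp only [Finset.mem_Icc, not_and_or, not_le] at hk'
        exact rel_tot_zero M fun p =>
          (eval P.Modules up p).map_isZero ((single P.Modules up k).map_isZero (hab k hk'))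
  haveI : ∀ p, IsIso ((KFlat.geHom E a).f p) := fun p => by
    by_cases hp : a ≤ p
    · exact KFlat.isIso_geι E hp
    · exact ⟨0, (KFlat.isZero_geX E (by omega)).eq_of_src _ _,
        (hab p (.inl (by omega))).eq_of_src _ _⟩
  haveI : IsIso (KFlat.geHom E a) := HomologicalComplex.Hom.isIso_of_components _
  let e' : KFlat.tot (KFlat.T P) (KFlat.ge E a) M ≅ KFlat.tot (KFlat.T P) E M :=
    (KFlat.totL (KFlat.T P) M).mapIso (asIso (KFlat.geHom E a))
  exact rel_of_iso (DerivedCategory.Q.mapIso e') (hge (b + 1 - a).toNat a (by omega))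

/-- `E ⊗ M` for a bounded complex `E` of finite locally free modules -/
theorem rel_tot_finLocFree (hM : DerSch.IsPseudoCoherentRel h c (DCoh.toD P M))
    (E : CochainComplex P.Modules ℤ) {a b : ℤ} (hab : DCoh.VanishesOutside E a b) (hb : c + b ≤ m)
    (hfl : ∀ i, FlatMod.IsFinLocFree (E.X i)) :
    DerSch.IsPseudoCoherentRel h m (DCoh.toD P (KFlat.tot (KFlat.T P) E M)) := by
  choose W hx hfree using fun x =>
    Groth.KTheory.Perf.exists_free_nhd E (Finset.Icc a b) (fun i _ => hfl i) x
  refine rel_of_cover h W (eq_top_iff.2 fun x _ => TopologicalSpace.Opens.mem_iSup.2 ⟨x, hx x⟩) fun x => ?_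
  let E' := (resCx (W x).ι).obj E
  let M' := (resCx (W x).ι).obj M
  have hM' : DerSch.IsPseudoCoherentRel ((W x).ι ≫ h) c (DCoh.toD _ M') :=
    rel_of_iso (rdQIso (W x).ι M) (rel_rd (W x).ι h hM)
  refine rel_of_iso (DerivedCategory.Q.mapIso (Duality.rtR E (W x).ι M) ≪≫ (rdQIso (W x).ι _).symm) ?_
  exact rel_tot_free M' hM' E' (fun i hi => (Scheme.Modules.restrictFunctor (W x).ι).map_isZero (hab i hi)) hb
    (hfree x)

omit [LocallyOfFiniteType h] in
theorem below_tot {C M : CochainComplex P.Modules ℤ} (hM : KFlat.IsKFlat (KFlat.T P) M) {b d : ℤ}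
    (hC : Below b (DCoh.toD P C)) (hd : ∀ q, d < q → IsZero (M.X q)) :
    Below (b + d) (DCoh.toD P (KFlat.tot (KFlat.T P) C M)) := by
  have hex : ∀ i, b - 1 < i → C.ExactAt i := fun i hi => by
    rw [HomologicalComplex.exactAt_iff_isZero_homology]
    exact (hC i (by omega)).of_iso ((DerivedCategory.homologyFunctorFactors _ i).app C).symm
  haveI : C.IsLE (b - 1) := (CochainComplex.isLE_iff C (b - 1)).2 hex
  haveI : QuasiIso (C.ιTruncLE (b - 1)) := (C.quasiIso_ιTruncLE_iff (b - 1)).2 inferInstance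
  have hq := (DerivedCategory.isIso_Q_map_iff_quasiIso _
    ((KFlat.totL (KFlat.T P) M).map (C.ιTruncLE (b - 1)))).2 (hM.quasiIso_totL _)
  have h0 : Below (b + d) (DCoh.toD P (KFlat.tot (KFlat.T P) (C.truncLE (b - 1)) M)) := by
    refine below_Q_of_isZero fun n hn => ?_
    rw [IsZero.iff_id_eq_zero]
    refine mapBifunctor.hom_ext fun p q hpq => ?_
    simp at hpq
    by_cases hp : b - 1 < p
    · exact (((KFlat.T P).flip.obj (M.X q)).map_isZero
        ((C.truncLE (b - 1)).isZero_of_isStrictlyLE (b - 1) p hp)).eq_of_src _ _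
    · exact (((KFlat.T P).obj ((C.truncLE (b - 1)).X p)).map_isZero (hd q (by omega))).eq_of_src _ _
  exact fun k hk => (h0 k hk).of_iso
    ((DerivedCategory.homologyFunctor _ k).mapIso (@asIso _ _ _ _ _ hq)).symm

theorem isKFlat_resCx {U : Scheme.{u}} (j : U ⟶ P) [IsOpenImmersion j] {M : CochainComplex P.Modules ℤ}
    {d : ℤ} (hd : ∀ q, d < q → IsZero (M.X q)) (hfl : ∀ q, FlatMod.IsFlat (M.X q)) :
    KFlat.IsKFlat (KFlat.T U) ((resCx j).obj M) :=
  KFlat.isKFlat_of_flat _ _ d (fun q hq => (Scheme.Modules.restrictFunctor j).map_isZero (hd q hq)) fun q =>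
    KFlat.flat_of_isFlat (Groth.DerivedCoh.PCoh.isFlat_restrict j (hfl q))

/-- flat bounded above models -/
theorem exists_flat_model (G : DCoh.D P) {d : ℤ} (hG : Below (d + 1) G) :
    ∃ M : CochainComplex P.Modules ℤ, (∀ q, d < q → IsZero (M.X q)) ∧ (∀ q, FlatMod.IsFlat (M.X q)) ∧
      KFlat.IsKFlat (KFlat.T P) M ∧ Nonempty (DCoh.toD P M ≅ G) := by
  obtain ⟨C, ⟨e⟩⟩ := Groth.KTheory.Perf.exists_rep G
  have hex : ∀ i, d < i → C.ExactAt i := fun i hi => by
    rw [HomologicalComplex.exactAt_iff_isZero_homology]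
    exact (hG i (by omega)).of_iso (((DerivedCategory.homologyFunctorFactors _ i).app C).symm ≪≫
      (DerivedCategory.homologyFunctor _ i).mapIso e)
  haveI : C.IsLE d := (CochainComplex.isLE_iff C d).2 hex
  haveI : QuasiIso (C.ιTruncLE d) := (C.quasiIso_ιTruncLE_iff d).2 inferInstance
  let V := KFlat.schemeCover P
  let C' := C.truncLE d
  have h0 : ∀ p, d < p → IsZero (C'.X p) := fun p hp => C'.isZero_of_isStrictlyLE d p hp
  have := V.quasiIso_resAug C' d h0
  have hfl : ∀ q, FlatMod.IsFlat ((V.res.obj C').X q) := fun q =>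
    V.res_X_prop FlatMod.IsFlat KFlat.isFlat_coverObj (fun _ => KFlat.isFlat_of_isZero)
      (fun e h => Groth.CohTwo.isFlat_of_iso e.symm h) KFlat.isFlat_sigma₀ C' q
  refine ⟨V.res.obj C', fun q hq => V.res_X_zero C' d h0 q hq, hfl,
    KFlat.isKFlat_of_flat _ _ d (fun q hq => V.res_X_zero C' d h0 q hq) fun q => KFlat.flat_of_isFlat (hfl q), ?_⟩
  have h₁ := (DerivedCategory.isIso_Q_map_iff_quasiIso _ (V.resAug.app C')).2 inferInstance
  have h₂ := (DerivedCategory.isIso_Q_map_iff_quasiIso _ (C.ιTruncLE d)).2 inferInstance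
  exact ⟨@asIso _ _ _ _ _ h₁ ≪≫ @asIso _ _ _ _ _ h₂ ≪≫ e⟩

/-- a pseudo-coherent complex tensored with a relatively pseudo-coherent one -/
theorem rel_tot_of_pcD {a b c d : ℤ} (C : CochainComplex P.Modules ℤ)
    (hC : DCoh.IsPseudoCoherentD a (DCoh.toD P C)) (hb : Below (b + 1) (DCoh.toD P C))
    (M : CochainComplex P.Modules ℤ) (hK : KFlat.IsKFlat (KFlat.T P) M) (hd : ∀ q, d < q → IsZero (M.X q))
    (hfl : ∀ q, FlatMod.IsFlat (M.X q)) (hM : DerSch.IsPseudoCoherentRel h c (DCoh.toD P M)) :
    DerSch.IsPseudoCoherentRel h (max (a + d) (b + c)) (DCoh.toD P (KFlat.tot (KFlat.T P) C M)) := by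
  rcases lt_or_ge b a with hab | hab
  · exact rel_of_below fun k hk => below_tot hK hb hd k (by omega)
  choose V hx E α hE hα using (Groth.DerivedCoh.PCoh.isPseudoCoherentD_iff a _).1 hC
  refine rel_of_cover h V (eq_top_iff.2 fun x _ => TopologicalSpace.Opens.mem_iSup.2 ⟨x, hx x⟩) fun x => ?_
  let C' := (resCx (V x).ι).obj C
  let M' := (resCx (V x).ι).obj M
  have hM' : DerSch.IsPseudoCoherentRel ((V x).ι ≫ h) c (DCoh.toD _ M') :=
    rel_of_iso (rdQIso (V x).ι M) (rel_rd (V x).ι h hM)
  have hd' : ∀ q, d < q → IsZero (M'.X q) := fun q hq =>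
    (Scheme.Modules.restrictFunctor (V x).ι).map_isZero (hd q hq)
  have hK' : KFlat.IsKFlat (KFlat.T (V x : Scheme.{u})) M' := isKFlat_resCx (V x).ι hd hfl
  let α' : DCoh.toD _ (E x) ⟶ DCoh.toD _ C' := α x ≫ (rdQIso (V x).ι C).hom
  have hα' : Near a α' := (hα x).comp (Groth.DerivedCoh.PCoh.near_of_isIso _)
  have hbC : Below (b + 1) (DCoh.toD _ C') := fun k hk =>
    (Groth.DerivedCoh.PCoh.below_rd (V x).ι hb k hk).of_iso
      ((DerivedCategory.homologyFunctor _ k).mapIso (rdQIso (V x).ι C).symm)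
  refine rel_of_iso (DerivedCategory.Q.mapIso (Duality.rtR C (V x).ι M) ≪≫ (rdQIso (V x).ι _).symm) ?_
  show DerSch.IsPseudoCoherentRel ((V x).ι ≫ h) (max (a + d) (b + c))
    (DCoh.toD _ (KFlat.tot (KFlat.T _) C' M'))
  clear_value α' C' M'
  have hE := hE x
  generalize E x = E' at α' hα' hE
  have hex : ∀ i, b < i → E'.ExactAt i := fun i hi => by
    rw [HomologicalComplex.exactAt_iff_isZero_homology]
    have := hα'.1 i (by omega)
    exact (hbC i (by omega)).of_iso
      (((DerivedCategory.homologyFunctorFactors _ i).app E').symm ≪≫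
        asIso ((DerivedCategory.homologyFunctor _ i).map α'))
  haveI : E'.IsLE b := (CochainComplex.isLE_iff E' b).2 hex
  haveI : QuasiIso (E'.ιTruncLE b) := (E'.quasiIso_ιTruncLE_iff b).2 inferInstance
  obtain ⟨⟨a₀, b₀, hE0⟩, hEfl⟩ := hE
  have hfl' : ∀ i, FlatMod.IsFinLocFree ((E'.truncLE b).X i) := fun i => by
    rcases lt_trichotomy i b with hi | rfl | hi
    · exact Groth.KTheory.LocFree.isFinLocFree_of_iso (E'.truncLEXIso b i hi).symm (hEfl i)
    · exact Groth.KTheory.LocFree.isFinLocFree_of_iso (E'.truncLEXIsoCycles i).symm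
        (Groth.DerivedCoh.PCoh.isFinLocFree_cycles ⟨⟨a₀, b₀, hE0⟩, hEfl⟩ i hex le_rfl)
    · exact Groth.KTheory.LocFree.isFinLocFree_zero ((E'.truncLE b).isZero_of_isStrictlyLE b i hi)
  have hvan : DCoh.VanishesOutside (E'.truncLE b) (min a₀ b) b := fun i hi => by
    rcases hi with hi | hi
    · exact (hE0 i (.inl (by omega))).of_iso (E'.truncLEXIso b i (by omega))
    · exact (E'.truncLE b).isZero_of_isStrictlyLE b i hi
  obtain ⟨X', s, hs, g, hfac⟩ := DerivedCategory.right_fac α'
  have hsq : QuasiIso s := (DerivedCategory.isIso_Q_map_iff_quasiIso _ s).1 hs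
  have h₁ := (DerivedCategory.isIso_Q_map_iff_quasiIso _
    ((KFlat.totL (KFlat.T _) M').map (E'.ιTruncLE b))).2 (hK'.quasiIso_totL _)
  have h₂ := (DerivedCategory.isIso_Q_map_iff_quasiIso _
    ((KFlat.totL (KFlat.T _) M').map s)).2 (hK'.quasiIso_totL _)
  have hX' : DerSch.IsPseudoCoherentRel ((V x).ι ≫ h) (max (a + d) (b + c))
      (DCoh.toD _ (KFlat.tot (KFlat.T _) X' M')) :=
    rel_of_iso (@asIso _ _ _ _ _ h₁ ≪≫ (@asIso _ _ _ _ _ h₂).symm)
      (rel_tot_finLocFree M' hM' _ hvan (le_trans (by omega) (le_max_right _ _)) hfl')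
  have hg : Near a (DerivedCategory.Q.map g) := by
    have h' : DerivedCategory.Q.map g = DerivedCategory.Q.map s ≫ α' := by
      rw [hfac, IsIso.hom_inv_id_assoc]
    rw [h']
    exact (Groth.DerivedCoh.PCoh.near_of_isIso _).comp hα'
  have hcone : Below a (DCoh.toD _ (CochainComplex.mappingCone g)) :=
    Groth.DerivedCoh.PCoh.below_of_near _ (DerivedCategory.mappingCone_triangle_distinguished g) hg
  have hS : ((KFlat.coneSC g).map (KFlat.totL (KFlat.T _) M')).ShortExact :=
    KFlat.shortExact_totL (KFlat.T _) M' _ fun p q =>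
      ((KFlat.coneSplitting g p).map ((KFlat.T _).flip.obj (M'.X q))).shortExact
  have hsh : DerSch.IsPseudoCoherentRel ((V x).ι ≫ h) (max (a + d) (b + c) - 1)
      (DCoh.toD _ (KFlat.tot (KFlat.T _) (X'⟦(1 : ℤ)⟧) M')) :=
    rel_of_iso (((DerivedCategory.Q.commShiftIso (1 : ℤ)).app _).symm ≪≫
        DerivedCategory.Q.mapIso (CochainComplex.mapBifunctorShift₁Iso X' M' (KFlat.T _) 1).symm)
      (rel_shift hX' 1 _ rfl)
  have := rel_obj₁ (m := max (a + d) (b + c) - 1) _ (DerivedCategory.triangleOfSES_distinguished hS)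
    (rel_of_below fun k hk => below_tot hK' hcone hd' k (by omega)) hsh
  rwa [sub_add_cancel] at this

end Groth.RelPC
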